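import Cfsg.Agent.H825.SpinMain

/-!
# The spin modules of dimension eight are orthogonal (helper825)
-/

set_option autoImplicit false
set_option linter.unusedSectionVars false

namespace Cfsg.Agent.H825.Spin

open Cfsg Cfsg.Geo Matrix H915.LD Lib.AltCarmichael Module

universe u v w

theorem exists_rad {F : Type u} [Field F] {V : Type v} [AddCommGroup V] [Module F V] [FiniteDimensional F V]
    {P : Type w} [Group P] {ρ : P →* Module.End F V} {z a b c d σ : P} (h : Cfg z a b c d σ) (hz : ρ z = -1)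
    (h2 : (2 : F) ≠ 0) (h8 : finrank F V = 8) {f : V → V → F} (hadd : ∀ u v w, f u (v + w) = f u v + f u w)
    (hsm : ∀ (r : F) u v, f u (r • v) = r * f u v) (hself : ∀ v, f v v = 0)
    (hfix : ∀ x v w, f (ρ x v) (ρ x w) = f v w) : ∃ v, v ≠ 0 ∧ ∀ w, f v w = 0 := by
  have hxx := h.uni.xx
  have hyy := h.uni.yy
  have htt := h.u1.yy
  have hxy := h.uni.comm
  have hxt := h.u1.comm
  have hyt := h.s2
  obtain ⟨hd, -⟩ := eight (ρ := ρ) h.uni h.u1 h.u2 hyt hz h2
  set x := a * b * (c * d) with hx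
  set y := a⁻¹ * b * a⁻¹ * (c⁻¹ * d * c⁻¹) with hy
  rw [h8] at hd
  have h1 : finrank F (E ρ x 1 ⊓ E ρ y 1 ⊓ E ρ σ 1 : Submodule F V) = 1 := by omega
  obtain ⟨v, hv0, hv⟩ := finrank_eq_one_iff'.1 h1
  have hv1 : ρ x v = v := by
    have := mem_E.1 v.2.1.1
    rwa [one_smul] at this
  have hv2 : ρ y v = v := by
    have := mem_E.1 v.2.1.2
    rwa [one_smul] at this
  have hv3 : ρ σ v = v := by
    have := mem_E.1 v.2.2
    rwa [one_smul] at this
  refine ⟨v, fun h => hv0 (Subtype.ext h), ?_⟩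
  have key : ∀ t : P, ρ t (v : V) = v → t * t = 1 → ∀ w, f v (w + ρ t w) = 2 * f v w := by
    intro t ht htt w
    have h3 : f (v : V) (ρ t w) = f v w := by
      nth_rewrite 1 [← ht]
      exact hfix t v w
    rw [hadd, h3, two_mul]
  intro w
  set w1 := w + ρ x w with hw1
  set w2 := w1 + ρ y w1 with hw2
  set w3 := w2 + ρ σ w2 with hw3
  have e : f v w3 = 8 * f v w := by
    rw [hw3, key σ hv3 htt, hw2, key y hv2 hyy, hw1, key x hv1 hxx]
    ring
  have sw : ∀ s t : P, s * t = t * s → ∀ u, ρ s (ρ t u) = ρ t (ρ s u) := by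
    intro s t hst u
    rw [← rho_mul, ← rho_mul, hst]
  have sq : ∀ s : P, s * s = 1 → ∀ u, ρ s (ρ s u) = u := by
    intro s hs u
    rw [← rho_mul, hs, map_one]; rfl
  have f1 : ρ x w1 = w1 := by rw [hw1, map_add, sq x hxx, add_comm]
  have f2 : ρ x w2 = w2 := by rw [hw2, map_add, sw x y hxy, f1]
  have f3 : ρ x w3 = w3 := by rw [hw3, map_add, sw x σ hxt, f2]
  have f4 : ρ y w2 = w2 := by rw [hw2, map_add, sq y hyy, add_comm]
  have f5 : ρ y w3 = w3 := by rw [hw3, map_add, sw y σ hyt, f4]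
  have f6 : ρ σ w3 = w3 := by rw [hw3, map_add, sq σ htt, add_comm]
  have hw3m : w3 ∈ (E ρ x 1 ⊓ E ρ y 1 ⊓ E ρ σ 1 : Submodule F V) :=
    ⟨⟨mem_E.2 (by rw [f3, one_smul]), mem_E.2 (by rw [f5, one_smul])⟩, mem_E.2 (by rw [f6, one_smul])⟩
  obtain ⟨r, hr⟩ := hv ⟨w3, hw3m⟩
  have hr' : w3 = r • (v : V) := (congrArg Subtype.val hr).symm
  have e2 : f v w3 = 0 := by rw [hr', hsm, hself, mul_zero]
  rw [e] at e2
  have h8' : (8 : F) ≠ 0 := by
    have : (8 : F) = 2 ^ 3 := by norm_num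
    rw [this]
    exact pow_ne_zero _ h2
  exact (mul_eq_zero.1 e2).resolve_left h8'

variable {ι : Type} [Fintype ι] [DecidableEq ι] {F : Type u} [Field F] {P : Subgroup (GL ι F)} {m : ℕ}

/-- the spin modules of dimension eight fix no alternating form -/
theorem not_fixA [Finite F] (hC : Core P)
    (e : Soc P ≃* alternatingGroup (Fin m)) (hm : 8 ≤ m) (hn : Fintype.card ι ≤ 12)
    (hsc : (scalars ι F).subgroupOf P ≠ ⊥) : ¬ FixA P := by
  rintro ⟨f, hf, hfix⟩
  have hne := hC.nonempty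
  obtain ⟨h2, z, hz, hzm, hz1, hz'⟩ := (scalars_cases hC e hm).resolve_left hsc
  obtain ⟨N, rfl⟩ : ∃ N, m = N + 2 := ⟨m - 2, by omega⟩
  have D := dc_of e hz hzm hz'
  have hN : 6 ≤ N := by omega
  have hsg := prm_sign e
  have B := dbl D hN hsg hz1 hC.commutator_top
  have hzρ : rep P z = -1 := by
    rw [rep_apply, hz, map_neg, Matrix.toLin'_one]; rfl
  have hfin : Module.finrank F (ι → F) = Fintype.card ι := Module.finrank_fintype_fun_eq_card F
  obtain ⟨h8, h3⟩ := main (ρ := rep P) D (embHom_sign (emb N hN)) B hzρ h2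
    (by rw [hfin]; exact Fintype.card_ne_zero) (by rw [hfin]; exact hn)
  have hsgf := embHom_sign (emb N hN)
  obtain ⟨a, ha, ha3⟩ := D.exists_lift (c := Equiv.Perm.viaEmbeddingHom (emb N hN) c0)
    (by rw [← map_mul, ← map_mul, p5, map_one]) (by rw [hsgf, p22])
  obtain ⟨b, hb, hb3⟩ := D.exists_lift (c := Equiv.Perm.viaEmbeddingHom (emb N hN) d0)
    (by rw [← map_mul, ← map_mul, q6, map_one]) (by rw [hsgf, q8])
  obtain ⟨c, hc, hc3⟩ := D.exists_lift (c := Equiv.Perm.viaEmbeddingHom (emb N hN) c4)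
    (by rw [← map_mul, ← map_mul, q5, map_one]) (by rw [hsgf, q9])
  obtain ⟨d, hd, hd3⟩ := D.exists_lift (c := Equiv.Perm.viaEmbeddingHom (emb N hN) d4)
    (by rw [← map_mul, ← map_mul, q7, map_one]) (by rw [hsgf, q10])
  obtain ⟨σ, h⟩ := exists_cfg D hsgf B ha hb hc hd ha3 hb3 hc3 hd3
  obtain ⟨v, hv0, hv⟩ := exists_rad (ρ := rep P) h hzρ h2 h8 (f := f) hf.bilinear.add_right hf.bilinear.smul_right
    hf.alternating (fun x v w => hfix _ ⟨x, x.2, rfl⟩ v w)
  obtain ⟨w, hw⟩ := (hf.nondegenerate v hv0).2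
  exact hw (hv w)

/-- **Double covers of `A_m`, `m ≥ 8`, dimension at most `12`** -/
theorem spin_fixQ [Finite F] (hC : Core P) (p : ℕ) [hp : Fact p.Prime] [CharP F p]
    (e : Soc P ≃* alternatingGroup (Fin m)) (hm : 8 ≤ m) (hn : Fintype.card ι ≤ 12)
    (hsc : (scalars ι F).subgroupOf P ≠ ⊥) : FixQ P :=
  (hC.forms_of_sd (spin_core hC p e hm hn hsc).2.2.2.1).resolve_right (not_fixA hC e hm hn hsc)

theorem spin_card [Fintype F] (hC : Core P) (p : ℕ) [hp : Fact p.Prime] [CharP F p]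
    (e : Soc P ≃* alternatingGroup (Fin m)) (hm : 8 ≤ m) (hn : Fintype.card ι ≤ 12)
    (hsc : (scalars ι F).subgroupOf P ≠ ⊥) : Fintype.card F = p :=
  hC.card_eq p (spin_core hC p e hm hn hsc).2.2.2.2

/-- in dimension different from eight the scalars are trivial -/
theorem scalars_eq_bot [Finite F] (hC : Core P) (p : ℕ) [hp : Fact p.Prime] [CharP F p]
    (e : Soc P ≃* alternatingGroup (Fin m)) (hm : 8 ≤ m) (hn : Fintype.card ι ≤ 12) (h8 : Fintype.card ι ≠ 8) :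
    (scalars ι F).subgroupOf P = ⊥ := by
  by_contra h
  exact h8 (spin_core hC p e hm hn h).1

/-- **Reduction**: a core with simple quotient `A_m`, `m ≥ 8`, in dimension at most `12` is `A_m` itself, or the
dimension is eight and `m ≤ 9`, or `m = 10` and `p = 5`. -/
theorem alt_red [Finite F] (hC : Core P) (p : ℕ) [hp : Fact p.Prime] [CharP F p]
    (e : Soc P ≃* alternatingGroup (Fin m)) (hm : 8 ≤ m) (hn : Fintype.card ι ≤ 12) :
    (∃ e' : P ≃* alternatingGroup (Fin m), ∀ x, e' x = e (toSoc P x)) ∨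
      (Fintype.card ι = 8 ∧ (m = 8 ∨ m = 9 ∨ (m = 10 ∧ p = 5)) ∧ p ≠ 2 ∧ SD P ∧ Fr P p ∧ FixQ P ∧ ¬ FixA P) := by
  by_cases hsc : (scalars ι F).subgroupOf P = ⊥
  · exact Or.inl (equiv_of_scalars e hsc)
  · obtain ⟨h1, h2, h3, h4, h5⟩ := spin_core hC p e hm hn hsc
    exact Or.inr ⟨h1, h2, h3, h4, h5, spin_fixQ hC p e hm hn hsc, not_fixA hC e hm hn hsc⟩

end Cfsg.Agent.H825.Spin
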