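import Mathlib
import Cfsg.Agent.S1230
import Cfsg.Agent.S0205

/-!
# The elementary abelian case of S3322
-/

set_option autoImplicit false

open scoped Pointwise

namespace Cfsg.Agent.H825.CaseE

/-- a finite group with a normal Sylow 2-subgroup is solvable -/
theorem isSolvable_of_normal_sylow {G : Type*} [Group G] [Finite G] (T : Sylow 2 G)
    (h : (T : Subgroup G).Normal) : Group.IsSolvable G := by
  have : Fact (Nat.Prime 2) := ⟨Nat.prime_two⟩
  have hodd : Odd (Nat.card (G ⧸ (T : Subgroup G))) := by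
    have h1 : ¬ 2 ∣ (T : Subgroup G).index := T.not_dvd_index
    rw [← Nat.not_even_iff_odd, even_iff_two_dvd]
    exact h1
  have h2 : Group.IsSolvable (G ⧸ (T : Subgroup G)) := Cfsg.Agent.S0205.result hodd
  have h3 : Group.IsNilpotent (T : Subgroup G) := T.isPGroup'.isNilpotent
  have h4 : Group.IsSolvable (T : Subgroup G) := inferInstance
  exact (Group.isSolvable_iff_subgroup_quotient (T : Subgroup G)).2 ⟨h4, h2⟩

theorem main {G : Type*} [Group G] [Finite G] (H : Subgroup G) (h4 : 4 ≤ Nat.card H)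
    (hsq : ∀ x ∈ H, x * x = 1)
    (hC : ∀ j ∈ H, j ≠ 1 → Subgroup.centralizer ({j} : Set G) = H)
    (hns : ¬ Group.IsSolvable G) :
    ∃ (F : Type) (_ : Field F) (_ : Fintype F), 3 < Fintype.card F ∧
        Nonempty (G ≃* Matrix.ProjectiveSpecialLinearGroup (Fin 2) F) := by
  classical
  have : Fact (Nat.Prime 2) := ⟨Nat.prime_two⟩
  have hcomm : ∀ x ∈ H, ∀ y ∈ H, x * y = y * x := by
    intro x hx y hy
    have h1 := hsq _ (H.mul_mem hx hy)
    have h2 := hsq x hx
    have h3 := hsq y hy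
    have hx' : x⁻¹ = x := inv_eq_iff_mul_eq_one.2 h2
    have hy' : y⁻¹ = y := inv_eq_iff_mul_eq_one.2 h3
    have h4 : (x * y)⁻¹ = x * y := inv_eq_iff_mul_eq_one.2 h1
    rw [mul_inv_rev, hx', hy'] at h4
    exact h4.symm
  have hp : IsPGroup 2 H := by
    intro x
    refine ⟨1, ?_⟩
    apply Subtype.ext
    simpa [pow_two] using hsq x x.2
  obtain ⟨T, hT⟩ := hp.exists_le_sylow
  obtain ⟨v, hv1⟩ : ∃ v : H, v ≠ 1 := by
    by_contra h
    push Not at h
    have : Nat.card H ≤ 1 := by
      have : Subsingleton H := ⟨fun a b => by rw [h a, h b]⟩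
      exact (Nat.card_of_subsingleton (1 : H)).le
    omega
  have hv1' : (v : G) ≠ 1 := fun h => hv1 (Subtype.ext h)
  have hTnt : Nontrivial (T : Subgroup G) :=
    ⟨⟨⟨v, hT v.2⟩, 1, fun h => hv1' (congrArg Subtype.val h)⟩⟩
  have hcn : Nontrivial (Subgroup.center (T : Subgroup G)) := T.isPGroup'.center_nontrivial
  obtain ⟨z, hz⟩ := exists_ne (1 : Subgroup.center (T : Subgroup G))
  have hz1 : ((z : (T : Subgroup G)) : G) ≠ 1 := by
    intro h
    exact hz (Subtype.ext (Subtype.ext h))
  have hzH : ((z : (T : Subgroup G)) : G) ∈ H := by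
    rw [← hC v v.2 hv1', Subgroup.mem_centralizer_singleton_iff]
    have h1 := Subgroup.mem_center_iff.1 z.2 ⟨v, hT v.2⟩
    exact (congrArg Subtype.val h1).symm
  have hTH : (T : Subgroup G) = H := by
    apply le_antisymm _ hT
    intro x hx
    rw [← hC _ hzH hz1, Subgroup.mem_centralizer_singleton_iff]
    have h1 := Subgroup.mem_center_iff.1 z.2 ⟨x, hx⟩
    exact congrArg Subtype.val h1
  have hnc : ¬ IsCyclic (T : Subgroup G) := by
    rw [hTH]
    intro hcy
    obtain ⟨g, hg⟩ := hcy.exists_generator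
    have h1 : orderOf g = Nat.card H := orderOf_eq_card_of_forall_mem_zpowers hg
    have h2 : orderOf g ∣ 2 := by
      rw [orderOf_dvd_iff_pow_eq_one]
      apply Subtype.ext
      simpa [pow_two] using hsq g g.2
    have := Nat.le_of_dvd (by norm_num) h2
    omega
  have hnn : ¬ (T : Subgroup G).Normal := fun h => hns (isSolvable_of_normal_sylow T h)
  have hC' : ∀ t : G, orderOf t = 2 → IsMulCommutative (Subgroup.centralizer ({t} : Set G)) ∧
      ∀ c ∈ Subgroup.centralizer ({t} : Set G), c ^ 2 = 1 := by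
    intro t ht
    have htp : IsPGroup 2 (Subgroup.zpowers t) := by
      apply IsPGroup.of_card (n := 1)
      rw [Nat.card_zpowers, ht, pow_one]
    obtain ⟨T', hT'⟩ := htp.exists_le_sylow
    obtain ⟨g, hg⟩ := MulAction.exists_smul_eq G T' T
    -- `g t g⁻¹ ∈ T`
    have hgt : g * t * g⁻¹ ∈ H := by
      rw [← hTH, ← hg]
      change g * t * g⁻¹ ∈ ((MulAut.conj g) • (T' : Subgroup G))
      rw [Subgroup.mem_pointwise_smul_iff_inv_smul_mem]
      change (MulAut.conj g)⁻¹ (g * t * g⁻¹) ∈ (T' : Subgroup G)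
      have : (MulAut.conj g)⁻¹ (g * t * g⁻¹) = t := by
        rw [← map_inv, MulAut.conj_apply]; group
      rw [this]
      exact hT' (Subgroup.mem_zpowers t)
    have hgt1 : g * t * g⁻¹ ≠ 1 := by
      intro h
      have : t = 1 := by
        have h2 := congrArg (fun x => g⁻¹ * x * g) h
        simpa [mul_assoc] using h2
      rw [this, orderOf_one] at ht
      omega
    have hc : ∀ c ∈ Subgroup.centralizer ({t} : Set G), g * c * g⁻¹ ∈ H := by
      intro c hc
      rw [← hC _ hgt hgt1, Subgroup.mem_centralizer_singleton_iff]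
      rw [Subgroup.mem_centralizer_singleton_iff] at hc
      calc g * c * g⁻¹ * (g * t * g⁻¹) = g * (c * t) * g⁻¹ := by group
        _ = g * (t * c) * g⁻¹ := by rw [hc]
        _ = _ := by group
    refine ⟨⟨⟨fun a b => ?_⟩⟩, fun c hc' => ?_⟩
    · apply Subtype.ext
      have h1 := hcomm _ (hc a a.2) _ (hc b b.2)
      have h2 : g * ((a : G) * b) * g⁻¹ = g * ((b : G) * a) * g⁻¹ := by
        calc g * ((a : G) * b) * g⁻¹ = g * a * g⁻¹ * (g * b * g⁻¹) := by group
          _ = g * b * g⁻¹ * (g * a * g⁻¹) := h1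
          _ = _ := by group
      exact mul_left_cancel (mul_right_cancel h2)
    · have h1 := hsq _ (hc c hc')
      have h2 : g * (c * c) * g⁻¹ = 1 := by
        rw [← h1]; group
      have h3 : c * c = 1 := by
        have := congrArg (fun x => g⁻¹ * x * g) h2
        simpa [mul_assoc] using this
      rw [pow_two, h3]
  obtain ⟨F, i1, i2, hF, ⟨e⟩⟩ := Cfsg.Agent.S1230.result T hnc hnn hC'
  refine ⟨F, i1, i2, ?_, ⟨e⟩⟩
  have : Nat.card (T : Subgroup G) = Nat.card H := by rw [hTH]
  rw [hF]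
  change 3 < Nat.card (T : Subgroup G)
  omega

end Cfsg.Agent.H825.CaseE
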