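import Mathlib
import Cfsg.Agent.H352.Order120
import Cfsg.Agent.SmallSimple.Embed

/-!
# Counting commuting pairs

`four_mul_pairs_lt`: in a finite non-solvable group `G` fewer than a quarter of the pairs commute.

`isSolvable_of_card_centralizer_le`: a finite group with an involution `v` outside a normal subgroup
`K` of index 2 and at most four elements commuting with `v` has solvable `K`.
-/

set_option autoImplicit false

namespace Cfsg.Agent.H825.CountInv

/-- the set of commuting pairs -/
def Pairs (G : Type*) [Group G] : Type _ := {p : G × G // p.1 * p.2 = p.2 * p.1}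

instance (G : Type*) [Group G] [Finite G] : Finite (Pairs G) := by
  unfold Pairs; infer_instance

theorem card_pairs_quotient {G : Type*} [Group G] [Finite G] (N : Subgroup G) [N.Normal] :
    Nat.card (Pairs G) ≤ Nat.card (Pairs (G ⧸ N)) * (Nat.card N * Nat.card N) := by
  classical
  rw [← Nat.card_prod, ← Nat.card_prod]
  let f : Pairs G → Pairs (G ⧸ N) × (N × N) := fun p =>
    (⟨((p.1.1 : G ⧸ N), (p.1.2 : G ⧸ N)), by
        change (p.1.1 : G ⧸ N) * (p.1.2 : G ⧸ N) = (p.1.2 : G ⧸ N) * (p.1.1 : G ⧸ N)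
        rw [← QuotientGroup.mk_mul, p.2, QuotientGroup.mk_mul]⟩,
      (⟨((p.1.1 : G ⧸ N).out)⁻¹ * p.1.1, by
        rw [← QuotientGroup.eq, QuotientGroup.out_eq']⟩,
       ⟨((p.1.2 : G ⧸ N).out)⁻¹ * p.1.2, by
        rw [← QuotientGroup.eq, QuotientGroup.out_eq']⟩))
  apply Nat.card_le_card_of_injective f
  rintro ⟨⟨x, y⟩, hp⟩ ⟨⟨x', y'⟩, hp'⟩ h
  have h1 : (x : G ⧸ N) = (x' : G ⧸ N) := congrArg (fun q => q.1.1.1) h
  have h1' : (y : G ⧸ N) = (y' : G ⧸ N) := congrArg (fun q => q.1.1.2) h
  have h2 : ((x : G ⧸ N).out)⁻¹ * x = ((x' : G ⧸ N).out)⁻¹ * x' :=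
    congrArg (fun q => (q.2.1 : G)) h
  have h3 : ((y : G ⧸ N).out)⁻¹ * y = ((y' : G ⧸ N).out)⁻¹ * y' :=
    congrArg (fun q => (q.2.2 : G)) h
  rw [h1] at h2
  rw [h1'] at h3
  have h5 : x = x' := mul_left_cancel h2
  have h6 : y = y' := mul_left_cancel h3
  subst h5 h6
  rfl

theorem card_pairs_eq {G : Type*} [Group G] [Finite G] :
    Nat.card (Pairs G) = ∑ᶠ g : G, Nat.card {x : G // g * x = x * g} := by
  classical
  have := Fintype.ofFinite G
  rw [finsum_eq_sum_of_fintype]
  have e : Pairs G ≃ (Σ g : G, {x : G // g * x = x * g}) :=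
    { toFun := fun p => ⟨p.1.1, p.1.2, p.2⟩
      invFun := fun p => ⟨(p.1, p.2.1), p.2.2⟩
      left_inv := fun _ => rfl
      right_inv := fun _ => rfl }
  rw [Nat.card_congr e, Nat.card_sigma]

/-- commuting pairs inside a subgroup: restricting both coordinates -/
theorem card_pairs_subgroup {G : Type*} [Group G] [Finite G] (H : Subgroup G) :
    Nat.card (Pairs G) ≤ (H.index * H.index) * Nat.card (Pairs H) := by
  classical
  -- restrict the second coordinate
  have key : ∀ (A : Type _) (r : A → G) (_ : Finite A),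
      Nat.card {p : A × G // r p.1 * p.2 = p.2 * r p.1} ≤
        H.index * Nat.card {p : A × H // r p.1 * p.2 = p.2 * r p.1} := by
    intro A r _
    have hidx : H.index = Nat.card (G ⧸ H) := rfl
    rw [hidx, ← Nat.card_prod]
    -- choose for each pair (a, coset) an element of the coset commuting with `r a`, if any
    let ch : A → G ⧸ H → G := fun a c =>
      if h : ∃ y : G, (y : G ⧸ H) = c ∧ r a * y = y * r a then h.choose else 1
    have hch : ∀ (a : A) (y : G), r a * y = y * r a →
        ((ch a (y : G ⧸ H) : G) : G ⧸ H) = (y : G ⧸ H) ∧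
          r a * ch a (y : G ⧸ H) = ch a (y : G ⧸ H) * r a := by
      intro a y hy
      have h : ∃ y' : G, (y' : G ⧸ H) = (y : G ⧸ H) ∧ r a * y' = y' * r a := ⟨y, rfl, hy⟩
      simp only [ch, dif_pos h]
      exact h.choose_spec
    let f : {p : A × G // r p.1 * p.2 = p.2 * r p.1} →
        (G ⧸ H) × {p : A × H // r p.1 * p.2 = p.2 * r p.1} := fun p =>
      ((p.1.2 : G ⧸ H), ⟨(p.1.1, ⟨(ch p.1.1 (p.1.2 : G ⧸ H))⁻¹ * p.1.2, by
          rw [← QuotientGroup.eq]
          exact (hch p.1.1 p.1.2 p.2).1⟩), by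
          have h1 := (hch p.1.1 p.1.2 p.2).2
          have h2 := p.2
          change r p.1.1 * ((ch p.1.1 (p.1.2 : G ⧸ H))⁻¹ * p.1.2) =
            ((ch p.1.1 (p.1.2 : G ⧸ H))⁻¹ * p.1.2) * r p.1.1
          have h3 : Commute (r p.1.1) (ch p.1.1 (p.1.2 : G ⧸ H)) := h1
          have h4 : Commute (r p.1.1) p.1.2 := h2
          exact (h3.inv_right.mul_right h4).eq⟩)
    apply Nat.card_le_card_of_injective f
    rintro ⟨⟨a, y⟩, hp⟩ ⟨⟨a', y'⟩, hp'⟩ h
    simp only [f, Prod.mk.injEq, Subtype.mk.injEq] at h
    obtain ⟨h1, h2, h3⟩ := h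
    subst h2
    rw [h1] at h3
    have h5 : y = y' := mul_left_cancel h3
    subst h5
    rfl
  have h1 := key G id inferInstance
  have h2 := key H (fun h => (h : G)) inferInstance
  have e1 : Nat.card (Pairs G) = Nat.card {p : G × G // id p.1 * p.2 = p.2 * id p.1} := rfl
  have e2 : Nat.card {p : G × H // id p.1 * p.2 = p.2 * id p.1} =
      Nat.card {p : H × G // (p.1 : G) * p.2 = p.2 * p.1} := by
    apply Nat.card_congr
    exact
      { toFun := fun p => ⟨(p.1.2, p.1.1), p.2.symm⟩
        invFun := fun p => ⟨(p.1.2, p.1.1), p.2.symm⟩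
        left_inv := fun _ => rfl
        right_inv := fun _ => rfl }
  have e3 : Nat.card {p : H × H // (p.1 : G) * p.2 = p.2 * p.1} = Nat.card (Pairs H) := by
    apply Nat.card_congr
    exact
      { toFun := fun p => ⟨p.1, Subtype.ext p.2⟩
        invFun := fun p => ⟨p.1, congrArg Subtype.val p.2⟩
        left_inv := fun _ => rfl
        right_inv := fun _ => rfl }
  rw [e1]
  rw [e3] at h2
  rw [e2] at h1
  calc _ ≤ _ := h1
    _ ≤ H.index * (H.index * Nat.card (Pairs H)) := Nat.mul_le_mul_left _ h2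
    _ = _ := by ring

theorem four_mul_pairs_lt_simple {G : Type*} [Group G] [Finite G] [IsSimpleGroup G]
    (hG : ¬ IsMulCommutative G) : 4 * Nat.card (Pairs G) < Nat.card G * Nat.card G := by
  classical
  have h60 : 60 ≤ Nat.card G := by
    by_contra h
    push Not at h
    have hs := Cfsg.Agent.H352.Order120.solvable_of_card_lt (Nat.card G) G rfl h
    exact hG ⟨⟨IsSimpleGroup.comm_iff_isSolvable.2 hs⟩⟩
  have hc : ∀ g : G, g ≠ 1 → 5 * Nat.card {x : G // g * x = x * g} ≤ Nat.card G := by
    intro g hg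
    have e : Nat.card {x : G // g * x = x * g} = Nat.card (Subgroup.centralizer ({g} : Set G)) := by
      apply Nat.card_congr
      exact Equiv.subtypeEquivRight fun x => by
        rw [Subgroup.mem_centralizer_singleton_iff]
        exact eq_comm
    rw [e]
    have hne : Subgroup.centralizer ({g} : Set G) ≠ ⊤ := by
      intro h
      have hcen : g ∈ Subgroup.center G := by
        rw [Subgroup.mem_center_iff]
        intro x
        have : x ∈ Subgroup.centralizer ({g} : Set G) := by rw [h]; trivial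
        exact Subgroup.mem_centralizer_singleton_iff.1 this
      rcases (inferInstance : (Subgroup.center G).Normal).eq_bot_or_eq_top with h1 | h1
      · rw [h1, Subgroup.mem_bot] at hcen
        exact hg hcen
      · apply hG
        refine ⟨⟨fun a b => ?_⟩⟩
        have : b ∈ Subgroup.center G := by rw [h1]; trivial
        exact Subgroup.mem_center_iff.1 this a
    have h5 := Cfsg.Agent.SmallSimple.Embed.five_le_index hG _ hne
    have h6 := Subgroup.card_mul_index (Subgroup.centralizer ({g} : Set G))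
    nlinarith [Nat.card_pos (α := Subgroup.centralizer ({g} : Set G))]
  have := Fintype.ofFinite G
  have hsum : 5 * Nat.card (Pairs G) ≤ 5 * Nat.card G + (Nat.card G - 1) * Nat.card G := by
    rw [card_pairs_eq, finsum_eq_sum_of_fintype, Finset.mul_sum,
      ← Finset.add_sum_erase _ _ (Finset.mem_univ (1 : G))]
    have h1 : Nat.card {x : G // (1 : G) * x = x * 1} ≤ Nat.card G :=
      Nat.card_le_card_of_injective (fun x => x.1) Subtype.val_injective
    have h2 : ∑ g ∈ Finset.univ.erase (1 : G), 5 * Nat.card {x : G // g * x = x * g} ≤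
        ∑ g ∈ Finset.univ.erase (1 : G), Nat.card G := by
      apply Finset.sum_le_sum
      intro g hg
      exact hc g (Finset.ne_of_mem_erase hg)
    rw [Finset.sum_const, Finset.card_erase_of_mem (Finset.mem_univ _), Finset.card_univ,
      ← Nat.card_eq_fintype_card, smul_eq_mul] at h2
    omega
  obtain ⟨n, hn⟩ : ∃ n, Nat.card G = n + 60 := ⟨Nat.card G - 60, by omega⟩
  rw [hn] at hsum ⊢
  have h7 : n + 60 - 1 = n + 59 := by omega
  rw [h7] at hsum
  nlinarith

/-- In a finite non-solvable group fewer than a quarter of the pairs commute. -/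
theorem four_mul_pairs_lt : ∀ (n : ℕ) (G : Type*) [Group G] [Finite G], Nat.card G = n →
    ¬ Group.IsSolvable G → 4 * Nat.card (Pairs G) < Nat.card G * Nat.card G := by
  intro n
  induction n using Nat.strong_induction_on with
  | _ n ih =>
    intro G _ _ hn hG
    by_cases hs : IsSimpleGroup G
    · apply four_mul_pairs_lt_simple
      intro hc
      exact hG (IsSimpleGroup.comm_iff_isSolvable.1 hc.is_comm.comm)
    · have hnt : Nontrivial G := by
        by_contra h
        rw [not_nontrivial_iff_subsingleton] at h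
        exact hG inferInstance
      obtain ⟨N, hN, hN1, hN2⟩ : ∃ N : Subgroup G, N.Normal ∧ N ≠ ⊥ ∧ N ≠ ⊤ := by
        by_contra h
        push Not at h
        apply hs
        refine ⟨fun N hN => ?_⟩
        by_cases h1 : N = ⊥
        · exact Or.inl h1
        · exact Or.inr (h N hN h1)
      have hcard := Subgroup.card_mul_index N
      have hN1' : 1 < Nat.card N := by
        rw [← not_le]
        intro h
        exact hN1 (Subgroup.eq_bot_of_card_le N h)
      have hidx1 : 1 < N.index := by
        have h0 : N.index ≠ 0 := Subgroup.index_ne_zero_of_finite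
        have h1 : N.index ≠ 1 := fun h => hN2 (Subgroup.index_eq_one.1 h)
        omega
      have hcN : 0 < Nat.card N := Nat.card_pos
      by_cases hNs : Group.IsSolvable N
      · -- the quotient is not solvable
        have hQ : ¬ Group.IsSolvable (G ⧸ N) := by
          intro hQ
          exact hG ((Group.isSolvable_iff_subgroup_quotient N).2 ⟨hNs, hQ⟩)
        have h1 := ih (Nat.card (G ⧸ N)) (by
          change N.index < n
          rw [← hn, ← hcard]
          nlinarith) (G ⧸ N) rfl hQ
        have h2 := card_pairs_quotient N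
        have h3 : Nat.card (G ⧸ N) = N.index := rfl
        rw [h3] at h1
        rw [← hcard]
        have h4 : 0 < Nat.card N * Nat.card N := by positivity
        calc 4 * Nat.card (Pairs G) ≤ 4 * (Nat.card (Pairs (G ⧸ N)) * (Nat.card N * Nat.card N)) :=
              Nat.mul_le_mul_left _ h2
          _ = (4 * Nat.card (Pairs (G ⧸ N))) * (Nat.card N * Nat.card N) := by ring
          _ < (N.index * N.index) * (Nat.card N * Nat.card N) := Nat.mul_lt_mul_of_pos_right h1 h4
          _ = _ := by ring
      · have h1 := ih (Nat.card N) (by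
          rw [← hn, ← hcard]
          nlinarith) N rfl hNs
        have h2 := card_pairs_subgroup N
        have h4 : 0 < N.index * N.index := by positivity
        rw [← hcard]
        calc 4 * Nat.card (Pairs G) ≤ 4 * ((N.index * N.index) * Nat.card (Pairs N)) :=
              Nat.mul_le_mul_left _ h2
          _ = (N.index * N.index) * (4 * Nat.card (Pairs N)) := by ring
          _ < (N.index * N.index) * (Nat.card N * Nat.card N) := Nat.mul_lt_mul_of_pos_left h1 h4
          _ = _ := by ring

/-- If `v` is an involution outside the subgroup `K` normalizing it and `v` commutes with at most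
two elements of `K`, then `K` is solvable. -/
theorem isSolvable_of_card_le_two {G : Type*} [Group G] [Finite G] (K : Subgroup G) [K.Normal]
    (v : G) (hv : v * v = 1) (hc : Nat.card {k : K // (k : G) * v = v * k} ≤ 2) :
    Group.IsSolvable K := by
  classical
  by_contra hK
  have h1 := four_mul_pairs_lt (Nat.card K) K rfl hK
  have hconj : ∀ k : K, v * k * v ∈ K := by
    intro k
    have h2 := (inferInstance : K.Normal).conj_mem k k.2 v
    have h3 : v⁻¹ = v := by
      rw [inv_eq_iff_mul_eq_one]; exact hv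
    rwa [h3] at h2
  let I : Type _ := {k : K // v * (k : G) * v = (k : G)⁻¹}
  -- `|K| ≤ |I| * |C|`
  let φ : K → I := fun k => ⟨k⁻¹ * ⟨v * k * v, hconj k⟩, by
    change v * ((k : G)⁻¹ * (v * k * v)) * v = ((k : G)⁻¹ * (v * k * v))⁻¹
    have h3 : v⁻¹ = v := by
      rw [inv_eq_iff_mul_eq_one]; exact hv
    rw [mul_inv_rev, mul_inv_rev, mul_inv_rev, h3, inv_inv]
    calc v * ((k : G)⁻¹ * (v * k * v)) * v = v * (k : G)⁻¹ * v * k * (v * v) := by group
      _ = _ := by rw [hv]; group⟩
  let ch : I → K := fun i => if h : ∃ k, φ k = i then h.choose else 1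
  have hch : ∀ k, φ (ch (φ k)) = φ k := by
    intro k
    have h : ∃ k', φ k' = φ k := ⟨k, rfl⟩
    simp only [ch, dif_pos h]
    exact h.choose_spec
  have hφ : ∀ k k' : K, φ k = φ k' → ((k' * k⁻¹ : K) : G) * v = v * ((k' * k⁻¹ : K) : G) := by
    intro k k' h
    have h2 : ((k : G)⁻¹ * (v * k * v)) = ((k' : G)⁻¹ * (v * k' * v)) :=
      congrArg (fun i : I => ((i.1 : K) : G)) h
    have h3 : (k : G)⁻¹ * (v * k) = (k' : G)⁻¹ * (v * k') := by
      have := congrArg (· * v) h2
      simp only [mul_assoc, hv, mul_one] at this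
      simpa [mul_assoc] using this
    push_cast
    calc (k' : G) * (k : G)⁻¹ * v = k' * ((k : G)⁻¹ * (v * k)) * (k : G)⁻¹ := by group
      _ = k' * ((k' : G)⁻¹ * (v * k')) * (k : G)⁻¹ := by rw [h3]
      _ = _ := by group
  have hcard1 : Nat.card K ≤ Nat.card I * Nat.card {k : K // (k : G) * v = v * k} := by
    rw [← Nat.card_prod]
    apply Nat.card_le_card_of_injective
      (fun k : K => ((φ k, ⟨k * (ch (φ k))⁻¹, hφ _ _ (hch k)⟩) :
        I × {k : K // (k : G) * v = v * k}))
    intro k k' h
    simp only [Prod.mk.injEq, Subtype.mk.injEq] at h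
    obtain ⟨h2, h3⟩ := h
    rw [h2] at h3
    exact mul_right_cancel h3
  -- `|I|^2 ≤ |Pairs K|`
  let P : K → K → Prop := fun g y => (y : G) * v * g * v * (y : G)⁻¹ = (g : G)⁻¹
  let ch2 : K → K := fun g => if h : ∃ y, P g y then h.choose else 1
  have hch2 : ∀ g y, P g y → P g (ch2 g) := by
    intro g y hy
    have h : ∃ y, P g y := ⟨y, hy⟩
    simp only [ch2, dif_pos h]
    exact h.choose_spec
  have hP : ∀ x y : I, P (x.1 * y.1⁻¹) y.1 := by
    intro x y
    have hx := x.2
    have hy := y.2
    have h3 : v⁻¹ = v := by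
      rw [inv_eq_iff_mul_eq_one]; exact hv
    have hy' : v * (y.1 : G)⁻¹ * v = y.1 := by
      have := congrArg (·⁻¹) hy
      simp only [mul_inv_rev, h3, inv_inv] at this
      simpa [mul_assoc] using this
    change (y.1 : G) * v * ((x.1 : G) * (y.1 : G)⁻¹) * v * (y.1 : G)⁻¹ = ((x.1 : G) * (y.1 : G)⁻¹)⁻¹
    calc (y.1 : G) * v * ((x.1 : G) * (y.1 : G)⁻¹) * v * (y.1 : G)⁻¹
        = (y.1 : G) * (v * (x.1 : G) * (v * v) * (y.1 : G)⁻¹ * v) * (y.1 : G)⁻¹ := by
          rw [hv]; group
      _ = (y.1 : G) * ((v * (x.1 : G) * v) * (v * (y.1 : G)⁻¹ * v)) * (y.1 : G)⁻¹ := by group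
      _ = _ := by rw [hx, hy']; group
  have hP2 : ∀ g y y', P g y → P g y' → g * (y * y'⁻¹) = (y * y'⁻¹) * g := by
    intro g y y' h h'
    apply Subtype.ext
    push_cast
    have h2 : (y : G) * v * g * v * (y : G)⁻¹ = (y' : G) * v * g * v * (y' : G)⁻¹ := by
      rw [show (y : G) * v * g * v * (y : G)⁻¹ = (g : G)⁻¹ from h]
      exact (show (y' : G) * v * g * v * (y' : G)⁻¹ = (g : G)⁻¹ from h').symm
    have h3 : (y' : G) * v * g * v * (y' : G)⁻¹ = (g : G)⁻¹ := h'
    -- `z := y y'⁻¹` commutes with `g⁻¹`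
    have h4 : ((y : G) * (y' : G)⁻¹) * (g : G)⁻¹ = (g : G)⁻¹ * ((y : G) * (y' : G)⁻¹) := by
      have h5 : (y : G) * v * g * v * (y : G)⁻¹ = (g : G)⁻¹ := h
      calc ((y : G) * (y' : G)⁻¹) * (g : G)⁻¹
          = ((y : G) * (y' : G)⁻¹) * ((y' : G) * v * g * v * (y' : G)⁻¹) := by rw [h3]
        _ = ((y : G) * v * g * v * (y : G)⁻¹) * ((y : G) * (y' : G)⁻¹) := by group
        _ = _ := by rw [h5]
    have h6 : Commute ((y : G) * (y' : G)⁻¹) (g : G)⁻¹ := h4
    exact (Commute.inv_right_iff.1 h6).symm.eq
  have hcard2 : Nat.card I * Nat.card I ≤ Nat.card (Pairs K) := by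
    rw [← Nat.card_prod]
    apply Nat.card_le_card_of_injective
      (fun p : I × I => (⟨(p.1.1 * p.2.1⁻¹, p.2.1 * (ch2 (p.1.1 * p.2.1⁻¹))⁻¹),
        hP2 _ _ _ (hP p.1 p.2) (hch2 _ _ (hP p.1 p.2))⟩ : Pairs K))
    rintro ⟨x, y⟩ ⟨x', y'⟩ h
    have h2 := congrArg Subtype.val h
    simp only [Prod.mk.injEq] at h2
    obtain ⟨h3, h4⟩ := h2
    rw [h3] at h4
    have h5 : y = y' := Subtype.ext (mul_right_cancel h4)
    subst h5
    have h6 : x = x' := Subtype.ext (mul_right_cancel h3)
    rw [h6]
  have hcard3 : Nat.card K ≤ Nat.card I * 2 := hcard1.trans (Nat.mul_le_mul_left _ hc)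
  have : Nat.card K * Nat.card K ≤ 4 * Nat.card (Pairs K) := by
    calc Nat.card K * Nat.card K ≤ (Nat.card I * 2) * (Nat.card I * 2) := Nat.mul_le_mul hcard3 hcard3
      _ = 4 * (Nat.card I * Nat.card I) := by ring
      _ ≤ _ := Nat.mul_le_mul_left _ hcard2
  omega

/-- A finite group with an involution `v` outside a normal subgroup `K` of index 2 whose centralizer
has order at most four: `K` is solvable. -/
theorem isSolvable_of_card_centralizer_le {G : Type*} [Group G] [Finite G] (K : Subgroup G)
    [K.Normal] (v : G) (hv : v * v = 1) (hvK : v ∉ K)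
    (hc : Nat.card (Subgroup.centralizer ({v} : Set G)) ≤ 4) : Group.IsSolvable K := by
  classical
  apply isSolvable_of_card_le_two K v hv
  have h1 : Nat.card ({k : K // (k : G) * v = v * k} ⊕ {k : K // (k : G) * v = v * k}) ≤ 4 := by
    refine le_trans ?_ hc
    let f : ({k : K // (k : G) * v = v * k} ⊕ {k : K // (k : G) * v = v * k}) →
        Subgroup.centralizer ({v} : Set G) := fun s =>
      match s with
      | Sum.inl k => ⟨k.1, Subgroup.mem_centralizer_singleton_iff.2 k.2⟩
      | Sum.inr k => ⟨k.1 * v, Subgroup.mem_centralizer_singleton_iff.2 (by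
          rw [← mul_assoc, ← k.2])⟩
    apply Nat.card_le_card_of_injective f
    rintro (⟨k, hk⟩ | ⟨k, hk⟩) (⟨k', hk'⟩ | ⟨k', hk'⟩) h
    · have : (k : G) = k' := congrArg (fun x : Subgroup.centralizer ({v} : Set G) => (x : G)) h
      congr 2
      exact Subtype.ext this
    · exfalso
      have : (k : G) = k' * v := congrArg (fun x : Subgroup.centralizer ({v} : Set G) => (x : G)) h
      apply hvK
      have h2 : v = (k' : G)⁻¹ * k := by rw [this]; group
      rw [h2]
      exact K.mul_mem (K.inv_mem k'.2) k.2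
    · exfalso
      have : (k : G) * v = k' := congrArg (fun x : Subgroup.centralizer ({v} : Set G) => (x : G)) h
      apply hvK
      have h2 : v = (k : G)⁻¹ * k' := by rw [← this]; group
      rw [h2]
      exact K.mul_mem (K.inv_mem k.2) k'.2
    · have h2 : (k : G) * v = k' * v := congrArg (fun x : Subgroup.centralizer ({v} : Set G) => (x : G)) h
      have : (k : G) = k' := mul_right_cancel h2
      congr 2
      exact Subtype.ext this
  rw [Nat.card_sum] at h1
  omega

end Cfsg.Agent.H825.CountInv
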