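import Mathlib
import Cfsg.Agent.ClassicalGeometry.AutPSL.Main
import Cfsg.Agent.ClassicalGeometry.PSL2Basic
import Cfsg.Agent.H169.PSLTwoAut

/-!
# Elements acting on `PSL(2,F)` as elements of `GL(2,F)` are central modulo `PSL(2,F)`
-/

set_option autoImplicit false

namespace Cfsg.Agent.H825

open Subgroup Matrix
open Cfsg.Agent.ClassicalGeometry.AutPSL Cfsg.Agent.ClassicalGeometry.AutPSL.Auto
  Cfsg.Agent.ClassicalGeometry.AutPSL.Root

/-- in a finite field of odd order, `d * σ d` is a square -/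
theorem isSquare_mul_map {F : Type*} [Field F] [Fintype F] (σ : F ≃+* F)
    (d : F) (hd : d ≠ 0) : IsSquare (d * σ d) := by
  classical
  have hσd : σ d ≠ 0 := (map_ne_zero σ).2 hd
  by_cases h : IsSquare d
  · exact h.mul (h.map σ)
  · have h3 : ¬ IsSquare (σ d) := by
      intro h4
      apply h
      have := h4.map σ.symm
      rwa [σ.symm_apply_apply] at this
    rw [← quadraticChar_one_iff_isSquare (mul_ne_zero hd hσd), map_mul,
      quadraticChar_neg_one_iff_not_isSquare.2 h, quadraticChar_neg_one_iff_not_isSquare.2 h3]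
    norm_num

theorem comm_mem {X : Type*} [Group X] [Finite X] (L : Subgroup X) [L.Normal]
    (hC : centralizer (L : Set X) = ⊥) {F : Type*} [Field F] [Fintype F]
    (hF : Odd (Fintype.card F)) (ψ : L ≃* ProjectiveSpecialLinearGroup (Fin 2) F) (s : X)
    (g : GL (Fin 2) F)
    (hg : ∀ x : SpecialLinearGroup (Fin 2) F,
      s * (ψ.symm (pr x) : L) * s⁻¹ = ((ψ.symm (pr (cj g x)) : L) : X)) (x : X) :
    s * x * s⁻¹ * x⁻¹ ∈ L := by
  classical
  let Θ : X →* MulAut (ProjectiveSpecialLinearGroup (Fin 2) F) :=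
    (MulAut.congr ψ).toMonoidHom.comp (MulAut.conjNormal : X →* MulAut L)
  have hΘ : ∀ (x : X) (y : L), Θ x (ψ y) = ψ (MulAut.conjNormal x y) := by
    intro x y
    change ψ (MulAut.conjNormal x (ψ.symm (ψ y))) = _
    rw [ψ.symm_apply_apply]
  have hΘinj : Function.Injective Θ := by
    rw [injective_iff_map_eq_one]
    intro x hx
    have h3 : x ∈ centralizer (L : Set X) := by
      rw [mem_centralizer_iff]
      intro y hy
      have h4 := hΘ x ⟨y, hy⟩
      rw [hx, MulAut.one_apply] at h4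
      have h5 := congrArg Subtype.val (ψ.injective h4)
      rw [MulAut.conjNormal_apply] at h5
      change y = x * y * x⁻¹ at h5
      rw [eq_mul_inv_iff_mul_eq] at h5
      exact h5
    rw [hC, mem_bot] at h3
    exact h3
  have hΘs : Θ s = lift (cj g) := by
    apply MulEquiv.ext
    intro w
    obtain ⟨w', rfl⟩ := ψ.surjective w
    obtain ⟨w'', hw''⟩ := pr_surjective (ψ w')
    rw [hΘ, ← hw'', lift_pr]
    have h4 := hg w''
    rw [hw'', ψ.symm_apply_apply] at h4
    have h5 : MulAut.conjNormal s w' = ψ.symm (pr (cj g w'')) := by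
      apply Subtype.ext
      rw [MulAut.conjNormal_apply]
      exact h4
    rw [h5, ψ.apply_symm_apply]
  have hΘL : ∀ y : L, Θ y = MulAut.conj (ψ y) := by
    intro y
    apply MulEquiv.ext
    intro w
    obtain ⟨w', rfl⟩ := ψ.surjective w
    rw [hΘ]
    have h4 : MulAut.conjNormal (y : X) w' = y * w' * y⁻¹ := by
      apply Subtype.ext
      rw [MulAut.conjNormal_apply]
      rfl
    rw [h4, map_mul, map_mul, map_inv]
    rfl
  obtain ⟨p, hp⟩ := CharP.exists F
  have hpp : Fact p.Prime := ⟨CharP.char_is_prime F p⟩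
  obtain ⟨C, σ, hCσ⟩ := Main.surj_two p (Θ x)
  have h2 : ringChar F ≠ 2 := by
    intro h
    have := (FiniteField.even_card_iff_char_two (F := F)).1 h
    rw [Nat.odd_iff] at hF
    omega
  set D : GL (Fin 2) F :=
    g * C * Matrix.GeneralLinearGroup.map (σ : F →+* F) g⁻¹ * C⁻¹ with hD
  have h3 : Θ (s * x * s⁻¹ * x⁻¹) = lift (cj D) := by
    have h3' : Θ (s * x * s⁻¹ * x⁻¹) =
        lift (cj g * (cj C * fld σ) * (cj g)⁻¹ * (cj C * fld σ)⁻¹) := by
      simp only [map_mul, map_inv, hΘs, hCσ]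
    rw [h3']
    congr 1
    rw [_root_.mul_inv_rev]
    have h4 := Cfsg.Agent.H169.PSLTwoAut.fld_mul_cj σ g⁻¹
    calc cj g * (cj C * fld σ) * (cj g)⁻¹ * ((fld σ)⁻¹ * (cj C)⁻¹)
        = cj g * cj C * (fld σ * cj g⁻¹) * (fld σ)⁻¹ * (cj C)⁻¹ := by
          rw [map_inv]; simp only [mul_assoc]
      _ = cj g * cj C * (cj (Matrix.GeneralLinearGroup.map (σ : F →+* F) g⁻¹) * fld σ) *
            (fld σ)⁻¹ * (cj C)⁻¹ := by rw [h4]
      _ = cj D := by
          rw [hD, map_mul, map_mul, map_mul, map_inv cj C]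
          simp only [mul_assoc, mul_inv_cancel_left]
  have hdg : (g : Matrix (Fin 2) (Fin 2) F).det ≠ 0 :=
    ((Matrix.isUnit_iff_isUnit_det _).1 (Units.isUnit g)).ne_zero
  have hdC : (C : Matrix (Fin 2) (Fin 2) F).det ≠ 0 :=
    ((Matrix.isUnit_iff_isUnit_det _).1 (Units.isUnit C)).ne_zero
  obtain ⟨e, he⟩ := isSquare_mul_map σ _ hdg
  have hdet : (D : Matrix (Fin 2) (Fin 2) F).det =
      (e / σ (g : Matrix (Fin 2) (Fin 2) F).det) ^ 2 := by
    have h5 : ∀ B : GL (Fin 2) F, ((B⁻¹ : GL (Fin 2) F) : Matrix (Fin 2) (Fin 2) F).det =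
        ((B : Matrix (Fin 2) (Fin 2) F).det)⁻¹ := by
      intro B
      have h6 : ((B⁻¹ : GL (Fin 2) F) : Matrix (Fin 2) (Fin 2) F) * (B : Matrix (Fin 2) (Fin 2) F)
          = 1 := by rw [← Units.val_mul, inv_mul_cancel, Units.val_one]
      have h7 := congrArg Matrix.det h6
      rw [Matrix.det_mul, Matrix.det_one] at h7
      exact eq_inv_of_mul_eq_one_left h7
    have h6 : (Matrix.GeneralLinearGroup.map (σ : F →+* F) g⁻¹ : Matrix (Fin 2) (Fin 2) F).det =
        (σ (g : Matrix (Fin 2) (Fin 2) F).det)⁻¹ := by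
      have h7 : (Matrix.GeneralLinearGroup.map (σ : F →+* F) g⁻¹ : Matrix (Fin 2) (Fin 2) F).det =
          σ ((g⁻¹ : GL (Fin 2) F) : Matrix (Fin 2) (Fin 2) F).det := by
        rw [Matrix.det_fin_two, Matrix.det_fin_two, map_sub, map_mul, map_mul]
        rfl
      rw [h7, h5, map_inv₀]
    rw [hD, Units.val_mul, Units.val_mul, Units.val_mul, Matrix.det_mul, Matrix.det_mul,
      Matrix.det_mul, h5, h6]
    have hσ : σ (g : Matrix (Fin 2) (Fin 2) F).det ≠ 0 := (map_ne_zero σ).2 hdg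
    rw [div_pow, pow_two e, ← he]
    field_simp
  obtain ⟨z, hz⟩ := Cfsg.Agent.H169.PSLTwoAut.conj_of_det_sq D _ hdet
  have h8 : Θ (s * x * s⁻¹ * x⁻¹) = Θ (ψ.symm z : L) := by
    rw [h3, hz, hΘL, ψ.apply_symm_apply]
  rw [hΘinj h8]
  exact (ψ.symm z).2

end Cfsg.Agent.H825
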