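import Mathlib
import Cfsg.Agent.ClassicalGeometry.AutPSL.Main
import Cfsg.Agent.ClassicalGeometry.PSL2Basic

/-!
# Recognition of `PGL(2,F)`
-/

set_option autoImplicit false

namespace Cfsg.Agent.H825

open Subgroup Matrix
open Cfsg.Agent.ClassicalGeometry.AutPSL Cfsg.Agent.ClassicalGeometry.AutPSL.Auto
  Cfsg.Agent.ClassicalGeometry.AutPSL.Root

/-- A group with a normal subgroup `L ≅ PSL(2,F)` of index two with trivial centralizer, an element
outside `L` acting on `L` as an element of `GL(2,F)`, is `PGL(2,F)`. -/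
theorem pgl_recog {X : Type*} [Group X] [Finite X] (L : Subgroup X) [L.Normal]
    (hC : centralizer (L : Set X) = ⊥) (hidx : L.index = 2) {F : Type*} [Field F] [Fintype F]
    (hF : Odd (Fintype.card F)) (ψ : L ≃* ProjectiveSpecialLinearGroup (Fin 2) F) (s : X)
    (hs : s ∉ L) (g : GL (Fin 2) F)
    (hg : ∀ x : SpecialLinearGroup (Fin 2) F,
      s * (ψ.symm (pr x) : L) * s⁻¹ = ((ψ.symm (pr (cj g x)) : L) : X)) :
    Nonempty (X ≃* ProjGenLinGroup (Fin 2) F) := by
  classical
  have h2 : (2 : F) ≠ 0 := (Cfsg.Agent.ClassicalGeometry.PSL2Basic.two_ne_zero_iff_odd F).2 hF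
  let Θ : X →* MulAut (ProjectiveSpecialLinearGroup (Fin 2) F) :=
    (MulAut.congr ψ).toMonoidHom.comp (MulAut.conjNormal : X →* MulAut L)
  have hΘ : ∀ (x : X) (y : L), Θ x (ψ y) = ψ (MulAut.conjNormal x y) := by
    intro x y
    change ψ (MulAut.conjNormal x (ψ.symm (ψ y))) = _
    rw [ψ.symm_apply_apply]
  have hΘinj : Function.Injective Θ := by
    rw [injective_iff_map_eq_one]
    intro x hx
    have h3 : x ∈ centralizer (L : Set X) := by
      rw [mem_centralizer_iff]
      intro y hy
      have h4 := hΘ x ⟨y, hy⟩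
      rw [hx, MulAut.one_apply] at h4
      have h5 := congrArg Subtype.val (ψ.injective h4)
      rw [MulAut.conjNormal_apply] at h5
      change y = x * y * x⁻¹ at h5
      rw [eq_mul_inv_iff_mul_eq] at h5
      exact h5
    rw [hC, mem_bot] at h3
    exact h3
  let Φ₀ : GL (Fin 2) F →* MulAut (ProjectiveSpecialLinearGroup (Fin 2) F) := lift.comp cj
  have hker : Subgroup.center (GL (Fin 2) F) = Φ₀.ker := by
    ext C
    rw [MonoidHom.mem_ker]
    constructor
    · intro hc
      rw [Matrix.GeneralLinearGroup.center_eq_range_scalar] at hc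
      obtain ⟨r, rfl⟩ := hc
      change lift (cj _) = 1
      rw [Main.cj_eq_one_of_scalar (r := (r : F)) rfl, map_one]
    · intro hc
      have h3 : lift (cj C * fld (1 : F ≃+* F)) = lift (fld (1 : F ≃+* F)) := by
        rw [map_one fld, mul_one, map_one]
        exact hc
      obtain ⟨⟨r, hr⟩, -⟩ := Main.injective_aux h3
      rw [Subgroup.mem_center_iff]
      intro D
      apply Units.ext
      rw [Units.val_mul, Units.val_mul, ← hr]
      exact ((Matrix.scalar_commute r (fun _ => mul_comm _ _) (D : Matrix (Fin 2) (Fin 2) F)).symm).eq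
  let Φ : ProjGenLinGroup (Fin 2) F →* MulAut (ProjectiveSpecialLinearGroup (Fin 2) F) :=
    QuotientGroup.lift (Subgroup.center (GL (Fin 2) F)) Φ₀ hker.le
  have hΦinj : Function.Injective Φ :=
    (QuotientGroup.injective_lift_iff _ _ _).2 hker
  have hΦr : ∀ C : GL (Fin 2) F, lift (cj C) ∈ Φ.range := fun C => ⟨ProjGenLinGroup.mk C, rfl⟩
  -- the range of `Θ` lies in the range of `Φ`
  have hL : ∀ y : L, Θ y ∈ Φ.range := by
    intro y
    obtain ⟨z, hz⟩ := pr_surjective (ψ y)
    have h3 : Θ y = lift (cj (SpecialLinearGroup.toGL z)) := by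
      apply MulEquiv.ext
      intro w
      obtain ⟨w', rfl⟩ := ψ.surjective w
      obtain ⟨w'', hw''⟩ := pr_surjective (ψ w')
      rw [hΘ]
      have h4 : MulAut.conjNormal (y : X) w' = y * w' * y⁻¹ := by
        apply Subtype.ext
        rw [MulAut.conjNormal_apply]
        rfl
      rw [h4, map_mul, map_mul, map_inv, ← hz, ← hw'', lift_pr, ← map_mul, ← map_inv, ← map_mul]
      congr 1
    rw [h3]
    exact hΦr _
  have hsr : Θ s ∈ Φ.range := by
    have h3 : Θ s = lift (cj g) := by
      apply MulEquiv.ext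
      intro w
      obtain ⟨w', rfl⟩ := ψ.surjective w
      obtain ⟨w'', hw''⟩ := pr_surjective (ψ w')
      rw [hΘ, ← hw'', lift_pr]
      have h4 := hg w''
      rw [hw'', ψ.symm_apply_apply] at h4
      have h5 : MulAut.conjNormal s w' = ψ.symm (pr (cj g w'')) := by
        apply Subtype.ext
        rw [MulAut.conjNormal_apply]
        exact h4
      rw [h5, ψ.apply_symm_apply]
    rw [h3]
    exact hΦr _
  have hle : Θ.range ≤ Φ.range := by
    rintro _ ⟨x, rfl⟩
    by_cases hx : x ∈ L
    · exact hL ⟨x, hx⟩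
    · have h3 : s⁻¹ * x ∈ L := by
        rw [Subgroup.mul_mem_iff_of_index_two hidx]
        exact ⟨fun h4 => absurd (L.inv_mem h4) (by rwa [inv_inv]), fun h4 => absurd h4 hx⟩
      have h4 : x = s * (s⁻¹ * x) := by group
      rw [h4, map_mul]
      exact Φ.range.mul_mem hsr (hL ⟨_, h3⟩)
  have hcard : Nat.card Φ.range ≤ Nat.card Θ.range := by
    have h3 : Nat.card Φ.range = Nat.card (ProjGenLinGroup (Fin 2) F) :=
      (Nat.card_congr (MonoidHom.ofInjective hΦinj).toEquiv).symm
    have h4 : Nat.card Θ.range = Nat.card X :=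
      (Nat.card_congr (MonoidHom.ofInjective hΘinj).toEquiv).symm
    rw [h3, h4, Cfsg.Agent.ClassicalGeometry.PSL2Basic.card_PGL_eq_card_SL]
    have h5 := Subgroup.card_eq_card_quotient_mul_card_subgroup
      (Subgroup.center (SpecialLinearGroup (Fin 2) F))
    rw [Cfsg.Agent.ClassicalGeometry.PSL2Basic.card_center_SL2_odd h2] at h5
    have h6 := Subgroup.card_mul_index L
    rw [hidx, Nat.card_congr ψ.toEquiv] at h6
    have h7 : Nat.card (SpecialLinearGroup (Fin 2) F) = Nat.card X := by
      rw [h5]; exact h6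
    omega
  have heq : Θ.range = Φ.range := Subgroup.eq_of_le_of_card_ge hle hcard
  exact ⟨((MonoidHom.ofInjective hΘinj).trans (MulEquiv.subgroupCongr heq)).trans
    (MonoidHom.ofInjective hΦinj).symm⟩

end Cfsg.Agent.H825
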