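import Mathlib
import Cfsg.Agent.SignalizersComponents.RelSylow
import Cfsg.Agent.TwoFusion.TransferIndex

/-!
# Groups with an abelian subgroup inverted by an involution, centralizing its involutions

`GD A t`: `A` is abelian of even order, the involution `t` inverts `A`, and every element of the
group commuting with an involution of `A` lies in `A ∪ A t`.
-/

set_option autoImplicit false

namespace Cfsg.Agent.H825

open Subgroup

/-- `A` is abelian of even order, inverted by the involution `t ∉ A`, and the centralizer of every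
involution of `A` is `A ∪ A t`. -/
structure GD {G : Type*} [Group G] (A : Subgroup G) (t : G) : Prop where
  comm : ∀ a ∈ A, ∀ b ∈ A, a * b = b * a
  tt : t * t = 1
  tA : t ∉ A
  inv : ∀ a ∈ A, t * a * t = a⁻¹
  cent : ∀ v ∈ A, v ≠ 1 → v * v = 1 → ∀ x : G, x * v = v * x → x ∈ A ∨ x * t ∈ A
  even : ∃ v ∈ A, v ≠ 1 ∧ v * v = 1

variable {G : Type*} [Group G] {A : Subgroup G} {t : G}

theorem GD.t_inv (h : GD A t) : t⁻¹ = t := inv_eq_iff_mul_eq_one.2 h.tt

theorem GD.ttx (h : GD A t) (x : G) : t * (t * x) = x := by rw [← mul_assoc, h.tt, one_mul]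

theorem GD.ta (h : GD A t) {a : G} (ha : a ∈ A) : t * a = a⁻¹ * t := by
  have h1 := h.inv a ha
  calc t * a = t * a * (t * t) := by rw [h.tt, mul_one]
    _ = (t * a * t) * t := by group
    _ = _ := by rw [h1]

/-- elements of `A t` are involutions -/
theorem GD.sq (h : GD A t) {x : G} (hx : x * t ∈ A) : x * x = 1 := by
  have h1 := h.inv _ hx
  have h2 : t * (x * t) * t = t * x := by rw [mul_assoc, mul_assoc, h.tt, mul_one]
  rw [h2] at h1
  have h3 : (x * t) * (t * x) = 1 := by rw [h1, mul_inv_cancel]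
  calc x * x = x * (t * t) * x := by rw [h.tt, mul_one]
    _ = (x * t) * (t * x) := by group
    _ = 1 := h3

/-- elements of `A t` invert `A` -/
theorem GD.inv' (h : GD A t) {x : G} (hx : x * t ∈ A) {a : G} (ha : a ∈ A) : x * a * x⁻¹ = a⁻¹ := by
  have hx2 : x = (x * t) * t := by rw [mul_assoc, h.tt, mul_one]
  have h1 : x * a = a⁻¹ * x := by
    calc x * a = (x * t) * (t * a) := by rw [← mul_assoc, mul_assoc x t t, h.tt, mul_one]
      _ = (x * t) * a⁻¹ * t := by rw [h.ta ha, ← mul_assoc]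
      _ = a⁻¹ * (x * t) * t := by rw [h.comm _ hx _ (A.inv_mem ha)]
      _ = a⁻¹ * x := by rw [mul_assoc, ← hx2]
  rw [h1, mul_assoc, mul_inv_cancel, mul_one]

theorem GD.comm_of_mem (h : GD A t) {v : G} (hv : v ∈ A) (hvv : v * v = 1) {x : G}
    (hx : x ∈ A ∨ x * t ∈ A) : x * v = v * x := by
  rcases hx with hx | hx
  · exact h.comm x hx v hv
  · have h1 := h.inv' hx hv
    rw [mul_inv_eq_iff_eq_mul, inv_eq_iff_mul_eq_one.2 hvv] at h1
    exact h1

/-- the subgroup `A ∪ A t` -/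
def GD.H (h : GD A t) : Subgroup G where
  carrier := {x | x ∈ A ∨ x * t ∈ A}
  one_mem' := Or.inl A.one_mem
  mul_mem' := by
    rintro x y (hx | hx) (hy | hy)
    · exact Or.inl (A.mul_mem hx hy)
    · refine Or.inr ?_
      rw [mul_assoc]
      exact A.mul_mem hx hy
    · refine Or.inr ?_
      have h1 : x * y * t = (x * t) * y⁻¹ := by
        have := h.ta (A.inv_mem hy)
        rw [inv_inv] at this
        rw [mul_assoc x t, this, mul_assoc]
      rw [h1]
      exact A.mul_mem hx (A.inv_mem hy)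
    · refine Or.inl ?_
      have h1 : x * y = (x * t) * (y * t)⁻¹ := by
        have h2 := h.inv _ hy
        rw [← h2, mul_assoc t, mul_assoc y, h.tt, mul_one, mul_assoc x, h.ttx]
      rw [h1]
      exact A.mul_mem hx (A.inv_mem hy)
  inv_mem' := by
    rintro x (hx | hx)
    · exact Or.inl (A.inv_mem hx)
    · refine Or.inr ?_
      have h1 := h.sq hx
      change x⁻¹ * t ∈ A
      rw [inv_eq_iff_mul_eq_one.2 h1]
      exact hx

theorem GD.mem_H (h : GD A t) {x : G} : x ∈ h.H ↔ x ∈ A ∨ x * t ∈ A := Iff.rfl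

theorem GD.A_le (h : GD A t) : A ≤ h.H := fun _ hx => Or.inl hx

theorem GD.t_mem (h : GD A t) : t ∈ h.H := Or.inr (by rw [h.tt]; exact A.one_mem)

theorem GD.mem_H_iff (h : GD A t) {v : G} (hv : v ∈ A) (hv1 : v ≠ 1) (hvv : v * v = 1) {x : G} :
    x ∈ h.H ↔ x * v = v * x :=
  ⟨fun hx => h.comm_of_mem hv hvv hx, fun hx => h.cent v hv hv1 hvv x hx⟩

theorem GD.centralizer_eq (h : GD A t) {v : G} (hv : v ∈ A) (hv1 : v ≠ 1) (hvv : v * v = 1) :
    centralizer ({v} : Set G) = h.H := by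
  ext x
  rw [mem_centralizer_singleton_iff, h.mem_H_iff hv hv1 hvv]

/-- outside `A`, the subgroup `H` consists of elements `x` with `x t ∈ A` -/
theorem GD.mul_t_mem (h : GD A t) {x : G} (hx : x ∈ h.H) (hxA : x ∉ A) : x * t ∈ A :=
  hx.resolve_left hxA

theorem GD.mul_mem_of_notMem (h : GD A t) {x y : G} (hx : x ∈ h.H) (hxA : x ∉ A)
    (hy : y ∈ h.H) (hyA : y ∉ A) : x * y ∈ A := by
  have h1 := h.mul_t_mem hx hxA
  have h2 := h.mul_t_mem hy hyA
  rcases h.H.mul_mem hx hy with h3 | h3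
  · exact h3
  · exfalso
    apply h.tA
    have h4 : x * y = (x * t) * (y * t)⁻¹ := by
      have h5 := h.inv _ h2
      rw [← h5, mul_assoc t, mul_assoc y, h.tt, mul_one, mul_assoc x, h.ttx]
    have h5 : x * y ∈ A := by rw [h4]; exact A.mul_mem h1 (A.inv_mem h2)
    have h6 : t = (x * y)⁻¹ * (x * y * t) := by group
    rw [h6]
    exact A.mul_mem (A.inv_mem h5) h3

theorem GD.conj_A (h : GD A t) {x a : G} (hx : x ∈ h.H) (ha : a ∈ A) : x * a * x⁻¹ ∈ A := by
  rcases hx with hx | hx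
  · exact A.mul_mem (A.mul_mem hx ha) (A.inv_mem hx)
  · rw [h.inv' hx ha]; exact A.inv_mem ha

/-- If `g` carries an involution of `A` to an involution of `A`, then it normalizes `H`. -/
theorem GD.norm_of_conj (h : GD A t) {v g : G} (hv : v ∈ A) (hv1 : v ≠ 1) (hvv : v * v = 1)
    (hg : g * v * g⁻¹ ∈ A) {x : G} : x ∈ h.H ↔ g⁻¹ * x * g ∈ h.H := by
  have h1 : g * v * g⁻¹ ≠ 1 := by
    intro h2
    apply hv1
    have := congrArg (fun x => g⁻¹ * x * g) h2
    simpa [mul_assoc] using this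
  have h2 : g * v * g⁻¹ * (g * v * g⁻¹) = 1 := by
    have : g * v * g⁻¹ * (g * v * g⁻¹) = g * (v * v) * g⁻¹ := by group
    rw [this, hvv, mul_one, mul_inv_cancel]
  rw [h.mem_H_iff hg h1 h2, h.mem_H_iff hv hv1 hvv]
  constructor
  · intro hx
    calc g⁻¹ * x * g * v = g⁻¹ * (x * (g * v * g⁻¹)) * g := by group
      _ = g⁻¹ * ((g * v * g⁻¹) * x) * g := by rw [hx]
      _ = _ := by group
  · intro hx
    calc x * (g * v * g⁻¹) = g * (g⁻¹ * x * g * v) * g⁻¹ := by group
      _ = g * (v * (g⁻¹ * x * g)) * g⁻¹ := by rw [hx]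
      _ = _ := by group

/-- If `g` normalizes `H` and `A` is not of exponent two, the involutions of `A` are permuted by
`g`. -/
theorem GD.conj_mem_A (h : GD A t) (hb : ∃ b ∈ A, b * b ≠ 1) {g : G}
    (hg : ∀ x, x ∈ h.H ↔ g⁻¹ * x * g ∈ h.H) {w : G} (hw : w ∈ A) (hww : w * w = 1) :
    g * w * g⁻¹ ∈ A := by
  by_contra hA
  have h1 : g * w * g⁻¹ ∈ h.H := by
    rw [hg]
    have : g⁻¹ * (g * w * g⁻¹) * g = w := by group
    rw [this]
    exact Or.inl hw
  have h2 := h.mul_t_mem h1 hA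
  obtain ⟨b, hb, hb2⟩ := hb
  have h3 := h.inv' h2 hb
  have h4 : g⁻¹ * b * g ∈ h.H := (hg b).1 (Or.inl hb)
  have h5 := h.comm_of_mem hw hww h4
  have h6 : (g * w * g⁻¹) * b = b * (g * w * g⁻¹) := by
    calc (g * w * g⁻¹) * b = g * (w * (g⁻¹ * b * g)) * g⁻¹ := by group
      _ = g * ((g⁻¹ * b * g) * w) * g⁻¹ := by rw [h5]
      _ = _ := by group
  rw [h6, mul_assoc, mul_inv_cancel, mul_one] at h3
  apply hb2
  calc b * b = b⁻¹ * b := by rw [← h3]
    _ = 1 := inv_mul_cancel b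

/-- **Strong closure.** If `A` has two involutions and is not of exponent two, then a conjugate of an
involution of `A` lying in `H` lies in `A`. -/
theorem GD.strong (h : GD A t) (hb : ∃ b ∈ A, b * b ≠ 1)
    (h2 : ∃ v ∈ A, ∃ w ∈ A, v ≠ 1 ∧ w ≠ 1 ∧ v ≠ w ∧ v * v = 1 ∧ w * w = 1)
    {u g : G} (hu : u ∈ A) (hu1 : u ≠ 1) (huu : u * u = 1) (hg : g * u * g⁻¹ ∈ h.H) :
    g * u * g⁻¹ ∈ A := by
  by_contra hA
  have h3 := h.mul_t_mem hg hA
  obtain ⟨v, hv, w, hw, hv1, hw1, hvw, hvv, hww⟩ := h2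
  -- conjugates by g⁻¹ of involutions of A lie in H
  have key : ∀ y ∈ A, y * y = 1 → g⁻¹ * y * g ∈ h.H := by
    intro y hy hyy
    rw [h.mem_H_iff hu hu1 huu]
    have h4 := h.comm_of_mem hy hyy (Or.inr h3)
    calc g⁻¹ * y * g * u = g⁻¹ * (y * (g * u * g⁻¹)) * g := by group
      _ = g⁻¹ * ((g * u * g⁻¹) * y) * g := by rw [h4]
      _ = _ := by group
  obtain ⟨y, hy, hy1, hyy, hyA⟩ : ∃ y ∈ A, y ≠ 1 ∧ y * y = 1 ∧ g⁻¹ * y * g ∈ A := by
    by_cases hvA : g⁻¹ * v * g ∈ A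
    · exact ⟨v, hv, hv1, hvv, hvA⟩
    by_cases hwA : g⁻¹ * w * g ∈ A
    · exact ⟨w, hw, hw1, hww, hwA⟩
    refine ⟨v * w, A.mul_mem hv hw, ?_, ?_, ?_⟩
    · intro h5
      apply hvw
      have : v = w⁻¹ := eq_inv_of_mul_eq_one_left h5
      rw [this, inv_eq_iff_mul_eq_one.2 hww]
    · calc v * w * (v * w) = v * (w * v) * w := by group
        _ = v * (v * w) * w := by rw [h.comm w hw v hv]
        _ = (v * v) * (w * w) := by group
        _ = 1 := by rw [hvv, hww, mul_one]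
    · have h5 := h.mul_mem_of_notMem (key v hv hvv) hvA (key w hw hww) hwA
      have h6 : g⁻¹ * (v * w) * g = g⁻¹ * v * g * (g⁻¹ * w * g) := by group
      rw [h6]; exact h5
  -- hence `g` normalizes `H`
  have h5 : ∀ x, x ∈ h.H ↔ g⁻¹ * x * g ∈ h.H := by
    intro x
    have h6 : g * (g⁻¹ * y * g) * g⁻¹ ∈ A := by
      have : g * (g⁻¹ * y * g) * g⁻¹ = y := by group
      rw [this]; exact hy
    refine h.norm_of_conj hyA ?_ ?_ h6
    · intro h7
      apply hy1
      have := congrArg (fun x => g * x * g⁻¹) h7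
      simpa [mul_assoc] using this
    · have : g⁻¹ * y * g * (g⁻¹ * y * g) = g⁻¹ * (y * y) * g := by group
      rw [this, hyy, mul_one, inv_mul_cancel]
  exact hA (h.conj_mem_A hb h5 hu huu)

/-- the involutions of `A` together with `1` -/
def GD.V (h : GD A t) : Subgroup G where
  carrier := {x | x ∈ A ∧ x * x = 1}
  one_mem' := ⟨A.one_mem, one_mul 1⟩
  mul_mem' := by
    rintro x y ⟨hx, hxx⟩ ⟨hy, hyy⟩
    refine ⟨A.mul_mem hx hy, ?_⟩
    calc x * y * (x * y) = x * (y * x) * y := by group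
      _ = x * (x * y) * y := by rw [h.comm y hy x hx]
      _ = (x * x) * (y * y) := by group
      _ = 1 := by rw [hxx, hyy, mul_one]
  inv_mem' := by
    rintro x ⟨hx, hxx⟩
    refine ⟨A.inv_mem hx, ?_⟩
    rw [← mul_inv_rev, hxx, inv_one]

theorem GD.mem_V (h : GD A t) {x : G} : x ∈ h.V ↔ x ∈ A ∧ x * x = 1 := Iff.rfl

theorem GD.isPGroup_V (h : GD A t) : IsPGroup 2 h.V := by
  intro x
  refine ⟨1, ?_⟩
  apply Subtype.ext
  simpa [pow_two] using x.2.2

theorem exists_fixed [Finite G] {T B : Subgroup G} (hT : IsPGroup 2 T) (hB : IsPGroup 2 B)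
    (h1 : B ≠ ⊥) (hn : T ≤ normalizer (B : Set G)) : ∃ x ∈ B, x ≠ 1 ∧ ∀ s ∈ T, s * x = x * s := by
  have h2 : Fact (Nat.Prime 2) := ⟨Nat.prime_two⟩
  let _ : MulAction T B :=
    { smul := fun t a => ⟨t * a * (t : G)⁻¹, (mem_normalizer_iff.1 (hn t.2) a).1 a.2⟩
      one_smul := fun a => Subtype.ext (by
        show (1 : G) * a * (1 : G)⁻¹ = a; rw [one_mul, inv_one, mul_one])
      mul_smul := fun s t a => Subtype.ext (by
        show ((s * t : T) : G) * a * ((s * t : T) : G)⁻¹ = s * (t * a * (t : G)⁻¹) * (s : G)⁻¹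
        rw [Subgroup.coe_mul]; group) }
  have hsm : ∀ (t : T) (a : B), ((t • a : B) : G) = t * a * (t : G)⁻¹ := fun _ _ => rfl
  have : Nontrivial B := (nontrivial_iff_ne_bot B).2 h1
  obtain ⟨n, hn⟩ := IsPGroup.iff_card.1 hB
  have hn0 : n ≠ 0 := by
    rintro rfl
    rw [pow_zero] at hn
    exact (Finite.one_lt_card_iff_nontrivial.2 this).ne' hn
  have h3 : (1 : B) ∈ MulAction.fixedPoints T B := by
    intro t
    apply Subtype.ext
    rw [hsm]
    show (t : G) * 1 * (t : G)⁻¹ = 1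
    group
  obtain ⟨x, hx, hx1⟩ := hT.exists_fixed_point_of_prime_dvd_card_of_fixed_point B
    (by rw [hn]; exact dvd_pow_self 2 hn0) h3
  refine ⟨x, x.2, fun h => hx1 (Subtype.ext h).symm, fun s hs => ?_⟩
  have h4 := congrArg Subtype.val (hx ⟨s, hs⟩)
  rw [hsm] at h4
  change s * x * s⁻¹ = x at h4
  rw [mul_inv_eq_iff_eq_mul] at h4
  exact h4

/-- a Sylow 2-subgroup containing the involutions of `A` lies in `H` -/
theorem GD.sylow_le [Finite G] (h : GD A t) (hb : ∃ b ∈ A, b * b ≠ 1)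
    (h2 : ∃ v ∈ A, ∃ w ∈ A, v ≠ 1 ∧ w ≠ 1 ∧ v ≠ w ∧ v * v = 1 ∧ w * w = 1)
    (T : Subgroup G) (hT : IsPGroup 2 T) (hV : h.V ≤ T) : T ≤ h.H := by
  have : Fact (Nat.Prime 2) := ⟨Nat.prime_two⟩
  by_contra hne
  obtain ⟨y, hyT, hyn, hyH⟩ := Cfsg.Agent.SignalizersComponents.RelSylow.exists_mem_normalizer
    (D := T ⊓ h.H) hT inf_le_left (fun h3 => hne (h3.trans inf_le_right))
  have hyn' : ∀ x ∈ h.V, y * x * y⁻¹ ∈ h.V := by
    intro x hx
    refine ⟨?_, ?_⟩
    · by_cases hx1 : x = 1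
      · rw [hx1, mul_one, mul_inv_cancel]; exact A.one_mem
      · apply h.strong hb h2 hx.1 hx1 hx.2
        have h3 : x ∈ T ⊓ h.H := ⟨hV hx, h.A_le hx.1⟩
        exact ((mem_normalizer_iff.1 hyn x).1 h3).2
    · have : y * x * y⁻¹ * (y * x * y⁻¹) = y * (x * x) * y⁻¹ := by group
      rw [this, hx.2, mul_one, mul_inv_cancel]
  have hyV : y ∈ normalizer (h.V : Set G) := by
    rw [mem_normalizer_iff]
    intro x
    constructor
    · exact hyn' x
    · intro hx
      -- finite order argument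
      have h3 : ∀ n : ℕ, ∀ z ∈ h.V, y ^ n * z * (y ^ n)⁻¹ ∈ h.V := by
        intro n
        induction n with
        | zero => intro z hz; simpa using hz
        | succ n ih =>
          intro z hz
          have h4 := hyn' _ (ih z hz)
          have h5 : y ^ (n + 1) * z * (y ^ (n + 1))⁻¹ = y * (y ^ n * z * (y ^ n)⁻¹) * y⁻¹ := by
            rw [pow_succ']; group
          rw [h5]; exact h4
      have h6 := h3 (orderOf y - 1) _ hx
      have h7 : y ^ (orderOf y - 1) = y⁻¹ := by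
        rw [eq_inv_iff_mul_eq_one, ← pow_succ, Nat.sub_add_cancel (orderOf_pos y),
          pow_orderOf_eq_one]
      rw [h7] at h6
      have h8 : y⁻¹ * (y * x * y⁻¹) * (y⁻¹)⁻¹ = x := by group
      rwa [h8] at h6
  have hVne : h.V ≠ ⊥ := by
    obtain ⟨v, hv, hv1, hvv⟩ := h.even
    intro h3
    apply hv1
    have : v ∈ h.V := ⟨hv, hvv⟩
    rwa [h3, mem_bot] at this
  obtain ⟨x, hx, hx1, hxc⟩ := exists_fixed (T := T ⊓ normalizer (h.V : Set G)) (B := h.V)
    (hT.to_le inf_le_left) h.isPGroup_V hVne inf_le_right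
  have h3 : y * x = x * y := hxc y ⟨hyT, hyV⟩
  exact hyH ⟨hyT, (h.mem_H_iff hx.1 hx1 hx.2).2 h3⟩

/-- The index-two subgroup: a normal subgroup `K` of index 2 with `K ⊓ H = A`. -/
theorem GD.exists_index_two [Finite G] (h : GD A t) (hb : ∃ b ∈ A, b * b ≠ 1)
    (h2 : ∃ v ∈ A, ∃ w ∈ A, v ≠ 1 ∧ w ≠ 1 ∧ v ≠ w ∧ v * v = 1 ∧ w * w = 1) :
    ∃ K : Subgroup G, K.Normal ∧ K.index = 2 ∧ K ⊓ h.H = A ∧
      ∀ w ∈ K, w ≠ 1 → w * w = 1 → ∃ g : G, g * w * g⁻¹ ∈ A := by
  have : Fact (Nat.Prime 2) := ⟨Nat.prime_two⟩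
  -- a Sylow 2-subgroup containing `V` and `t`
  have hVt : IsPGroup 2 (h.V ⊔ zpowers t : Subgroup G) := by
    apply IsPGroup.to_sup_of_normal_left' h.isPGroup_V
    · apply IsPGroup.of_card (n := 1)
      rw [Nat.card_zpowers, orderOf_eq_prime (by rw [pow_two, h.tt])
        (fun h3 => h.tA (by rw [h3]; exact A.one_mem)), pow_one]
    · rw [zpowers_le, mem_normalizer_iff]
      intro x
      have h4 : ∀ x ∈ h.V, t * x * t⁻¹ ∈ h.V := by
        intro x hx
        rw [h.t_inv, h.inv x hx.1]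
        exact h.V.inv_mem hx
      constructor
      · exact h4 x
      · intro hx
        have h5 := h4 _ hx
        have h6 : t * (t * x * t⁻¹) * t⁻¹ = x := by
          rw [h.t_inv]
          calc t * (t * x * t) * t = (t * t) * x * (t * t) := by group
            _ = x := by rw [h.tt, one_mul, mul_one]
        rwa [h6] at h5
  obtain ⟨S, hS⟩ := hVt.exists_le_sylow
  have hVS : h.V ≤ S := le_sup_left.trans hS
  have htS : t ∈ (S : Subgroup G) := hS ((le_sup_right : zpowers t ≤ _) (mem_zpowers t))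
  have hSH : (S : Subgroup G) ≤ h.H := h.sylow_le hb h2 S S.isPGroup' hVS
  -- `A ∩ S` is strongly closed
  have hcl : ∀ s ∈ h.H, s ∈ A → ∀ g : G, g * s * g⁻¹ ∈ h.H → g * s * g⁻¹ ∈ A := by
    intro s _ hsA g hg
    by_contra hA
    have h3 := h.sq (h.mul_t_mem hg hA)
    have h4 : s * s = 1 := by
      have h5 : g * s * g⁻¹ * (g * s * g⁻¹) = g * (s * s) * g⁻¹ := by group
      rw [h5] at h3
      have := congrArg (fun x => g⁻¹ * x * g) h3
      simpa [mul_assoc] using this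
    have hs1 : s ≠ 1 := by
      rintro rfl
      apply hA
      rw [mul_one, mul_inv_cancel]; exact A.one_mem
    exact hA (h.strong hb h2 hsA hs1 h4 hg)
  obtain ⟨K, hKn, hKi, hKS⟩ := Cfsg.Agent.TwoFusion.TransferIndex.exists_normal_of_fusion S
    (A ⊓ (S : Subgroup G)) inf_le_right (by
      intro s hs g hg
      refine ⟨?_, (S : Subgroup G).mul_mem ((S : Subgroup G).inv_mem hs) hg⟩
      by_cases hsA : s ∈ A
      · exact A.mul_mem (A.inv_mem hsA) (hcl s (hSH hs) hsA g (hSH hg))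
      · have h3 : g * s * g⁻¹ ∉ A := by
          intro h4
          apply hsA
          have h5 := hcl _ (hSH hg) h4 g⁻¹
          have h6 : g⁻¹ * (g * s * g⁻¹) * g⁻¹⁻¹ = s := by group
          rw [h6] at h5
          exact h5 (hSH hs)
        apply h.mul_mem_of_notMem (h.H.inv_mem (hSH hs)) (fun h4 => hsA (by
          rw [← inv_inv s]; exact A.inv_mem h4)) (hSH hg) h3)
  have hidx : (A ⊓ (S : Subgroup G)).relIndex S = 2 := by
    rw [Subgroup.inf_relIndex_right]
    -- `A.relIndex S = 2`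
    unfold Subgroup.relIndex
    rw [Subgroup.index_eq_two_iff]
    refine ⟨⟨t, htS⟩, fun b => ?_⟩
    rw [mem_subgroupOf, mem_subgroupOf]
    change Xor ((b : G) * t ∈ A) ((b : G) ∈ A)
    rcases hSH b.2 with hb | hb
    · refine Or.inr ⟨hb, fun h3 => h.tA ?_⟩
      have h4 : t = (b : G)⁻¹ * ((b : G) * t) := by group
      rw [h4]
      exact A.mul_mem (A.inv_mem hb) h3
    · refine Or.inl ⟨hb, fun h3 => h.tA ?_⟩
      have h4 : t = (b : G)⁻¹ * ((b : G) * t) := by group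
      rw [h4]
      exact A.mul_mem (A.inv_mem h3) hb
  rw [hidx] at hKi
  -- `t ∉ K`
  have htK : t ∉ K := by
    intro h3
    have h4 : t ∈ K ⊓ S := ⟨h3, htS⟩
    rw [hKS] at h4
    exact h.tA h4.1
  -- products of two elements outside `K` lie in `K`
  have hK2 : ∀ a b : G, a * b ∈ K ↔ (a ∈ K ↔ b ∈ K) := fun a b =>
    Subgroup.mul_mem_iff_of_index_two hKi
  -- `A ≤ K`
  have hAK : A ≤ K := by
    intro a ha
    by_contra haK
    -- `a t ∈ K`, an involution; it lies in a conjugate of `S`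
    have h3 : a * t ∈ K := by
      rw [hK2]
      exact ⟨fun h4 => absurd h4 haK, fun h4 => absurd h4 htK⟩
    have h4 : a * t * (a * t) = 1 := h.sq (by
      rw [mul_assoc, h.tt, mul_one]; exact ha)
    have h5 : a * t ∉ A := by
      intro h6
      apply h.tA
      have h7 : t = a⁻¹ * (a * t) := by group
      rw [h7]
      exact A.mul_mem (A.inv_mem ha) h6
    have h6 : a * t ≠ 1 := fun h7 => h5 (by rw [h7]; exact A.one_mem)
    have hp : IsPGroup 2 (zpowers (a * t)) := by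
      apply IsPGroup.of_card (n := 1)
      rw [Nat.card_zpowers, orderOf_eq_prime (by rw [pow_two, h4]) h6, pow_one]
    obtain ⟨S', hS'⟩ := hp.exists_le_sylow
    obtain ⟨g, hg⟩ := MulAction.exists_smul_eq G S' S
    have h7 : g * (a * t) * g⁻¹ ∈ (S : Subgroup G) := by
      rw [← hg]
      exact ⟨a * t, hS' (mem_zpowers _), rfl⟩
    have h8 : g * (a * t) * g⁻¹ ∈ K ⊓ S := ⟨hKn.conj_mem _ h3 g, h7⟩
    rw [hKS] at h8
    apply h5
    have h9 := hcl _ (hSH h7) h8.1 g⁻¹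
    have h10 : g⁻¹ * (g * (a * t) * g⁻¹) * g⁻¹⁻¹ = a * t := by group
    rw [h10] at h9
    exact h9 (Or.inr (by rw [mul_assoc, h.tt, mul_one]; exact ha))
  refine ⟨K, hKn, hKi, ?_, ?_⟩
  · apply le_antisymm
    · rintro x ⟨hxK, hxH⟩
      by_contra hxA
      have h3 := h.mul_t_mem hxH hxA
      have h4 := hAK h3
      rw [hK2] at h4
      exact htK (h4.1 hxK)
    · intro x hx
      exact ⟨hAK hx, h.A_le hx⟩
  · intro w hw hw1 hww
    have hp : IsPGroup 2 (zpowers w) := by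
      apply IsPGroup.of_card (n := 1)
      rw [Nat.card_zpowers, orderOf_eq_prime (by rw [pow_two, hww]) hw1, pow_one]
    obtain ⟨S', hS'⟩ := hp.exists_le_sylow
    obtain ⟨g, hg⟩ := MulAction.exists_smul_eq G S' S
    have h7 : g * w * g⁻¹ ∈ (S : Subgroup G) := by
      rw [← hg]
      exact ⟨w, hS' (mem_zpowers _), rfl⟩
    have h8 : g * w * g⁻¹ ∈ K ⊓ S := ⟨hKn.conj_mem _ hw g, h7⟩
    rw [hKS] at h8
    exact ⟨g, h8.1⟩

end Cfsg.Agent.H825
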