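import Mathlib
import Cfsg.Agent.H825.SubDih
import Cfsg.Agent.H825.PGLRecog
import Cfsg.Agent.H825.OuterCent
import Cfsg.Agent.S0483
import Cfsg.Agent.Classification.DihStructure
import Cfsg.Agent.Lib.PSL2Outer
import Cfsg.Agent.StandardComponent.AltAut

/-!
# One involution in `A`: the structure of the group
-/

set_option autoImplicit false

namespace Cfsg.Agent.H825

open Subgroup Matrix Cfsg.Agent.Classification.DihedralCentral
open scoped commutatorElement
open Cfsg.Agent.ClassicalGeometry.AutPSL Cfsg.Agent.ClassicalGeometry.AutPSL.Auto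
  Cfsg.Agent.ClassicalGeometry.AutPSL.Root

section general

variable {G : Type*} [Group G]

/-- three independent commuting involutions do not exist in a `SubDihedral` group -/
theorem no_eight [Finite G] (hG : SubDihedral G) {a b s : G} (ha : a * a = 1) (hb : b * b = 1)
    (hs : s * s = 1) (hab : a * b = b * a) (has : a * s = s * a) (hbs : b * s = s * b)
    (ha1 : a ≠ 1) (hb1 : b ≠ 1) (hne : a ≠ b) (hs1 : s ≠ 1) (hsa : s ≠ a) (hsb : s ≠ b)
    (hsab : s ≠ a * b) : False := by
  have hcomm0 : ∀ x ∈ ({a, b, s} : Set G), ∀ y ∈ ({a, b, s} : Set G), x * y = y * x := by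
    rintro x (rfl | rfl | rfl) y (rfl | rfl | rfl)
    · rfl
    · exact hab
    · exact has
    · exact hab.symm
    · rfl
    · exact hbs
    · exact has.symm
    · exact hbs.symm
    · rfl
  let T := closure ({a, b, s} : Set G)
  have hcomm : ∀ x ∈ T, ∀ y ∈ T, x * y = y * x := by
    intro x hx y hy
    have := (isMulCommutative_closure hcomm0).is_comm.comm ⟨x, hx⟩ ⟨y, hy⟩
    exact congrArg Subtype.val this
  have hsq : ∀ x ∈ T, x * x = 1 := by
    intro x hx
    induction hx using closure_induction with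
    | mem x hx =>
      rcases hx with rfl | rfl | rfl
      · exact ha
      · exact hb
      · exact hs
    | one => exact one_mul 1
    | mul x y hx hy hx' hy' =>
      calc x * y * (x * y) = x * (y * x) * y := by group
        _ = x * (x * y) * y := by rw [hcomm y hy x hx]
        _ = (x * x) * (y * y) := by group
        _ = 1 := by rw [hx', hy', mul_one]
    | inv x hx hx' => rw [← _root_.mul_inv_rev, hx', inv_one]
  have hp : IsPGroup 2 T := by
    intro x
    refine ⟨1, ?_⟩
    apply Subtype.ext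
    simpa [pow_two] using hsq x x.2
  obtain ⟨R, hR, hRT⟩ := hG T hp
  have haT : a ∈ T := subset_closure (by simp)
  have hbT : b ∈ T := subset_closure (by simp)
  have hsT : s ∈ T := subset_closure (by simp)
  have huniq : ∀ x ∈ R, ∀ y ∈ R, x * x = 1 → y * y = 1 → x ≠ 1 → y ≠ 1 → x = y :=
    fun x hx y hy h1 h2 h3 h4 =>
      Cfsg.Agent.Classification.TransferSign.eq_of_isCyclic R hR hx hy h1 h2 h3 h4
  -- products
  have hne1 : ∀ x y : G, y * y = 1 → x ≠ y → x * y ≠ 1 := by
    intro x y hy hxy h1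
    apply hxy
    rw [eq_inv_of_mul_eq_one_left h1, inv_eq_iff_mul_eq_one.2 hy]
  have hmul1 : ∀ x ∈ T, ∀ y ∈ T, (x * y) * (x * y) = 1 := fun x hx y hy =>
    hsq _ (T.mul_mem hx hy)
  by_cases haR : a ∈ R
  · have hbR : b ∉ R := fun h => hne (huniq a haR b h ha hb ha1 hb1)
    have hsR : s ∉ R := fun h => hsa (huniq s h a haR hs ha hs1 ha1)
    have h1 := (hRT b hbT hbR).2 s hsT hsR
    have h2 := huniq _ h1 a haR (hmul1 b hbT s hsT) ha (hne1 b s hs (fun h => hsb h.symm)) ha1
    apply hsab
    have h3 : b * (b * s) = b * a := by rw [h2]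
    rw [← mul_assoc, hb, one_mul] at h3
    rw [h3, hab]
  · by_cases hbR : b ∈ R
    · have hsR : s ∉ R := fun h => hsb (huniq s h b hbR hs hb hs1 hb1)
      have h1 := (hRT a haT haR).2 s hsT hsR
      have h2 := huniq _ h1 b hbR (hmul1 a haT s hsT) hb (hne1 a s hs (fun h => hsa h.symm)) hb1
      apply hsab
      have h3 : a * (a * s) = a * b := by rw [h2]
      rw [← mul_assoc, ha, one_mul] at h3
      exact h3
    · have h1 := (hRT a haT haR).2 b hbT hbR
      have h1' := hne1 a b hb hne
      by_cases hsR : s ∈ R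
      · exact hsab (huniq s hsR _ h1 hs (hmul1 a haT b hbT) hs1 h1')
      · have h2 := (hRT a haT haR).2 s hsT hsR
        have h3 := huniq _ h1 _ h2 (hmul1 a haT b hbT) (hmul1 a haT s hsT) h1'
          (hne1 a s hs (fun h => hsa h.symm))
        exact hsb (mul_left_cancel h3).symm

/-- the automorphism of `L ≅ PSL(2,F)` induced by an involution without fixed four-groups -/
theorem exists_gl {L : Subgroup G} [L.Normal] {F : Type*} [Field F] [Fintype F]
    (hF : Odd (Fintype.card F)) (ψ : L ≃* ProjectiveSpecialLinearGroup (Fin 2) F) {s : G}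
    (hss : s * s = 1)
    (hno : ∀ a ∈ L, ∀ b ∈ L, a ≠ 1 → b ≠ 1 → a ≠ b → a * a = 1 → b * b = 1 → a * b = b * a →
      s * a = a * s → s * b = b * s → False) :
    ∃ g : GL (Fin 2) F, ∀ x : SpecialLinearGroup (Fin 2) F,
      s * (ψ.symm (pr x) : L) * s⁻¹ = ((ψ.symm (pr (cj g x)) : L) : G) := by
  have h2 : (2 : F) ≠ 0 := (Cfsg.Agent.ClassicalGeometry.PSL2Basic.two_ne_zero_iff_odd F).2 hF
  have hfix : ∀ x : L, (MulAut.conjNormal s : MulAut L) x = x → s * x = x * s := by
    intro x hx
    have h3 := congrArg Subtype.val hx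
    rw [MulAut.conjNormal_apply] at h3
    rwa [mul_inv_eq_iff_eq_mul] at h3
  obtain ⟨g, hg⟩ := Cfsg.Agent.Lib.PSL2Outer.exists_gl_of_inv h2
    (ψ.symm.toMonoidHom.comp (pr : SpecialLinearGroup (Fin 2) F →* _))
    (ψ.symm.surjective.comp pr_surjective) (by
      intro x
      rw [MonoidHom.comp_apply]
      change ψ.symm (pr x) = 1 ↔ _
      rw [map_eq_one_iff _ ψ.symm.injective, pr_eq_one_iff]
      exact Cfsg.Agent.ClassicalGeometry.PSL2Basic.mem_center_SL2_iff)
    (w := MulAut.conjNormal s) (by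
      intro x
      apply Subtype.ext
      rw [MulAut.conjNormal_apply, MulAut.conjNormal_apply]
      have h3 : s⁻¹ = s := inv_eq_iff_mul_eq_one.2 hss
      rw [h3]
      calc s * (s * x * s) * s = (s * s) * x * (s * s) := by group
        _ = x := by rw [hss, one_mul, mul_one]) (by
      intro a b ha hb hab haa hbb hcomm hwa hwb
      exact hno a a.2 b b.2 (fun h => ha (Subtype.ext h)) (fun h => hb (Subtype.ext h))
        (fun h => hab (Subtype.ext h)) (congrArg Subtype.val haa) (congrArg Subtype.val hbb)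
        (congrArg Subtype.val hcomm) (hfix a hwa) (hfix b hwb))
  refine ⟨g, fun x => ?_⟩
  have h3 := congrArg Subtype.val (hg x)
  rw [MulAut.conjNormal_apply] at h3
  exact h3

end general

section alt

open Equiv Equiv.Perm

theorem perm_cases (σ : Perm (Fin 7)) (hσ : σ * σ = 1) (hs : sign σ = -1) :
    IsConj (swap 0 1 : Perm (Fin 7)) σ ∨
      IsConj (swap 0 1 * swap 2 3 * swap 4 5 : Perm (Fin 7)) σ := by
  have key : ∀ τ : Perm (Fin 7), τ * τ = 1 → sign τ = -1 →
      (τ.support.card = 2 ∧ τ.cycleType = Multiset.replicate 1 2) ∨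
        (τ.support.card = 6 ∧ τ.cycleType = Multiset.replicate 3 2) := by
    intro τ hτ hs
    have h1 : τ ≠ 1 := by
      rintro rfl
      rw [map_one] at hs
      exact absurd hs (by decide)
    have h2 : orderOf τ = 2 := orderOf_eq_prime (by rw [pow_two, hτ]) h1
    obtain ⟨n, hn⟩ := cycleType_prime_order (σ := τ) (by rw [h2]; exact Nat.prime_two)
    rw [h2] at hn
    have h3 := sum_cycleType τ
    rw [hn, Multiset.sum_replicate] at h3
    have h4 : τ.support.card ≤ 7 := by
      have := Finset.card_le_univ τ.support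
      rwa [Fintype.card_fin] at this
    have h5 := sign_of_cycleType τ
    rw [hs, hn, Multiset.sum_replicate, Multiset.card_replicate] at h5
    have h6 : (n + 1) * 2 ≤ 7 := by
      rw [← smul_eq_mul, h3]; exact h4
    have h7 : n = 0 ∨ n = 1 ∨ n = 2 := by omega
    rcases h7 with rfl | rfl | rfl
    · left
      exact ⟨by rw [← h3]; rfl, hn⟩
    · exfalso
      revert h5
      decide
    · right
      exact ⟨by rw [← h3]; rfl, hn⟩
  rcases key σ hσ hs with ⟨h1, h2⟩ | ⟨h1, h2⟩
  · left
    rw [isConj_iff_cycleType_eq, h2]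
    rcases key (swap 0 1) (by decide) (by decide) with ⟨-, h3⟩ | ⟨h3, -⟩
    · exact h3
    · exfalso
      revert h3
      decide
  · right
    rw [isConj_iff_cycleType_eq, h2]
    rcases key (swap 0 1 * swap 2 3 * swap 4 5) (by decide) (by decide) with ⟨h3, -⟩ | ⟨-, h3⟩
    · exfalso
      revert h3
      decide
    · exact h3

/-- an odd involution of `S₇` centralizes a four-group of `A₇` -/
theorem perm_four (σ : Perm (Fin 7)) (hσ : σ * σ = 1) (hs : sign σ = -1) :
    ∃ a b : alternatingGroup (Fin 7), a ≠ 1 ∧ b ≠ 1 ∧ a ≠ b ∧ a * a = 1 ∧ b * b = 1 ∧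
      a * b = b * a ∧ σ * a = a * σ ∧ σ * b = b * σ := by
  have key : ∀ (τ : Perm (Fin 7)), IsConj τ σ → (∃ a b : Perm (Fin 7), sign a = 1 ∧ sign b = 1 ∧
      a ≠ 1 ∧ b ≠ 1 ∧ a ≠ b ∧ a * a = 1 ∧ b * b = 1 ∧
      a * b = b * a ∧ τ * a = a * τ ∧ τ * b = b * τ) →
      ∃ a b : alternatingGroup (Fin 7), a ≠ 1 ∧ b ≠ 1 ∧ a ≠ b ∧ a * a = 1 ∧ b * b = 1 ∧
      a * b = b * a ∧ σ * a = a * σ ∧ σ * b = b * σ := by
    rintro τ hτ ⟨a, b, ha, hb, ha1, hb1, hab, haa, hbb, hc, hta, htb⟩
    obtain ⟨c, hc'⟩ := isConj_iff.1 hτ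
    have hcj : ∀ x y : Perm (Fin 7), c * x * c⁻¹ * (c * y * c⁻¹) = c * (x * y) * c⁻¹ := by
      intro x y; group
    have hinj : ∀ x y : Perm (Fin 7), c * x * c⁻¹ = c * y * c⁻¹ → x = y := by
      intro x y h
      exact mul_left_cancel (mul_right_cancel h)
    have hsg : ∀ x : Perm (Fin 7), sign x = 1 → c * x * c⁻¹ ∈ alternatingGroup (Fin 7) := by
      intro x hx
      rw [mem_alternatingGroup, map_mul, map_mul, hx, mul_one, ← map_mul, mul_inv_cancel, map_one]
    refine ⟨⟨c * a * c⁻¹, hsg a ha⟩, ⟨c * b * c⁻¹, hsg b hb⟩, ?_, ?_, ?_, ?_, ?_, ?_, ?_, ?_⟩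
    · intro h
      apply ha1
      apply hinj
      rw [mul_one, mul_inv_cancel]
      exact congrArg Subtype.val h
    · intro h
      apply hb1
      apply hinj
      rw [mul_one, mul_inv_cancel]
      exact congrArg Subtype.val h
    · intro h
      exact hab (hinj _ _ (congrArg Subtype.val h))
    · apply Subtype.ext
      change c * a * c⁻¹ * (c * a * c⁻¹) = 1
      rw [hcj, haa, mul_one, mul_inv_cancel]
    · apply Subtype.ext
      change c * b * c⁻¹ * (c * b * c⁻¹) = 1
      rw [hcj, hbb, mul_one, mul_inv_cancel]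
    · apply Subtype.ext
      change c * a * c⁻¹ * (c * b * c⁻¹) = c * b * c⁻¹ * (c * a * c⁻¹)
      rw [hcj, hcj, hc]
    · change σ * (c * a * c⁻¹) = c * a * c⁻¹ * σ
      rw [← hc', hcj, hcj, hta]
    · change σ * (c * b * c⁻¹) = c * b * c⁻¹ * σ
      rw [← hc', hcj, hcj, htb]
  rcases perm_cases σ hσ hs with h | h
  · exact key _ h ⟨swap 2 3 * swap 4 5, swap 2 4 * swap 3 5, by decide, by decide, by decide,
      by decide, by decide, by decide, by decide, by decide, by decide, by decide⟩
  · exact key _ h ⟨swap 0 1 * swap 2 3, swap 0 1 * swap 4 5, by decide, by decide, by decide,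
      by decide, by decide, by decide, by decide, by decide, by decide, by decide⟩

end alt

section main

variable {G : Type*} [Group G] {A : Subgroup G} {t v : G}

/-- the involutions outside `L` commuting with commuting involutions of `L`: none for `v` -/
theorem GD.no_four (h : GD A t) (hv : Uni A v) {L : Subgroup G} (hvL : v ∉ L) :
    ∀ a ∈ L, ∀ b ∈ L, a ≠ 1 → b ≠ 1 → a ≠ b → a * a = 1 → b * b = 1 → a * b = b * a →
      v * a = a * v → v * b = b * v → False := by
  intro a ha b hb ha1 hb1 hab haa hbb hcomm hva hvb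
  have haH : a ∈ h.H := (h.mem_H_iff hv.mem hv.ne hv.sq).2 hva.symm
  have hbH : b ∈ h.H := (h.mem_H_iff hv.mem hv.ne hv.sq).2 hvb.symm
  have haA : a ∉ A := fun h1 => hvL (by rw [← hv.uniq a h1 ha1 haa]; exact ha)
  have hbA : b ∉ A := fun h1 => hvL (by rw [← hv.uniq b h1 hb1 hbb]; exact hb)
  have h1 := h.mul_mem_of_notMem haH haA hbH hbA
  have h2 : a * b ≠ 1 := by
    intro h3
    apply hab
    rw [eq_inv_of_mul_eq_one_left h3, inv_eq_iff_mul_eq_one.2 hbb]
  have h3 : a * b * (a * b) = 1 := by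
    calc a * b * (a * b) = a * (b * a) * b := by group
      _ = a * (a * b) * b := by rw [hcomm]
      _ = (a * a) * (b * b) := by group
      _ = 1 := by rw [haa, hbb, mul_one]
  apply hvL
  rw [← hv.uniq _ h1 h2 h3]
  exact L.mul_mem ha hb

/-- squares of elements of `A` lie in a normal subgroup containing an element of `H ∖ A` -/
theorem GD.sq_mem (h : GD A t) {L : Subgroup G} (hL : L.Normal) {w : G} (hwL : w ∈ L)
    (hwH : w ∈ h.H) (hwA : w ∉ A) {a : G} (ha : a ∈ A) : a * a ∈ L := by
  have h1 := h.inv' (h.mul_t_mem hwH hwA) ha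
  -- `w a w⁻¹ = a⁻¹`
  have h2 : a * w * a⁻¹ ∈ L := hL.conj_mem _ hwL a
  have h3 : a * a = (a * w * a⁻¹) * w⁻¹ := by
    have h4 : a = w * a⁻¹ * w⁻¹ := by
      calc a = (w * a * w⁻¹)⁻¹ := by rw [h1, inv_inv]
        _ = _ := by group
    calc a * a = a * (w * a⁻¹ * w⁻¹) := by rw [← h4]
      _ = _ := by group
  rw [h3]
  exact L.mul_mem h2 (L.inv_mem hwL)

/-- an element of odd order is a square of a power -/
theorem mem_of_sq_mem [Finite G] {L : Subgroup G} {a : G} (ho : Odd (orderOf a)) (h : a * a ∈ L) :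
    a ∈ L := by
  obtain ⟨k, hk⟩ := ho
  have h1 : a ^ (2 * k + 2) = a := by
    have h2 : a ^ (2 * k + 1) = 1 := by rw [← hk, pow_orderOf_eq_one]
    calc a ^ (2 * k + 2) = a ^ (2 * k + 1) * a := by rw [← pow_succ]
      _ = a := by rw [h2, one_mul]
  have h2 : a ^ (2 * k + 2) = (a * a) ^ (k + 1) := by
    rw [← pow_two, ← pow_mul]; congr 1
  rw [← h1, h2]
  exact L.pow_mem h _

/-- `L ≅ A₇` is impossible. -/
theorem alt_seven [Finite G] (h : GD A t) (hv : Uni A v) {L : Subgroup G} (hLn : L.Normal)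
    (hC : centralizer (L : Set G) = ⊥)
    (hconj : ∀ x ∈ L, ∀ y ∈ L, x ≠ 1 → y ≠ 1 → x * x = 1 → y * y = 1 →
      ∃ l ∈ L, l * x * l⁻¹ = y)
    (φ : L ≃* alternatingGroup (Fin 7)) : False := by
  classical
  by_cases hvL : v ∈ L
  · let c : ∀ σ : Equiv.Perm (Fin 7), σ ∈ alternatingGroup (Fin 7) → alternatingGroup (Fin 7) :=
      fun σ hσ => ⟨σ, hσ⟩
    let a₀ : alternatingGroup (Fin 7) := c (Equiv.swap 0 1 * Equiv.swap 2 3)
      (Equiv.Perm.mem_alternatingGroup.2 (by decide))
    let w₀ : alternatingGroup (Fin 7) := c (Equiv.swap 0 2 * Equiv.swap 1 3)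
      (Equiv.Perm.mem_alternatingGroup.2 (by decide))
    let b₀ : alternatingGroup (Fin 7) := c (Equiv.swap 4 5 * Equiv.swap 5 6)
      (Equiv.Perm.mem_alternatingGroup.2 (by decide))
    have haa : a₀ * a₀ = 1 := by decide
    have hww : w₀ * w₀ = 1 := by decide
    have hbbb : b₀ * b₀ * b₀ = 1 := by decide
    have ha1 : a₀ ≠ 1 := by decide
    have hw1 : w₀ ≠ 1 := by decide
    have hb1 : b₀ ≠ 1 := by decide
    have haw : w₀ ≠ a₀ := by decide
    have hawc : w₀ * a₀ = a₀ * w₀ := by decide
    have habc : b₀ * a₀ = a₀ * b₀ := by decide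
    have hwbc : w₀ * b₀ = b₀ * w₀ := by decide
    have hne : ∀ x : alternatingGroup (Fin 7), x ≠ 1 → ((φ.symm x : L) : G) ≠ 1 := by
      intro x hx h1
      apply hx
      have h2 : φ.symm x = 1 := Subtype.ext h1
      rwa [map_eq_one_iff _ φ.symm.injective] at h2
    have hsq : ∀ x : alternatingGroup (Fin 7), x * x = 1 →
        ((φ.symm x : L) : G) * ((φ.symm x : L) : G) = 1 := by
      intro x hx
      have h1 : φ.symm x * φ.symm x = 1 := by rw [← map_mul, hx, map_one]
      exact congrArg Subtype.val h1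
    obtain ⟨l, hl, hlv⟩ := hconj (φ.symm a₀ : L) (φ.symm a₀).2 v hvL (hne a₀ ha1) hv.ne
      (hsq a₀ haa) hv.sq
    let f : alternatingGroup (Fin 7) →* G :=
      (MulAut.conj l).toMonoidHom.comp (L.subtype.comp φ.symm.toMonoidHom)
    have hf : ∀ x, f x = l * ((φ.symm x : L) : G) * l⁻¹ := fun x => rfl
    have hfinj : Function.Injective f := by
      intro x y hxy
      rw [hf, hf] at hxy
      exact φ.symm.injective (Subtype.ext (mul_left_cancel (mul_right_cancel hxy)))
    have hfa : f a₀ = v := hlv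
    have hmem : ∀ x, x * a₀ = a₀ * x → f x ∈ h.H := by
      intro x hx
      refine (h.mem_H_iff hv.mem hv.ne hv.sq).2 ?_
      rw [← hfa, ← map_mul, hx, map_mul]
    have hbH := hmem b₀ habc
    have hwH := hmem w₀ hawc
    have hfb1 : f b₀ ≠ 1 := fun h1 => hb1 (hfinj (by rw [h1, map_one]))
    have hfb3 : f b₀ * f b₀ * f b₀ = 1 := by rw [← map_mul, ← map_mul, hbbb, map_one]
    have hbb : f b₀ * f b₀ ≠ 1 := by
      intro h1
      rw [h1, one_mul] at hfb3
      exact hfb1 hfb3
    have hbA : f b₀ ∈ A := by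
      by_contra hA
      exact hbb (h.sq (h.mul_t_mem hbH hA))
    have hwA : f w₀ ∉ A := by
      intro hA
      have h1 := hv.uniq _ hA (fun h1 => hw1 (hfinj (by rw [h1, map_one])))
        (by rw [← map_mul, hww, map_one])
      rw [← hfa] at h1
      exact haw (hfinj h1)
    have h1 := h.inv' (h.mul_t_mem hwH hwA) hbA
    rw [← map_mul, hwbc, map_mul, mul_inv_cancel_right] at h1
    apply hbb
    calc f b₀ * f b₀ = (f b₀)⁻¹ * f b₀ := by rw [← h1]
      _ = 1 := inv_mul_cancel _
  · -- `v` acts as an odd permutation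
    let e7 : MulAut (alternatingGroup (Fin (5 + 2))) :=
      MulAut.congr φ (MulAut.conjNormal v : MulAut L)
    have he7 : ∀ x : alternatingGroup (Fin 7),
        ((φ.symm (e7 x) : L) : G) = v * ((φ.symm x : L) : G) * v⁻¹ := by
      intro x
      have h1 : e7 x = φ ((MulAut.conjNormal v : MulAut L) (φ.symm x)) := rfl
      rw [h1, φ.symm_apply_apply, MulAut.conjNormal_apply]
    obtain ⟨σ, hσ⟩ := Cfsg.Agent.StandardComponent.AltAut.exists_conj (le_refl 5) e7
    have hvi : v⁻¹ = v := inv_eq_iff_mul_eq_one.2 hv.sq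
    have he72 : ∀ x, e7 (e7 x) = x := by
      intro x
      apply φ.symm.injective
      apply Subtype.ext
      rw [he7, he7, hvi]
      calc v * (v * ((φ.symm x : L) : G) * v) * v = (v * v) * ((φ.symm x : L) : G) * (v * v) := by
            group
        _ = _ := by rw [hv.sq, one_mul, mul_one]
    have hσc : ∀ x : alternatingGroup (Fin 7), σ * σ * (x : Equiv.Perm (Fin 7)) =
        (x : Equiv.Perm (Fin 7)) * (σ * σ) := by
      intro x
      have h1 := hσ (e7 x)
      rw [he72, hσ] at h1
      calc σ * σ * (x : Equiv.Perm (Fin 7))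
          = (σ * (σ * (x : Equiv.Perm (Fin 7)) * σ⁻¹) * σ⁻¹) * (σ * σ) := by group
        _ = (x : Equiv.Perm (Fin 7)) * (σ * σ) := by rw [← h1]
    have hσσ : σ * σ = 1 := by
      have hmem : σ * σ ∈ alternatingGroup (Fin 7) := by
        rw [Equiv.Perm.mem_alternatingGroup, map_mul]
        exact Int.units_mul_self _
      have h1 : (⟨σ * σ, hmem⟩ : alternatingGroup (Fin 7)) ∈
          Subgroup.center (alternatingGroup (Fin 7)) := by
        rw [Subgroup.mem_center_iff]
        intro x
        exact Subtype.ext (hσc x).symm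
      rw [alternatingGroup.center_eq_bot (by rw [Nat.card_eq_fintype_card, Fintype.card_fin]; norm_num), mem_bot] at h1
      exact congrArg Subtype.val h1
    have hsgn : Equiv.Perm.sign σ = -1 := by
      rcases Int.units_eq_one_or (Equiv.Perm.sign σ) with h1 | h1
      · exfalso
        apply hvL
        let τ : alternatingGroup (Fin 7) := ⟨σ, h1⟩
        have h2 : ((φ.symm τ : L) : G)⁻¹ * v ∈ centralizer (L : Set G) := by
          rw [mem_centralizer_iff]
          intro y hy
          have h3 := he7 (φ ⟨y, hy⟩)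
          have h4 : e7 (φ ⟨y, hy⟩) = τ * φ ⟨y, hy⟩ * τ⁻¹ := Subtype.ext (hσ _)
          rw [h4, map_mul, map_mul, map_inv, φ.symm_apply_apply] at h3
          change ((φ.symm τ : L) : G) * y * ((φ.symm τ : L) : G)⁻¹ = v * y * v⁻¹ at h3
          calc y * (((φ.symm τ : L) : G)⁻¹ * v)
              = ((φ.symm τ : L) : G)⁻¹ *
                (((φ.symm τ : L) : G) * y * ((φ.symm τ : L) : G)⁻¹) * v := by group
            _ = ((φ.symm τ : L) : G)⁻¹ * (v * y * v⁻¹) * v := by rw [h3]
            _ = _ := by group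
        rw [hC, mem_bot] at h2
        have h3 : v = ((φ.symm τ : L) : G) := (inv_mul_eq_one.1 h2).symm
        rw [h3]
        exact (φ.symm τ).2
      · exact h1
    obtain ⟨a, b, ha1, hb1, hab, haa, hbb, hc, hσa, hσb⟩ := perm_four σ hσσ hsgn
    have hfix : ∀ x : alternatingGroup (Fin 7), σ * x = x * σ →
        v * ((φ.symm x : L) : G) = ((φ.symm x : L) : G) * v := by
      intro x hx
      have h1 : e7 x = x := by
        apply Subtype.ext
        rw [hσ, hx, mul_inv_cancel_right]
      have h2 := he7 x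
      rw [h1] at h2
      have h3 := congrArg (· * v) h2
      simp only [inv_mul_cancel_right] at h3
      exact h3.symm
    have hinj : ∀ x y : alternatingGroup (Fin 7), ((φ.symm x : L) : G) = ((φ.symm y : L) : G) →
        x = y := fun x y h1 => φ.symm.injective (Subtype.ext h1)
    refine h.no_four hv hvL (φ.symm a : L) (φ.symm a).2 (φ.symm b : L) (φ.symm b).2 ?_ ?_ ?_ ?_ ?_ ?_
      (hfix a hσa) (hfix b hσb)
    · intro h1
      apply ha1
      apply hinj
      rw [h1, map_one]; rfl
    · intro h1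
      apply hb1
      apply hinj
      rw [h1, map_one]; rfl
    · intro h1
      exact hab (hinj _ _ h1)
    · have : φ.symm a * φ.symm a = 1 := by rw [← map_mul, haa, map_one]
      exact congrArg Subtype.val this
    · have : φ.symm b * φ.symm b = 1 := by rw [← map_mul, hbb, map_one]
      exact congrArg Subtype.val this
    · have : φ.symm a * φ.symm b = φ.symm b * φ.symm a := by rw [← map_mul, hc, map_mul]
      exact congrArg Subtype.val this

/-- The conclusion for a simple normal subgroup `L` with trivial centralizer. -/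
theorem GD.of_simple [Finite G] (h : GD A t) (hv : Uni A v) (hY : SubDihedral G)
    (L : Subgroup G) (hLn : L.Normal) (hLs : IsSimpleGroup L)
    (hC : centralizer (L : Set G) = ⊥) (h4 : ¬ 4 ∣ L.index) (S : Sylow 2 L) (m : ℕ) (hm : 2 ≤ m)
    (hS : Nonempty ((S : Subgroup L) ≃* DihedralGroup m)) :
    ∃ (F : Type) (_ : Field F) (_ : Fintype F), 3 < Fintype.card F ∧
        (Nonempty (G ≃* Matrix.ProjectiveSpecialLinearGroup (Fin 2) F) ∨
          Nonempty (G ≃* Matrix.ProjGenLinGroup (Fin 2) F)) := by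
  classical
  have h2p : Fact (Nat.Prime 2) := ⟨Nat.prime_two⟩
  have hnab : ¬ ∀ a b : L, a * b = b * a := by
    intro hab
    obtain ⟨x, hx⟩ := exists_ne (1 : L)
    apply hx
    have h1 : (x : G) ∈ centralizer (L : Set G) := by
      rw [mem_centralizer_iff]
      intro y hy
      exact congrArg Subtype.val (hab ⟨y, hy⟩ x)
    rw [hC, mem_bot] at h1
    exact Subtype.ext h1
  have hperf : Group.IsPerfect L := by
    refine ⟨?_⟩
    rcases (inferInstance : (commutator L).Normal).eq_bot_or_eq_top with h1 | h1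
    · exfalso
      apply hnab
      intro a b
      have h2 : ⁅a, b⁆ ∈ commutator L := by
        rw [_root_.commutator_def]
        exact commutator_mem_commutator trivial trivial
      rw [h1, mem_bot, commutatorElement_eq_one_iff_mul_comm] at h2
      exact h2
    · exact h1
  have hconj : ∀ x ∈ L, ∀ y ∈ L, x ≠ 1 → y ≠ 1 → x * x = 1 → y * y = 1 →
      ∃ l ∈ L, l * x * l⁻¹ = y := by
    intro x hx y hy hx1 hy1 hxx hyy
    have h1 := Cfsg.Agent.Classification.DihReduction.isConj_of_isPerfect S m hm hS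
      (⟨x, hx⟩ : L) ⟨y, hy⟩
      (orderOf_eq_prime (by rw [pow_two]; exact Subtype.ext hxx)
        (fun h => hx1 (congrArg Subtype.val h)))
      (orderOf_eq_prime (by rw [pow_two]; exact Subtype.ext hyy)
        (fun h => hy1 (congrArg Subtype.val h)))
    obtain ⟨l, hl⟩ := isConj_iff.1 h1
    exact ⟨l, l.2, congrArg Subtype.val hl⟩
  -- a commuting involution
  obtain ⟨e⟩ := hS
  obtain ⟨a₀, ha₀, b₀, hb₀, ha₀1, hb₀1, hab₀, haa₀, hbb₀, hcomm₀⟩ : ∃ a ∈ L, ∃ b ∈ L, a ≠ 1 ∧
      b ≠ 1 ∧ a ≠ b ∧ a * a = 1 ∧ b * b = 1 ∧ a * b = b * a := by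
    obtain ⟨V, hVS, hV⟩ := Cfsg.Agent.Classification.DihStructure.exists_kleinFour_of_dihedral
      (S : Subgroup L) S.isPGroup' m hm e
    obtain ⟨x, hx1, y, hy1, hxy⟩ : ∃ x : V, x ≠ 1 ∧ ∃ y : V, y ≠ 1 ∧ x ≠ y := by
      have hc : Nat.card V = 4 := hV.card_four
      by_contra hno
      push Not at hno
      by_cases hex : ∃ x : V, x ≠ 1
      · obtain ⟨x, hx⟩ := hex
        have h1 : (Set.univ : Set V) ⊆ {1, x} := by
          intro y _
          by_cases hy : y = 1
          · exact Or.inl hy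
          · exact Or.inr (hno x hx y hy).symm
        have h2 := Set.ncard_le_ncard h1 (Set.toFinite _)
        rw [Set.ncard_univ, hc] at h2
        have h3 : ({1, x} : Set V).ncard ≤ 2 :=
          Set.ncard_insert_le _ _ |>.trans (by rw [Set.ncard_singleton])
        omega
      · push Not at hex
        have : Subsingleton V := ⟨fun a b => by rw [hex a, hex b]⟩
        have h1 : Nat.card V = 1 := Nat.card_of_subsingleton (1 : V)
        omega
    refine ⟨((x : L) : G), (x : L).2, ((y : L) : G), (y : L).2, ?_, ?_, ?_, ?_, ?_, ?_⟩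
    · intro h1; exact hx1 (Subtype.ext (Subtype.ext h1))
    · intro h1; exact hy1 (Subtype.ext (Subtype.ext h1))
    · intro h1; exact hxy (Subtype.ext (Subtype.ext h1))
    · exact congrArg Subtype.val (Cfsg.Agent.TwoFusion.DihedralFusion.sq_of_isKleinFour hV x.2)
    · exact congrArg Subtype.val (Cfsg.Agent.TwoFusion.DihedralFusion.sq_of_isKleinFour hV y.2)
    · exact congrArg Subtype.val
        (Cfsg.Agent.TwoFusion.DihedralFusion.comm_of_isKleinFour hV x.2 y.2)
  -- an involution `w ∈ L ∩ H ∖ A`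
  obtain ⟨w, hwL, hwH, hwA, hw1, hww⟩ : ∃ w ∈ L, w ∈ h.H ∧ w ∉ A ∧ w ≠ 1 ∧ w * w = 1 := by
    by_cases hvL : v ∈ L
    · obtain ⟨l, hl, hlv⟩ := hconj a₀ ha₀ v hvL ha₀1 hv.ne haa₀ hv.sq
      have h1 : l * b₀ * l⁻¹ ≠ 1 := by
        intro h1
        apply hb₀1
        have := congrArg (fun x => l⁻¹ * x * l) h1
        simpa [mul_assoc] using this
      have h2 : l * b₀ * l⁻¹ * (l * b₀ * l⁻¹) = 1 := by
        have h3 : l * b₀ * l⁻¹ * (l * b₀ * l⁻¹) = l * (b₀ * b₀) * l⁻¹ := by group
        rw [h3, hbb₀, mul_one, mul_inv_cancel]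
      refine ⟨l * b₀ * l⁻¹, hLn.conj_mem _ hb₀ l, ?_, ?_, h1, h2⟩
      · refine (h.mem_H_iff hv.mem hv.ne hv.sq).2 ?_
        rw [← hlv]
        calc l * b₀ * l⁻¹ * (l * a₀ * l⁻¹) = l * (b₀ * a₀) * l⁻¹ := by group
          _ = l * (a₀ * b₀) * l⁻¹ := by rw [hcomm₀]
          _ = _ := by group
      · intro h3
        have h4 := hv.uniq _ h3 h1 h2
        rw [← hlv] at h4
        exact hab₀ (mul_left_cancel (mul_right_cancel h4)).symm
    · -- `v` acts on the involutions of `L`
      have hfix : ∃ w ∈ L, w ≠ 1 ∧ w * w = 1 ∧ v * w = w * v := by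
        -- a Sylow 2-subgroup of `L` normalized by `v`
        have hpv : IsPGroup 2 (zpowers v) := by
          apply IsPGroup.of_card (n := 1)
          rw [Nat.card_zpowers, orderOf_eq_prime (by rw [pow_two, hv.sq]) hv.ne, pow_one]
        obtain ⟨P, hP⟩ := hpv.exists_le_sylow
        have hPL : (P : Subgroup G) ⊓ L ≠ ⊥ := by
          intro h1
          have h2 := Cfsg.Agent.TwoFusion.TransferIndex.not_dvd_relIndex_inf P L
          rw [inf_comm, h1, relIndex_bot_left] at h2
          apply h2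
          have h3 : orderOf (⟨a₀, ha₀⟩ : L) = 2 := orderOf_eq_prime
            (by rw [pow_two]; exact Subtype.ext haa₀) (fun h => ha₀1 (congrArg Subtype.val h))
          rw [← h3]
          exact orderOf_dvd_natCard _
        obtain ⟨x, hx, hx1, hxc⟩ := exists_fixed (T := zpowers v) (B := (P : Subgroup G) ⊓ L)
          hpv (P.isPGroup'.to_le inf_le_left) hPL (by
            rw [zpowers_le, mem_normalizer_iff]
            have hvP : v ∈ (P : Subgroup G) := hP (mem_zpowers v)
            intro x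
            constructor
            · rintro ⟨h1, h2⟩
              exact ⟨(P : Subgroup G).mul_mem ((P : Subgroup G).mul_mem hvP h1)
                ((P : Subgroup G).inv_mem hvP), hLn.conj_mem _ h2 v⟩
            · rintro ⟨h1, h2⟩
              have h3 : x = v⁻¹ * (v * x * v⁻¹) * v := by group
              refine ⟨?_, ?_⟩
              · rw [h3]
                exact (P : Subgroup G).mul_mem ((P : Subgroup G).mul_mem
                  ((P : Subgroup G).inv_mem hvP) h1) hvP
              · have h4 := hLn.conj_mem _ h2 v⁻¹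
                rw [h3]
                simpa using h4)
        -- an involution in the powers of `x`
        obtain ⟨k, hk⟩ := P.isPGroup' ⟨x, hx.1⟩
        have hk' : x ^ 2 ^ k = 1 := congrArg Subtype.val hk
        obtain ⟨n, hn1, hn2⟩ := exists_pow_involution x k hk' hx1
        refine ⟨x ^ n, L.pow_mem hx.2 n, hn1, hn2, ?_⟩
        have h1 : Commute v x := hxc v (mem_zpowers v)
        exact (h1.pow_right n).eq
      obtain ⟨w, hwL, hw1, hww, hvw⟩ := hfix
      refine ⟨w, hwL, (h.mem_H_iff hv.mem hv.ne hv.sq).2 hvw.symm, ?_, hw1, hww⟩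
      intro h1
      exact hvL (by rw [← hv.uniq w h1 hw1 hww]; exact hwL)
  have hdec : ∀ u ∈ L, u ≠ 1 → u * u = 1 → ∀ x : G, ∃ l ∈ L, (l⁻¹ * x) * u = u * (l⁻¹ * x) := by
    intro u hu hu1 huu x
    obtain ⟨l, hl, hlu⟩ := hconj u hu (x * u * x⁻¹) (hLn.conj_mem _ hu x) hu1 (by
      intro h1
      apply hu1
      have := congrArg (fun y => x⁻¹ * y * x) h1
      simpa [mul_assoc] using this) huu (by
      have h3 : x * u * x⁻¹ * (x * u * x⁻¹) = x * (u * u) * x⁻¹ := by group
      rw [h3, huu, mul_one, mul_inv_cancel])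
    refine ⟨l, hl, ?_⟩
    calc (l⁻¹ * x) * u = l⁻¹ * (x * u * x⁻¹) * x := by group
      _ = l⁻¹ * (l * u * l⁻¹) * x := by rw [hlu]
      _ = _ := by group
  have hcore : Cfsg.oddCore L = ⊥ := by
    have hn : (Cfsg.oddCore L).Normal := Cfsg.Agent.Lib.Cores.pPrimeCore_normal 2
    rcases hn.eq_bot_or_eq_top with h1 | h1
    · exact h1
    · exfalso
      have h2 : (Nat.card (Cfsg.oddCore L)).Coprime 2 :=
        Cfsg.Agent.Lib.Cores.pPrimeCore_coprime 2
      rw [h1, Subgroup.card_top, Nat.coprime_two_right] at h2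
      have h3 : orderOf (⟨a₀, ha₀⟩ : L) = 2 := orderOf_eq_prime
        (by rw [pow_two]; exact Subtype.ext haa₀) (fun h => ha₀1 (congrArg Subtype.val h))
      have h4 : 2 ∣ Nat.card L := by rw [← h3]; exact orderOf_dvd_natCard _
      rw [← Nat.not_even_iff_odd] at h2
      exact h2 (even_iff_two_dvd.2 h4)
  let hq : L ≃* L ⧸ Cfsg.oddCore L :=
    (QuotientGroup.quotientBot.symm).trans (QuotientGroup.quotientMulEquivOfEq hcore.symm)
  rcases Cfsg.Agent.S0483.result S m hm ⟨e⟩ with ⟨F, i1, i2, hodd, hF3, ⟨ψ₀⟩⟩ | hφ₀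
  swap
  · -- the alternating group of degree 7
    exfalso
    obtain ⟨φ₀⟩ := hφ₀
    exact alt_seven h hv hLn hC hconj (hq.trans φ₀)
  -- `PSL(2, F)`
  let ψ : L ≃* ProjectiveSpecialLinearGroup (Fin 2) F := hq.trans ψ₀
  have hG2 : IsPGroup 2 (G ⧸ L) := by
    by_cases hvL : v ∈ L
    · intro c
      obtain ⟨x, rfl⟩ := QuotientGroup.mk_surjective c
      refine ⟨1, ?_⟩
      obtain ⟨l, hl, hlx⟩ := hdec v hvL hv.ne hv.sq x
      have h1 : l⁻¹ * x ∈ h.H := (h.mem_H_iff hv.mem hv.ne hv.sq).2 hlx
      have h2 : (l⁻¹ * x) * (l⁻¹ * x) ∈ L := by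
        by_cases hA : l⁻¹ * x ∈ A
        · exact h.sq_mem hLn hwL hwH hwA hA
        · rw [h.sq (h.mul_t_mem h1 hA)]; exact L.one_mem
      have h3 : (x : G ⧸ L) = ((l⁻¹ * x : G) : G ⧸ L) := by
        rw [QuotientGroup.mk_mul, QuotientGroup.mk_inv, (QuotientGroup.eq_one_iff l).2 hl, inv_one,
          one_mul]
      rw [pow_one, pow_two, h3, ← QuotientGroup.mk_mul, QuotientGroup.eq_one_iff]
      exact h2
    · -- `v` acts as an element of `GL(2, F)`
      obtain ⟨g, hg⟩ := exists_gl hodd ψ hv.sq (h.no_four hv hvL)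
      have hcomm := comm_mem L hC hodd ψ v g hg
      have hoc := Cfsg.Agent.Classification.DihStructure.oddClosed_centralizer hY hw1 hww
      obtain ⟨N, hNn, hNodd, k, hk⟩ :=
        Cfsg.Agent.Classification.TransferSign.exists_of_oddClosed hoc
      have hvw : v * w = w * v := ((h.mem_H_iff hv.mem hv.ne hv.sq).1 hwH).symm
      have hvC : v ∈ centralizer ({w} : Set G) := by
        rw [mem_centralizer_singleton_iff]; exact hvw
      have hNodd' : ∀ y : N, Odd (orderOf ((y : centralizer ({w} : Set G)) : G)) := by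
        intro y
        rw [Subgroup.orderOf_coe, Subgroup.orderOf_coe]
        exact hNodd.of_dvd_nat (orderOf_dvd_natCard y)
      let φ : N →* N := (MulAut.conjNormal (⟨v, hvC⟩ : centralizer ({w} : Set G)) :
        MulAut N).toMonoidHom
      have hφ : ∀ y : N, (((φ y : N) : centralizer ({w} : Set G)) : G) =
          v * ((y : centralizer ({w} : Set G)) : G) * v⁻¹ := by
        intro y
        have h1 : ((φ y : N) : centralizer ({w} : Set G)) =
            (⟨v, hvC⟩ : centralizer ({w} : Set G)) * y *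
              (⟨v, hvC⟩ : centralizer ({w} : Set G))⁻¹ := MulAut.conjNormal_apply _ _
        rw [h1]; rfl
      have hfpf : MonoidHom.FixedPointFree φ := by
        intro y hy
        have h1 := hφ y
        rw [hy] at h1
        set y' : G := ((y : centralizer ({w} : Set G)) : G) with hy'
        have h2 : v * y' = y' * v := by
          have h3 := congrArg (· * v) h1
          simp only [inv_mul_cancel_right] at h3
          exact h3.symm
        have h3 : y' ∈ h.H := (h.mem_H_iff hv.mem hv.ne hv.sq).2 h2.symm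
        have h4 : y' * w = w * y' := by
          have := (y : centralizer ({w} : Set G)).2
          rw [mem_centralizer_singleton_iff] at this
          exact this
        have h5 : y' * y' = 1 := by
          by_cases hA : y' ∈ A
          · have h6 := h.inv' (h.mul_t_mem hwH hwA) hA
            rw [← h4, mul_inv_cancel_right] at h6
            calc y' * y' = y'⁻¹ * y' := by rw [← h6]
              _ = 1 := inv_mul_cancel _
          · exact h.sq (h.mul_t_mem h3 hA)
        have h6 : y' = 1 := by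
          have h7 := mem_of_sq_mem (L := (⊥ : Subgroup G)) (hNodd' y)
            (by rw [mem_bot]; exact h5)
          rwa [mem_bot] at h7
        apply Subtype.ext
        apply Subtype.ext
        exact h6
      have hinv : Function.Involutive φ := by
        intro y
        apply Subtype.ext
        apply Subtype.ext
        rw [hφ, hφ]
        have h3 : v⁻¹ = v := inv_eq_iff_mul_eq_one.2 hv.sq
        rw [h3]
        calc v * (v * ((y : centralizer ({w} : Set G)) : G) * v) * v
            = (v * v) * ((y : centralizer ({w} : Set G)) : G) * (v * v) := by group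
          _ = _ := by rw [hv.sq, one_mul, mul_one]
      have hNL : ∀ y : N, ((y : centralizer ({w} : Set G)) : G) ∈ L := by
        intro y
        apply mem_of_sq_mem (hNodd' y)
        have h1 : φ y = y⁻¹ := congrFun (hfpf.coe_eq_inv_of_involutive hinv) y
        have h2 := hφ y
        rw [h1] at h2
        have h3 := hcomm ((y : centralizer ({w} : Set G)) : G)
        rw [← h2] at h3
        have h4 : ((y : centralizer ({w} : Set G)) : G) * ((y : centralizer ({w} : Set G)) : G) =
          ((((y⁻¹ : N) : centralizer ({w} : Set G)) : G) *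
            (((y : centralizer ({w} : Set G)) : G))⁻¹)⁻¹ := by
          rw [Subgroup.coe_inv, Subgroup.coe_inv, _root_.mul_inv_rev, inv_inv]
        rw [h4]
        exact L.inv_mem h3
      intro c
      obtain ⟨x, rfl⟩ := QuotientGroup.mk_surjective c
      refine ⟨k, ?_⟩
      obtain ⟨l, hl, hlx⟩ := hdec w hwL hw1 hww x
      have h1 : l⁻¹ * x ∈ centralizer ({w} : Set G) := by
        rw [mem_centralizer_singleton_iff]; exact hlx
      have h2 : (⟨l⁻¹ * x, h1⟩ : centralizer ({w} : Set G)) ^ N.index ∈ N :=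
        Subgroup.pow_index_mem N _
      have h3 : (l⁻¹ * x) ^ (2 ^ k) ∈ L := by
        rw [← hk]
        exact hNL ⟨_, h2⟩
      have h4 : (x : G ⧸ L) = ((l⁻¹ * x : G) : G ⧸ L) := by
        rw [QuotientGroup.mk_mul, QuotientGroup.mk_inv, (QuotientGroup.eq_one_iff l).2 hl, inv_one,
          one_mul]
      rw [h4, ← QuotientGroup.mk_pow, QuotientGroup.eq_one_iff]
      exact h3
  have hidx : L.index = 1 ∨ L.index = 2 := by
    obtain ⟨k, hk⟩ := IsPGroup.iff_card.1 hG2
    change L.index = 2 ^ k at hk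
    have hk2 : k < 2 := by
      by_contra h1
      apply h4
      rw [hk]
      have : (2 : ℕ) ^ 2 ∣ 2 ^ k := pow_dvd_pow 2 (by omega)
      exact this
    have hk' : k = 0 ∨ k = 1 := by omega
    rcases hk' with rfl | rfl
    · left; rw [hk, pow_zero]
    · right; rw [hk, pow_one]
  refine ⟨F, i1, i2, hF3, ?_⟩
  rcases hidx with hidx | hidx
  · left
    rw [Subgroup.index_eq_one] at hidx
    exact ⟨(Subgroup.topEquiv.symm.trans (MulEquiv.subgroupCongr hidx.symm)).trans ψ⟩
  · right
    obtain ⟨s, hsL, hss, hno⟩ : ∃ s : G, s ∉ L ∧ s * s = 1 ∧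
        (∀ a ∈ L, ∀ b ∈ L, a ≠ 1 → b ≠ 1 → a ≠ b → a * a = 1 → b * b = 1 → a * b = b * a →
          s * a = a * s → s * b = b * s → False) := by
      by_cases hvL : v ∈ L
      · -- some element of `A` lies outside `L`
        obtain ⟨x, hx⟩ : ∃ x : G, x ∉ L := by
          by_contra hno
          push Not at hno
          have : L = ⊤ := eq_top_iff.2 (fun x _ => hno x)
          rw [this, Subgroup.index_top] at hidx
          omega
        obtain ⟨l, hl, hlx⟩ := hdec v hvL hv.ne hv.sq x
        have h1 : l⁻¹ * x ∈ h.H := (h.mem_H_iff hv.mem hv.ne hv.sq).2 hlx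
        have h2 : l⁻¹ * x ∉ L := by
          intro h3
          apply hx
          have h4 : x = l * (l⁻¹ * x) := by group
          rw [h4]
          exact L.mul_mem hl h3
        obtain ⟨s, hsH, hsL, hsA⟩ : ∃ s ∈ h.H, s ∉ L ∧ s ∉ A := by
          by_cases hA : l⁻¹ * x ∈ A
          · refine ⟨(l⁻¹ * x) * w, h.H.mul_mem h1 hwH, ?_, ?_⟩
            · intro h3
              apply h2
              have h4 : l⁻¹ * x = (l⁻¹ * x) * w * w⁻¹ := by group
              rw [h4]
              exact L.mul_mem h3 (L.inv_mem hwL)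
            · intro h3
              apply hwA
              have h4 : w = (l⁻¹ * x)⁻¹ * ((l⁻¹ * x) * w) := by group
              rw [h4]
              exact A.mul_mem (A.inv_mem hA) h3
          · exact ⟨l⁻¹ * x, h1, h2, hA⟩
        have hss := h.sq (h.mul_t_mem hsH hsA)
        refine ⟨s, hsL, hss, ?_⟩
        intro a ha b hb ha1 hb1 hab haa hbb hc hsa hsb
        exact no_eight hY haa hbb hss hc hsa.symm hsb.symm ha1 hb1 hab
          (fun h5 => hsL (by rw [h5]; exact L.one_mem)) (fun h5 => hsL (by rw [h5]; exact ha))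
          (fun h5 => hsL (by rw [h5]; exact hb))
          (fun h5 => hsL (by rw [h5]; exact L.mul_mem ha hb))
      · exact ⟨v, hvL, hv.sq, h.no_four hv hvL⟩
    obtain ⟨g, hg⟩ := exists_gl hodd ψ hss hno
    exact pgl_recog L hC hidx hodd ψ s hsL g hg

end main

end Cfsg.Agent.H825
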