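import Mathlib
import Cfsg.Agent.H825.GD
import Cfsg.Agent.H825.CaseE
import Cfsg.Agent.S2202
import Cfsg.Agent.H352.Order120
import Cfsg.Agent.H426.SL2Unrec
import Cfsg.Agent.ClassicalGeometry.AutPSL.Main
import Cfsg.Agent.Classification.TransferSign

/-!
# The case of S3322 in which `A` has several involutions
-/

set_option autoImplicit false

namespace Cfsg.Agent.H825

open Subgroup Matrix
open Cfsg.Agent.ClassicalGeometry.AutPSL Cfsg.Agent.ClassicalGeometry.AutPSL.Auto
  Cfsg.Agent.ClassicalGeometry.AutPSL.Root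

/-- An automorphism of `PSL(2,F)` fixing the upper transvections is conjugation by an upper
transvection. -/
theorem exists_unip {F : Type*} [Field F] [Fintype F] (p : ℕ) [Fact p.Prime] [CharP F p]
    (α : MulAut (ProjectiveSpecialLinearGroup (Fin 2) F)) (h01 : (0 : Fin 2) ≠ 1)
    (hα : ∀ s : F, α (pr (SpecialLinearGroup.transvection h01 s)) =
      pr (SpecialLinearGroup.transvection h01 s)) :
    ∃ b : F, ∀ x : SpecialLinearGroup (Fin 2) F, α (pr x) =
      pr (SpecialLinearGroup.transvection h01 b * x * (SpecialLinearGroup.transvection h01 b)⁻¹) := by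
  obtain ⟨C, σ, rfl⟩ := Main.surj_two p α
  have h1 : ∀ s : F, (C : Matrix (Fin 2) (Fin 2) F) * single 0 1 (σ s) =
      single 0 1 s * (C : Matrix (Fin 2) (Fin 2) F) := by
    intro s
    have h2 := hα s
    rw [lift_pr, MulAut.mul_apply, fld_transvection] at h2
    exact Main.cj_transvection_eq h2
  have h10 : (C : Matrix (Fin 2) (Fin 2) F) 1 0 = 0 := by
    have := congrFun (congrFun (h1 1) 0) 0
    simpa [Matrix.mul_apply, Fin.sum_univ_two, single] using this.symm
  have h3 : ∀ s, (C : Matrix (Fin 2) (Fin 2) F) 0 0 * σ s =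
      s * (C : Matrix (Fin 2) (Fin 2) F) 1 1 := by
    intro s
    have := congrFun (congrFun (h1 s) 0) 1
    simpa [Matrix.mul_apply, Fin.sum_univ_two, single] using this
  have h4 : (C : Matrix (Fin 2) (Fin 2) F) 0 0 = (C : Matrix (Fin 2) (Fin 2) F) 1 1 := by
    have := h3 1
    rwa [map_one, mul_one, one_mul] at this
  have hdet : (C : Matrix (Fin 2) (Fin 2) F).det ≠ 0 := by
    have := (Matrix.isUnit_iff_isUnit_det _).1 (Units.isUnit C)
    exact this.ne_zero
  have h5 : (C : Matrix (Fin 2) (Fin 2) F) 1 1 ≠ 0 := by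
    intro h6
    apply hdet
    rw [Matrix.det_fin_two, h6, h10]
    ring
  have hσ : σ = 1 := by
    apply RingEquiv.ext
    intro s
    have h6 := h3 s
    rw [h4, mul_comm] at h6
    exact mul_right_cancel₀ h5 h6
  subst hσ
  refine ⟨(C : Matrix (Fin 2) (Fin 2) F) 0 1 / (C : Matrix (Fin 2) (Fin 2) F) 1 1, fun x => ?_⟩
  rw [lift_pr, MulAut.mul_apply, map_one, MulAut.one_apply]
  congr 1
  -- matrices
  set T := SpecialLinearGroup.transvection h01
    ((C : Matrix (Fin 2) (Fin 2) F) 0 1 / (C : Matrix (Fin 2) (Fin 2) F) 1 1) with hT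
  have hCT : (C : Matrix (Fin 2) (Fin 2) F) =
      (C : Matrix (Fin 2) (Fin 2) F) 1 1 • (T : Matrix (Fin 2) (Fin 2) F) := by
    have hTm : (T : Matrix (Fin 2) (Fin 2) F) = 1 + single 0 1
      ((C : Matrix (Fin 2) (Fin 2) F) 0 1 / (C : Matrix (Fin 2) (Fin 2) F) 1 1) := rfl
    rw [hTm]
    ext i j
    fin_cases i <;> fin_cases j <;> simp [single, h4, h10]
    field_simp
  apply Subtype.ext
  rw [coe_cj]
  have h7 : (C : Matrix (Fin 2) (Fin 2) F) * x.1 = (T * x * T⁻¹ : SpecialLinearGroup (Fin 2) F).1 *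
      (C : Matrix (Fin 2) (Fin 2) F) := by
    have h8 : (T * x * T⁻¹ : SpecialLinearGroup (Fin 2) F).1 * T.1 = T.1 * x.1 := by
      have h9 : (T * x * T⁻¹) * T = T * x := by group
      exact congrArg Subtype.val h9
    rw [hCT, Matrix.smul_mul, Matrix.mul_smul]
    congr 1
    exact h8.symm
  rw [h7, mul_assoc, ← Units.val_mul, mul_inv_cancel, Units.val_one, mul_one]

theorem transvection_mul {F : Type*} [Field F] {i j : Fin 2} (h : i ≠ j) (a b : F) :
    SpecialLinearGroup.transvection h a * SpecialLinearGroup.transvection h b =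
      SpecialLinearGroup.transvection h (a + b) := by
  apply Subtype.ext
  have h1 : (SpecialLinearGroup.transvection h a * SpecialLinearGroup.transvection h b :
    SpecialLinearGroup (Fin 2) F).1 = (1 + single i j a) * (1 + single i j b) := rfl
  have h2 : (SpecialLinearGroup.transvection h (a + b)).1 = 1 + single i j (a + b) := rfl
  have h3 : (single i j a : Matrix (Fin 2) (Fin 2) F) * single i j b = 0 := by
    rw [single_mul_single_of_ne _ _ _ _ h.symm]
  rw [h1, h2, single_add]
  calc (1 + single i j a) * (1 + single i j b) =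
      1 + (single i j a + single i j b) + single i j a * single i j b := by noncomm_ring
    _ = _ := by rw [h3, add_zero]

/-- transvections over a field of characteristic two are involutions -/
theorem transvection_sq {F : Type*} [Field F] [CharP F 2] {i j : Fin 2} (h : i ≠ j) (c : F) :
    SpecialLinearGroup.transvection h c * SpecialLinearGroup.transvection h c = 1 := by
  apply Subtype.ext
  have h1 : (SpecialLinearGroup.transvection h c * SpecialLinearGroup.transvection h c :
    SpecialLinearGroup (Fin 2) F).1 = (1 + single i j c) * (1 + single i j c) := rfl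
  rw [h1]
  have h2 : (single i j c : Matrix (Fin 2) (Fin 2) F) * single i j c = 0 := by
    rw [single_mul_single_of_ne _ _ _ _ h.symm]
  have h3 : (single i j c : Matrix (Fin 2) (Fin 2) F) + single i j c = 0 := by
    rw [← single_add, CharTwo.add_self_eq_zero]; simp
  calc (1 + single i j c) * (1 + single i j c) =
      1 + (single i j c + single i j c) + single i j c * single i j c := by noncomm_ring
    _ = 1 := by rw [h2, h3]; simp

/-- The conclusion of S3322. -/
def Concl (G : Type*) [Group G] : Prop :=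
  ∃ (N : Subgroup G) (_ : N.Normal), (Odd (Nat.card ↥N) ∨ ∃ m : ℕ, Odd m ∧ Nat.card ↥N = 2 * m) ∧
      ∃ (F : Type) (_ : Field F) (_ : Fintype F), 3 < Fintype.card F ∧
        (Nonempty (G ⧸ N ≃* Matrix.ProjectiveSpecialLinearGroup (Fin 2) F) ∨
          Nonempty (G ⧸ N ≃* Matrix.ProjGenLinGroup (Fin 2) F))

/-- the main branch: `K ≅ SL(2, 2^n) × B` -/
theorem rank_two_aux {G : Type*} [Group G] [Finite G] {A : Subgroup G} {t : G} (h : GD A t)
    {K : Subgroup G} (hKn : K.Normal) (hKi : K.index = 2) (hKH : K ⊓ h.H = A)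
    (hKA : ∀ w ∈ K, w ≠ 1 → w * w = 1 → ∃ g : G, g * w * g⁻¹ ∈ A) (htK : t ∉ K)
    (hK2 : ∀ a b : G, a * b ∈ K ↔ (a ∈ K ↔ b ∈ K)) (hKs : ¬ Group.IsSolvable K)
    (F : Type) [i1 : Field F] [i2 : Fintype F] (B : Type) [CommGroup B] [Finite B] [CharP F 2]
    (hB : Odd (Nat.card B)) (e : K ≃* SpecialLinearGroup (Fin 2) F × B) : Concl G := by
  classical
  have h2p : Fact (Nat.Prime 2) := ⟨Nat.prime_two⟩
  let ι : SpecialLinearGroup (Fin 2) F →* G :=
    K.subtype.comp (e.symm.toMonoidHom.comp (MonoidHom.inl _ _))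
  have hι : ∀ x, ι x = (e.symm (x, 1) : K) := fun x => rfl
  have hιinj : Function.Injective ι := by
    intro x y hxy
    rw [hι, hι] at hxy
    have h3 := e.symm.injective (Subtype.ext hxy)
    exact (Prod.mk.injEq _ _ _ _ ▸ h3).1
  have hιK : ∀ x, ι x ∈ K := fun x => (e.symm (x, 1)).2
  let L : Subgroup G := ι.range
  -- involutions of `K` lie in `L`
  have hinvL : ∀ w ∈ K, w * w = 1 → w ∈ L := by
    intro w hw hww
    have h3 : e ⟨w, hw⟩ * e ⟨w, hw⟩ = 1 := by
      rw [← map_mul]
      have : (⟨w, hw⟩ * ⟨w, hw⟩ : K) = 1 := Subtype.ext hww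
      rw [this, map_one]
    have h4 : (e ⟨w, hw⟩).2 * (e ⟨w, hw⟩).2 = 1 := congrArg Prod.snd h3
    have h5 : (e ⟨w, hw⟩).2 = 1 := by
      rw [← orderOf_eq_one_iff]
      have h6 : orderOf (e ⟨w, hw⟩).2 ∣ 2 := by
        rw [orderOf_dvd_iff_pow_eq_one, pow_two, h4]
      have h7 : orderOf (e ⟨w, hw⟩).2 ∣ Nat.card B := orderOf_dvd_natCard _
      have h8 : orderOf (e ⟨w, hw⟩).2 ∣ Nat.gcd 2 (Nat.card B) := Nat.dvd_gcd h6 h7
      have h9 : Nat.gcd 2 (Nat.card B) = 1 := (Nat.coprime_two_left.2 hB)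
      rw [h9] at h8
      exact Nat.dvd_one.1 h8
    refine ⟨(e ⟨w, hw⟩).1, ?_⟩
    rw [hι, ← h5, Prod.mk.eta, e.symm_apply_apply]
  have hLn : L.Normal := by
    refine ⟨?_⟩
    rintro _ ⟨x, rfl⟩ g
    revert g
    refine Cfsg.Agent.LieClassical.SLGen.transvection_induction
      (fun x => ∀ g : G, g * ι x * g⁻¹ ∈ L) ?_ ?_ x
    · intro i j hij c g
      apply hinvL
      · exact hKn.conj_mem _ (hιK _) g
      · have h3 : g * ι (SpecialLinearGroup.transvection hij c) * g⁻¹ *
            (g * ι (SpecialLinearGroup.transvection hij c) * g⁻¹) =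
            g * ι (SpecialLinearGroup.transvection hij c * SpecialLinearGroup.transvection hij c) *
              g⁻¹ := by rw [map_mul]; group
        rw [h3, transvection_sq, map_one, mul_one, mul_inv_cancel]
    · intro x y hx hy g
      have h3 : g * ι (x * y) * g⁻¹ = (g * ι x * g⁻¹) * (g * ι y * g⁻¹) := by
        rw [map_mul]; group
      rw [h3]
      exact L.mul_mem (hx g) (hy g)
  -- the twisted involution
  have h01 : (0 : Fin 2) ≠ 1 := by decide
  let T : F → SpecialLinearGroup (Fin 2) F := fun s => SpecialLinearGroup.transvection h01 s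
  have hT1 : T 1 ≠ 1 := by
    intro h3
    have h4 := congrFun (congrFun (congrArg Subtype.val h3) 0) 1
    have h5 : (T 1 : Matrix (Fin 2) (Fin 2) F) = 1 + single 0 1 1 := rfl
    rw [h5] at h4
    simp [single] at h4
  have hιT : ∀ s, ι (T s) * ι (T s) = 1 := fun s => by
    rw [← map_mul]
    change ι (SpecialLinearGroup.transvection h01 s * SpecialLinearGroup.transvection h01 s) = 1
    rw [transvection_sq, map_one]
  have hTT : ∀ s, T s * T 1 = T 1 * T s := by
    intro s
    have h3 : ∀ a b, T a * T b = T (a + b) := fun a b => transvection_mul h01 a b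
    rw [h3, h3, add_comm]
  obtain ⟨g, hg⟩ := hKA (ι (T 1)) (hιK _) (fun h3 => hT1 (hιinj (by rw [h3, map_one]))) (hιT 1)
  have hg1 : g * ι (T 1) * g⁻¹ ≠ 1 := by
    intro h3
    apply hT1
    apply hιinj
    rw [map_one]
    have := congrArg (fun x => g⁻¹ * x * g) h3
    simpa [mul_assoc] using this
  have hgg : g * ι (T 1) * g⁻¹ * (g * ι (T 1) * g⁻¹) = 1 := by
    have h3 : g * ι (T 1) * g⁻¹ * (g * ι (T 1) * g⁻¹) = g * (ι (T 1) * ι (T 1)) * g⁻¹ := by group
    rw [h3, hιT, mul_one, mul_inv_cancel]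
  have htc : ∀ s, t * (g * ι (T s) * g⁻¹) = (g * ι (T s) * g⁻¹) * t := by
    intro s
    have h3 : g * ι (T s) * g⁻¹ ∈ A := by
      rw [← hKH]
      refine ⟨hKn.conj_mem _ (hιK _) g, (h.mem_H_iff hg hg1 hgg).2 ?_⟩
      calc g * ι (T s) * g⁻¹ * (g * ι (T 1) * g⁻¹) = g * ι (T s * T 1) * g⁻¹ := by
            rw [map_mul]; group
        _ = g * ι (T 1 * T s) * g⁻¹ := by rw [hTT]
        _ = _ := by rw [map_mul]; group
    have h4 : (g * ι (T s) * g⁻¹) * (g * ι (T s) * g⁻¹) = 1 := by
      have h5 : g * ι (T s) * g⁻¹ * (g * ι (T s) * g⁻¹) = g * (ι (T s) * ι (T s)) * g⁻¹ := by group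
      rw [h5, hιT, mul_one, mul_inv_cancel]
    rw [h.ta h3, inv_eq_iff_mul_eq_one.2 h4]
  set t₁ := g⁻¹ * t * g with ht₁
  have ht₁K : t₁ ∉ K := by
    intro h3
    apply htK
    have h4 := hKn.conj_mem _ h3 g
    have h5 : g * t₁ * g⁻¹ = t := by rw [ht₁]; group
    rwa [h5] at h4
  have ht₁c : ∀ s, t₁ * ι (T s) * t₁⁻¹ = ι (T s) := by
    intro s
    rw [mul_inv_eq_iff_eq_mul]
    calc t₁ * ι (T s) = g⁻¹ * (t * (g * ι (T s) * g⁻¹)) * g := by rw [ht₁]; group
      _ = g⁻¹ * ((g * ι (T s) * g⁻¹) * t) * g := by rw [htc]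
      _ = ι (T s) * t₁ := by rw [ht₁]; group
  -- the automorphism of `PSL`
  let E : ProjectiveSpecialLinearGroup (Fin 2) F ≃* L :=
    (Cfsg.Agent.H426.psl2EvenEquiv F).trans (MonoidHom.ofInjective hιinj)
  have hE : ∀ x, ((E (pr x) : L) : G) = ι x := fun x => rfl
  let α : MulAut (ProjectiveSpecialLinearGroup (Fin 2) F) :=
    (E.trans (MulAut.conjNormal t₁)).trans E.symm
  have hα : ∀ x y, t₁ * ι x * t₁⁻¹ = ι y ↔ α (pr x) = pr y := by
    intro x y
    have h3 : α (pr x) = E.symm (MulAut.conjNormal t₁ (E (pr x))) := rfl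
    rw [h3, MulEquiv.symm_apply_eq]
    constructor
    · intro h4
      apply Subtype.ext
      rw [MulAut.conjNormal_apply, hE, hE, h4]
    · intro h4
      have := congrArg Subtype.val h4
      rwa [MulAut.conjNormal_apply, hE, hE] at this
  obtain ⟨b, hb⟩ := exists_unip 2 α h01 (fun s => (hα _ _).1 (ht₁c s))
  have hb' : ∀ x, t₁ * ι x * t₁⁻¹ = ι (T b) * ι x * (ι (T b))⁻¹ := by
    intro x
    rw [(hα x _).2 (hb x), map_mul, map_mul, map_inv]
  set t' := (ι (T b))⁻¹ * t₁ with ht'
  have ht'K : t' ∉ K := by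
    intro h3
    apply ht₁K
    have h4 : t₁ = ι (T b) * t' := by rw [ht']; group
    rw [h4]
    exact K.mul_mem (hιK _) h3
  have ht'c : ∀ x, t' * ι x = ι x * t' := by
    intro x
    have h3 := hb' x
    rw [mul_inv_eq_iff_eq_mul] at h3
    calc t' * ι x = (ι (T b))⁻¹ * (t₁ * ι x) := by rw [ht']; group
      _ = (ι (T b))⁻¹ * (ι (T b) * ι x * (ι (T b))⁻¹ * t₁) := by rw [h3]
      _ = _ := by rw [ht']; group
  -- the normal subgroup
  let N : Subgroup G := centralizer (L : Set G)
  have hNmem : ∀ x : G, x ∈ N ↔ ∀ y, ι y * x = x * ι y := by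
    intro x
    rw [mem_centralizer_iff]
    constructor
    · intro h3 y
      exact h3 _ ⟨y, rfl⟩
    · rintro h3 _ ⟨y, rfl⟩
      exact h3 y
  have hNn : N.Normal := by
    have := hLn
    exact inferInstanceAs (centralizer (L : Set G)).Normal
  have ht'N : t' ∈ N := (hNmem t').2 (fun y => (ht'c y).symm)
  have hdec : ∀ x ∈ K, ∃ y, ∃ z ∈ N, x = ι y * z := by
    intro x hx
    refine ⟨(e ⟨x, hx⟩).1, (e.symm (1, (e ⟨x, hx⟩).2) : K), ?_, ?_⟩
    · rw [hNmem]
      intro y
      rw [hι]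
      have h3 : e.symm (y, 1) * e.symm (1, (e ⟨x, hx⟩).2) =
          e.symm (1, (e ⟨x, hx⟩).2) * e.symm (y, 1) := by
        rw [← map_mul, ← map_mul]
        congr 1
        simp
      exact congrArg Subtype.val h3
    · rw [hι]
      have h3 : (⟨x, hx⟩ : K) = e.symm ((e ⟨x, hx⟩).1, 1) * e.symm (1, (e ⟨x, hx⟩).2) := by
        rw [← map_mul]
        simp
      exact congrArg Subtype.val h3
  have hdec' : ∀ x : G, ∃ y, ∃ z ∈ N, x = ι y * z := by
    intro x
    by_cases hx : x ∈ K
    · exact hdec x hx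
    · have h3 : x * t' ∈ K := by
        rw [hK2]
        exact ⟨fun h4 => absurd h4 hx, fun h4 => absurd h4 ht'K⟩
      obtain ⟨y, z, hz, h4⟩ := hdec _ h3
      refine ⟨y, z * t'⁻¹, N.mul_mem hz (N.inv_mem ht'N), ?_⟩
      rw [← mul_assoc, ← h4]; group
  let q : SpecialLinearGroup (Fin 2) F →* G ⧸ N := (QuotientGroup.mk' N).comp ι
  have hqinj : Function.Injective q := by
    rw [injective_iff_map_eq_one]
    intro x hx
    have h3 : ι x ∈ N := (QuotientGroup.eq_one_iff _).1 hx
    rw [hNmem] at h3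
    have h4 : x ∈ Subgroup.center (SpecialLinearGroup (Fin 2) F) := by
      rw [Subgroup.mem_center_iff]
      intro y
      apply hιinj
      rw [map_mul, map_mul]
      exact h3 y
    rw [Cfsg.Agent.H426.center_sl2_even, mem_bot] at h4
    exact h4
  have hqsurj : Function.Surjective q := by
    intro c
    obtain ⟨x, rfl⟩ := QuotientGroup.mk_surjective c
    obtain ⟨y, z, hz, h4⟩ := hdec' x
    refine ⟨y, ?_⟩
    change ((ι y : G) : G ⧸ N) = (x : G ⧸ N)
    rw [QuotientGroup.eq, h4]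
    have h5 : (ι y)⁻¹ * (ι y * z) = z := by group
    rw [h5]; exact hz
  let Q : SpecialLinearGroup (Fin 2) F ≃* G ⧸ N := MulEquiv.ofBijective q ⟨hqinj, hqsurj⟩
  have hcardN : Nat.card N = 2 * Nat.card B := by
    have h3 : Nat.card N * N.index = Nat.card G := Subgroup.card_mul_index N
    have h4 : N.index = Nat.card (SpecialLinearGroup (Fin 2) F) :=
      (Nat.card_congr Q.toEquiv).symm
    have h5 : Nat.card K * K.index = Nat.card G := Subgroup.card_mul_index K
    have h6 : Nat.card K = Nat.card (SpecialLinearGroup (Fin 2) F) * Nat.card B := by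
      rw [Nat.card_congr e.toEquiv, Nat.card_prod]
    rw [hKi, h6] at h5
    rw [h4, ← h5] at h3
    have h7 : 0 < Nat.card (SpecialLinearGroup (Fin 2) F) := Nat.card_pos
    apply Nat.eq_of_mul_eq_mul_right h7
    rw [h3]; ring
  refine ⟨N, hNn, Or.inr ⟨Nat.card B, hB, hcardN⟩, F, i1, i2, ?_, Or.inl
    ⟨Q.symm.trans (Cfsg.Agent.H426.psl2EvenEquiv F).symm⟩⟩
  -- the field has more than three elements
  by_contra hF
  push Not at hF
  apply hKs
  have h3 : 2 ∣ Fintype.card F := by
    rw [← CharP.cast_eq_zero_iff F 2]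
    exact Nat.cast_card_eq_zero F
  have h4 : 1 < Fintype.card F := Fintype.one_lt_card
  have h5 : Fintype.card F = 2 := by omega
  have h6 : Nat.card (SpecialLinearGroup (Fin 2) F) ≤ 16 := by
    have h7 : Nat.card (SpecialLinearGroup (Fin 2) F) ≤ Nat.card (Matrix (Fin 2) (Fin 2) F) :=
      Nat.card_le_card_of_injective _ Subtype.val_injective
    have h8 : Nat.card (Matrix (Fin 2) (Fin 2) F) = 16 := by
      rw [Nat.card_eq_fintype_card]
      change Fintype.card (Fin 2 → Fin 2 → F) = 16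
      rw [Fintype.card_fun, Fintype.card_fun, Fintype.card_fin, h5]
      norm_num
    omega
  have h7 : Group.IsSolvable (SpecialLinearGroup (Fin 2) F) :=
    Cfsg.Agent.H352.Order120.solvable_of_card_lt _ _ rfl (by omega)
  have h8 : Group.IsSolvable B := inferInstance
  have h9 : Group.IsSolvable (SpecialLinearGroup (Fin 2) F × B) := inferInstance
  exact Group.isSolvable_of_isSolvable_injective (f := e.toMonoidHom) e.injective

theorem GD.rank_two {G : Type*} [Group G] [Finite G] {A : Subgroup G} {t : G} (h : GD A t)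
    (hb : ∃ b ∈ A, b * b ≠ 1)
    (h2 : ∃ v ∈ A, ∃ w ∈ A, v ≠ 1 ∧ w ≠ 1 ∧ v ≠ w ∧ v * v = 1 ∧ w * w = 1)
    (hns : ¬ Group.IsSolvable G) : Concl G := by
  classical
  have : Fact (Nat.Prime 2) := ⟨Nat.prime_two⟩
  obtain ⟨K, hKn, hKi, hKH, hKA⟩ := h.exists_index_two hb h2
  have hAK : A ≤ K := by rw [← hKH]; exact inf_le_left
  have htK : t ∉ K := by
    intro h3
    apply h.tA
    rw [← hKH]
    exact ⟨h3, h.t_mem⟩
  have hK2 : ∀ a b : G, a * b ∈ K ↔ (a ∈ K ↔ b ∈ K) := fun a b =>
    Subgroup.mul_mem_iff_of_index_two hKi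
  have hKs : ¬ Group.IsSolvable K := by
    intro h3
    apply hns
    have h4 : Group.IsSolvable (G ⧸ K) := by
      apply Cfsg.Agent.H352.Order120.solvable_of_card_lt 2
      · exact hKi
      · norm_num
    exact (Group.isSolvable_iff_subgroup_quotient K).2 ⟨h3, h4⟩
  have heven : Even (Nat.card K) := by
    obtain ⟨v, hv, hv1, hvv⟩ := h.even
    rw [even_iff_two_dvd]
    have h3 : orderOf (⟨v, hAK hv⟩ : K) = 2 := by
      apply orderOf_eq_prime
      · apply Subtype.ext
        change v ^ 2 = 1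
        rw [pow_two, hvv]
      · intro h4
        exact hv1 (congrArg Subtype.val h4)
    rw [← h3]
    exact orderOf_dvd_natCard _
  have hcen : ∀ t : K, orderOf t = 2 → IsMulCommutative ↥(Subgroup.centralizer ({t} : Set K)) := by
    intro w hw
    have hw1 : (w : G) ≠ 1 := by
      intro h3
      have : w = 1 := Subtype.ext h3
      rw [this, orderOf_one] at hw
      omega
    have hww : (w : G) * w = 1 := by
      have := pow_orderOf_eq_one w
      rw [hw, pow_two] at this
      exact congrArg Subtype.val this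
    obtain ⟨g, hg⟩ := hKA w w.2 hw1 hww
    have hg1 : g * w * g⁻¹ ≠ 1 := by
      intro h3
      apply hw1
      have := congrArg (fun x => g⁻¹ * x * g) h3
      simpa [mul_assoc] using this
    have hgg : g * w * g⁻¹ * (g * w * g⁻¹) = 1 := by
      have h3 : g * w * g⁻¹ * (g * w * g⁻¹) = g * (w * w) * g⁻¹ := by group
      rw [h3, hww, mul_one, mul_inv_cancel]
    have hc : ∀ c : K, c ∈ Subgroup.centralizer ({w} : Set K) → g * c * g⁻¹ ∈ A := by
      intro c hc
      rw [← hKH]
      refine ⟨hKn.conj_mem _ c.2 g, ?_⟩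
      refine (h.mem_H_iff hg hg1 hgg).2 ?_
      rw [mem_centralizer_singleton_iff] at hc
      have hc' : (c : G) * w = w * c := congrArg Subtype.val hc
      calc g * c * g⁻¹ * (g * w * g⁻¹) = g * (c * w) * g⁻¹ := by group
        _ = g * (w * c) * g⁻¹ := by rw [hc']
        _ = _ := by group
    refine ⟨⟨fun a b => ?_⟩⟩
    apply Subtype.ext
    apply Subtype.ext
    have h3 := h.comm _ (hc a.1 a.2) _ (hc b.1 b.2)
    have h4 : g * (((a : K) : G) * ((b : K) : G)) * g⁻¹ = g * (((b : K) : G) * ((a : K) : G)) * g⁻¹ := by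
      calc g * (((a : K) : G) * ((b : K) : G)) * g⁻¹
          = g * ((a : K) : G) * g⁻¹ * (g * ((b : K) : G) * g⁻¹) := by group
        _ = g * ((b : K) : G) * g⁻¹ * (g * ((a : K) : G) * g⁻¹) := h3
        _ = _ := by group
    exact mul_left_cancel (mul_right_cancel h4)
  rcases Cfsg.Agent.S2202.result heven hcen with hcyc | hnor | ⟨F, i1, i2, B, i3, i4, hch, hB, ⟨e⟩⟩
  · -- cyclic Sylow subgroups: impossible
    exfalso
    obtain ⟨v, hv, w, hw, hv1, hw1, hvw, hvv, hww⟩ := h2
    have hVK : h.V ≤ K := fun x hx => hAK hx.1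
    have hp : IsPGroup 2 (h.V.subgroupOf K) :=
      h.isPGroup_V.comap_of_injective K.subtype K.subtype_injective
    obtain ⟨P, hP⟩ := hp.exists_le_sylow
    have hc := hcyc P
    have hone := Cfsg.Agent.Classification.TransferSign.eq_of_isCyclic (P : Subgroup K) hc
      (x := ⟨v, hAK hv⟩) (y := ⟨w, hAK hw⟩) (hP ⟨hv, hvv⟩) (hP ⟨hw, hww⟩)
      (Subtype.ext hvv) (Subtype.ext hww) (fun h3 => hv1 (congrArg Subtype.val h3))
      (fun h3 => hw1 (congrArg Subtype.val h3))
    exact hvw (congrArg Subtype.val hone)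
  · exfalso
    obtain ⟨P⟩ : Nonempty (Sylow 2 K) := inferInstance
    exact hKs (CaseE.isSolvable_of_normal_sylow P (hnor P))
  · exact rank_two_aux h hKn hKi hKH hKA htK hK2 hKs F B hB e

end Cfsg.Agent.H825
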