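import Mathlib
import Cfsg.Agent.H825.RankOne
import Cfsg.Agent.H825.RankTwo
import Cfsg.Agent.H825.CaseE
import Cfsg.Agent.PLocal.CoprimeLift

/-!
# S3322: assembly
-/

set_option autoImplicit false

namespace Cfsg.Agent.H825

open Subgroup Cfsg.Agent.Classification.DihedralCentral

universe u

theorem GD.core_free {G : Type u} [Group G] [Finite G] {A : Subgroup G} {t v : G}
    (h : GD A t) (hv : Uni A v) (hO : Cfsg.oddCore G = ⊥) (hns : ¬ Group.IsSolvable G) :
    ∃ (F : Type) (_ : Field F) (_ : Fintype F), 3 < Fintype.card F ∧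
        (Nonempty (G ≃* Matrix.ProjectiveSpecialLinearGroup (Fin 2) F) ∨
          Nonempty (G ≃* Matrix.ProjGenLinGroup (Fin 2) F)) := by
  have h2p : Fact (Nat.Prime 2) := ⟨Nat.prime_two⟩
  have hY := h.subDihedral hv hO hns
  rcases Cfsg.Agent.Classification.DihStructure.structure_of_core_free.{u}
    (fun H _ _ hH => Cfsg.Agent.S0205.result hH) hY hO with h1 | ⟨V, hVn, hV4, -, hVi⟩ |
    ⟨L, hLn, hLs, hC, h4, S, m, hm, hS⟩
  · exfalso
    apply hns
    have h2 : Group.IsNilpotent G := h1.isNilpotent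
    infer_instance
  · exfalso
    apply hns
    have h2 : Nat.card V = 4 := hV4.card_four
    have h3 := card_mul_index V
    rw [h2] at h3
    apply Cfsg.Agent.H352.Order120.solvable_of_card_lt (Nat.card G) G rfl
    rcases hVi with h4 | h4 <;> rw [h4] at h3 <;> omega
  · exact h.of_simple hv hY L hLn hLs hC h4 S m hm hS

theorem GD.quot {G : Type u} [Group G] [Finite G] {A : Subgroup G} {t v : G}
    (h : GD A t) (hv : Uni A v) (N : Subgroup G) [N.Normal] (hN : Odd (Nat.card N)) :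
    GD (A.map (QuotientGroup.mk' N)) (QuotientGroup.mk' N t) ∧
      Uni (A.map (QuotientGroup.mk' N)) (QuotientGroup.mk' N v) := by
  have h2p : Fact (Nat.Prime 2) := ⟨Nat.prime_two⟩
  -- elements of `N` with trivial square are trivial
  have hN2 : ∀ x ∈ N, x * x = 1 → x = 1 := by
    intro x hx hxx
    have h1 : Odd (orderOf x) := by
      have : orderOf (⟨x, hx⟩ : N) ∣ Nat.card N := orderOf_dvd_natCard _
      rw [Subgroup.orderOf_mk] at this
      exact hN.of_dvd_nat this
    have h2 := mem_of_sq_mem (L := (⊥ : Subgroup G)) h1 (by rw [mem_bot]; exact hxx)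
    rwa [mem_bot] at h2
  have hπ : ∀ x : G, QuotientGroup.mk' N x = 1 ↔ x ∈ N := fun x => QuotientGroup.eq_one_iff x
  have hU : Uni (A.map (QuotientGroup.mk' N)) (QuotientGroup.mk' N v) := by
    refine ⟨mem_map_of_mem _ hv.mem, ?_, ?_, ?_⟩
    · intro h1
      rw [hπ] at h1
      exact hv.ne (hN2 v h1 hv.sq)
    · rw [← map_mul, hv.sq, map_one]
    · rintro _ ⟨a, ha, rfl⟩ ha1 haa
      rw [← map_mul, hπ] at haa
      have hm : Odd (orderOf (a * a)) := by
        have : orderOf (⟨a * a, haa⟩ : N) ∣ Nat.card N := orderOf_dvd_natCard _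
        rw [Subgroup.orderOf_mk] at this
        exact hN.of_dvd_nat this
      have hb : a ^ orderOf (a * a) * a ^ orderOf (a * a) = 1 := by
        rw [← pow_add, ← two_mul, pow_mul, pow_two, pow_orderOf_eq_one]
      have hbπ : QuotientGroup.mk' N (a ^ orderOf (a * a)) = QuotientGroup.mk' N a := by
        obtain ⟨k, hk⟩ := hm
        rw [hk, pow_succ, map_mul, pow_mul, pow_two, map_pow, (hπ (a * a)).2 haa, one_pow, one_mul]
      have hb1 : a ^ orderOf (a * a) ≠ 1 := by
        intro h1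
        rw [h1, map_one] at hbπ
        exact ha1 hbπ.symm
      rw [← hbπ, hv.uniq _ (A.pow_mem ha _) hb1 hb]
  refine ⟨⟨?_, ?_, ?_, ?_, ?_, ?_⟩, hU⟩
  · rintro _ ⟨a, ha, rfl⟩ _ ⟨b, hb, rfl⟩
    rw [← map_mul, h.comm a ha b hb, map_mul]
  · rw [← map_mul, h.tt, map_one]
  · rintro ⟨a, ha, hat⟩
    have h1 : a⁻¹ * t ∈ N := by
      rw [← hπ, map_mul, map_inv, hat, inv_mul_cancel]
    have h2 : a⁻¹ * t * (a⁻¹ * t) = 1 := h.sq (by
      rw [mul_assoc, h.tt, mul_one]; exact A.inv_mem ha)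
    have h3 := hN2 _ h1 h2
    apply h.tA
    have h4 : t = a := by
      have := inv_mul_eq_one.1 h3
      exact this.symm
    rw [h4]; exact ha
  · rintro _ ⟨a, ha, rfl⟩
    rw [← map_mul, ← map_mul, h.inv a ha, map_inv]
  · intro w hw hw1 hww x hx
    have hwv := hU.uniq w hw hw1 hww
    rw [hwv] at hx
    have hvp : IsPGroup 2 (zpowers v) := by
      apply IsPGroup.of_card (n := 1)
      rw [Nat.card_zpowers, orderOf_eq_prime (by rw [pow_two, hv.sq]) hv.ne, pow_one]
    have h1 := Cfsg.Agent.PLocal.CoprimeLift.map_centralizer_mk N (zpowers v)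
      (Nat.coprime_two_right.2 hN) hvp
    have h2 : x ∈ centralizer ((zpowers v).map (QuotientGroup.mk' N) : Set (G ⧸ N)) := by
      rw [mem_centralizer_iff]
      rintro _ ⟨y, hy, rfl⟩
      obtain ⟨i, rfl⟩ := mem_zpowers_iff.1 hy
      rw [map_zpow]
      exact ((show Commute x (QuotientGroup.mk' N v) from hx).zpow_right i).symm.eq
    rw [← h1] at h2
    obtain ⟨y, hy, rfl⟩ := h2
    have h3 : y ∈ h.H := (h.mem_H_iff hv.mem hv.ne hv.sq).2
      ((mem_centralizer_iff.1 hy) v (mem_zpowers v)).symm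
    rcases h3 with h3 | h3
    · exact Or.inl (mem_map_of_mem _ h3)
    · refine Or.inr ?_
      rw [← map_mul]
      exact mem_map_of_mem _ h3
  · exact ⟨_, hU.mem, hU.ne, hU.sq⟩

end Cfsg.Agent.H825
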