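import Cfsg.Agent.H825.SpinCov
import Cfsg.Agent.Lib.AltCarmichael
import Mathlib.GroupTheory.Perm.ViaEmbedding

/-!
# In a non-split double cover of `A_m`, `m ≥ 8`, double transpositions lift to elements of order four (helper825)
-/

set_option autoImplicit false
set_option linter.unusedSectionVars false

namespace Cfsg.Agent.H825.Spin

open Module Equiv Lib.AltCarmichael
open scoped commutatorElement

universe u v w

theorem embHom_swap {α : Type u} {β : Type v} [DecidableEq α] [DecidableEq β] (ι : α ↪ β) (x y : α) :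
    Perm.viaEmbeddingHom ι (swap x y) = swap (ι x) (ι y) := by
  ext b
  rw [Perm.viaEmbeddingHom_apply]
  by_cases hb : b ∈ Set.range ι
  · obtain ⟨a, rfl⟩ := hb
    rw [Perm.viaEmbedding_apply]
    by_cases h1 : a = x
    · rw [h1, swap_apply_left, swap_apply_left]
    by_cases h2 : a = y
    · rw [h2, swap_apply_right, swap_apply_right]
    rw [swap_apply_of_ne_of_ne h1 h2, swap_apply_of_ne_of_ne (fun h => h1 (ι.injective h))
      (fun h => h2 (ι.injective h))]
  · rw [Perm.viaEmbedding_apply_of_notMem _ _ _ hb, swap_apply_of_ne_of_ne]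
    · rintro rfl; exact hb ⟨x, rfl⟩
    · rintro rfl; exact hb ⟨y, rfl⟩

theorem embHom_sign {α : Type u} {β : Type v} [DecidableEq α] [DecidableEq β] [Fintype α] [Fintype β] (ι : α ↪ β)
    (g : Perm α) : Perm.sign (Perm.viaEmbeddingHom ι g) = Perm.sign g := by
  classical
  induction g using Perm.swap_induction_on with
  | one => rw [map_one, map_one, map_one]
  | swap_mul f x y hxy ih =>
    rw [map_mul, map_mul, map_mul, ih, embHom_swap, Perm.sign_swap hxy, Perm.sign_swap (fun h => hxy (ι.injective h))]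

theorem cycle_rot {α : Type u} [DecidableEq α] {a b c : α} (hac : a ≠ c) (hbc : b ≠ c) :
    swap a b * swap b c = swap c a * swap a b := by
  have h1 := swap_apply_apply (swap a b) b c
  rw [swap_apply_right, swap_apply_of_ne_of_ne hac.symm hbc.symm, swap_inv, eq_comm, ← eq_mul_inv_iff_mul_eq,
    swap_inv] at h1
  rw [h1, swap_comm a c]

variable {P : Type w} [Group P] {N : ℕ} {π : P →* Perm (Fin (N + 2))} {z : P}

/-- the embedding -/
def emb (N : ℕ) (hN : 6 ≤ N) : Fin 8 ↪ Fin (N + 2) where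
  toFun := ![Fin.ofNat (N + 2) N, Fin.ofNat (N + 2) (N + 1), Fin.ofNat (N + 2) 0, Fin.ofNat (N + 2) 1,
    Fin.ofNat (N + 2) 2, Fin.ofNat (N + 2) 3, Fin.ofNat (N + 2) 4, Fin.ofNat (N + 2) 5]
  inj' := by
    intro i j h
    have h1 := congrArg Fin.val h
    fin_cases i <;> fin_cases j <;> simp [Fin.ofNat] at h1 ⊢ <;>
      (repeat rw [Nat.mod_eq_of_lt (by omega)] at h1) <;> omega

theorem emb_c0 (hN : 6 ≤ N) : Perm.viaEmbeddingHom (emb N hN) c0 = cyc N 0 := by
  rw [c0, map_mul, embHom_swap, embHom_swap, cyc_def]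
  change swap (Fin.ofNat (N + 2) N) (Fin.ofNat (N + 2) (N + 1)) * swap (Fin.ofNat (N + 2) (N + 1)) (Fin.ofNat (N + 2) 0) = _
  exact cycle_rot (ofNat_ne (by omega) (by omega) (by omega)) (ofNat_ne (by omega) (by omega) (by omega))

theorem emb_d0 (hN : 6 ≤ N) : Perm.viaEmbeddingHom (emb N hN) d0 = cyc N 1 := by
  rw [d0, map_mul, embHom_swap, embHom_swap, cyc_def]
  change swap (Fin.ofNat (N + 2) N) (Fin.ofNat (N + 2) (N + 1)) * swap (Fin.ofNat (N + 2) (N + 1)) (Fin.ofNat (N + 2) 1) = _
  exact cycle_rot (ofNat_ne (by omega) (by omega) (by omega)) (ofNat_ne (by omega) (by omega) (by omega))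

/-- an element moving `(0, 1)` to `(i, j)` -/
theorem exists_move (hN : 6 ≤ N) {i j : ℕ} (hi : i < N) (hj : j < N) (hij : i ≠ j) :
    ∃ g : Perm (Fin (N + 2)), Perm.sign g = 1 ∧ g * cyc N 0 * g⁻¹ = cyc N i ∧ g * cyc N 1 * g⁻¹ = cyc N j := by
  let p : ℕ → Fin (N + 2) := Fin.ofNat (N + 2)
  have hp : ∀ {a b : ℕ}, a < N + 2 → b < N + 2 → a ≠ b → p a ≠ p b := fun ha hb hab => ofNat_ne ha hb hab
  have hinj : ∀ {a b : ℕ}, a < N + 2 → b < N + 2 → p a = p b → a = b := fun ha hb h => by
    by_contra hab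
    exact hp ha hb hab h
  have key : ∀ g : Perm (Fin (N + 2)), g (p 0) = p i → g (p 1) = p j → g (p N) = p N → g (p (N + 1)) = p (N + 1) →
      g * cyc N 0 * g⁻¹ = cyc N i ∧ g * cyc N 1 * g⁻¹ = cyc N j := by
    intro g h0 h1 hN hN1
    have e : ∀ k, g * cyc N k * g⁻¹ = swap (g (p k)) (g (p N)) * swap (g (p N)) (g (p (N + 1))) := by
      intro k
      rw [swap_apply_apply, swap_apply_apply, cyc_def]
      group
      rfl
    rw [e, e, h0, h1, hN, hN1]
    exact ⟨rfl, rfl⟩
  obtain ⟨g, h0, h1, h2, h3⟩ : ∃ g : Perm (Fin (N + 2)), g (p 0) = p i ∧ g (p 1) = p j ∧ g (p N) = p N ∧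
      g (p (N + 1)) = p (N + 1) := by
    set w := swap (p 0) (p i) (p 1) with hw
    have hwi : w ≠ p i := by
      intro h
      have h4 : swap (p 0) (p i) (p 1) = swap (p 0) (p i) (p 0) := by rw [← hw, h, swap_apply_left]
      exact hp (by omega) (by omega) (by omega) ((swap (p 0) (p i)).injective h4)
    have hwN : ∀ k, k = N ∨ k = N + 1 → w ≠ p k ∧ swap (p 0) (p i) (p k) = p k := by
      intro k hk
      have h4 : swap (p 0) (p i) (p k) = p k :=
        swap_apply_of_ne_of_ne (hp (by omega) (by omega) (by omega)) (hp (by omega) (by omega) (by omega))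
      refine ⟨?_, h4⟩
      intro h
      exact hp (a := 1) (b := k) (by omega) (by omega) (by omega)
        ((swap (p 0) (p i)).injective (hw.symm.trans (h.trans h4.symm)))
    refine ⟨swap w (p j) * swap (p 0) (p i), ?_, ?_, ?_, ?_⟩
    · rw [Perm.mul_apply, swap_apply_left, swap_apply_of_ne_of_ne hwi.symm (hp (by omega) (by omega) hij)]
    · rw [Perm.mul_apply, ← hw, swap_apply_left]
    · rw [Perm.mul_apply, (hwN N (Or.inl rfl)).2, swap_apply_of_ne_of_ne (hwN N (Or.inl rfl)).1.symm
        (hp (by omega) (by omega) (by omega))]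
    · rw [Perm.mul_apply, (hwN (N + 1) (Or.inr rfl)).2, swap_apply_of_ne_of_ne (hwN (N + 1) (Or.inr rfl)).1.symm
        (hp (by omega) (by omega) (by omega))]
  rcases Int.units_eq_one_or (Perm.sign g) with hs | hs
  · exact ⟨g, hs, key g h0 h1 h2 h3⟩
  · refine ⟨g * swap (p 2) (p 3), ?_, key _ ?_ ?_ ?_ ?_⟩
    · rw [map_mul, hs, Perm.sign_swap (hp (by omega) (by omega) (by omega))]; rfl
    · rw [Perm.mul_apply, swap_apply_of_ne_of_ne (hp (by omega) (by omega) (by omega))
        (hp (by omega) (by omega) (by omega)), h0]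
    · rw [Perm.mul_apply, swap_apply_of_ne_of_ne (hp (by omega) (by omega) (by omega))
        (hp (by omega) (by omega) (by omega)), h1]
    · rw [Perm.mul_apply, swap_apply_of_ne_of_ne (hp (by omega) (by omega) (by omega))
        (hp (by omega) (by omega) (by omega)), h2]
    · rw [Perm.mul_apply, swap_apply_of_ne_of_ne (hp (by omega) (by omega) (by omega))
        (hp (by omega) (by omega) (by omega)), h3]

/-- lifts of the generators -/
theorem exists_gens (D : Dc π z) : ∃ X : ℕ → P, ∀ i < N, π (X i) = cyc N i ∧ X i * X i * X i = 1 := by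
  have h1 : ∀ i, i < N → ∃ x, π x = cyc N i ∧ x * x * x = 1 := by
    intro i hi
    apply D.exists_lift
    · have := (rel_cyc N).cube i hi
      rwa [pow_succ, pow_two] at this
    · exact Perm.mem_alternatingGroup.1 (cyc_mem N i hi)
  choose! X hX using h1
  exact ⟨X, hX⟩

/-- the relations: `(x_i x_j)² = z` for all `i ≠ j`, or `P` splits -/
theorem gens_sq (D : Dc π z) (hN : 6 ≤ N) (hsg : ∀ x, Perm.sign (π x) = 1) (hz1 : z ≠ 1) (hperf : commutator P = ⊤)
    {X : ℕ → P} (hX : ∀ i < N, π (X i) = cyc N i ∧ X i * X i * X i = 1) {i j : ℕ} (hi : i < N) (hj : j < N)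
    (hij : i ≠ j) : X i * X j * (X i * X j) = z := by
  have hconj : ∀ i j, i < N → j < N → i ≠ j → ∃ u : P, X i = u * X 0 * u⁻¹ ∧ X j = u * X 1 * u⁻¹ := by
    intro i j hi hj hij
    obtain ⟨g, hs, hg0, hg1⟩ := exists_move hN hi hj hij
    obtain ⟨u, hu⟩ := D.surj g hs
    refine ⟨u, ?_, ?_⟩
    · exact (D.conj u (hX 0 (by omega)).2 (hX i hi).2 (by rw [hu, (hX 0 (by omega)).1, (hX i hi).1, hg0])).symm
    · exact (D.conj u (hX 1 (by omega)).2 (hX j hj).2 (by rw [hu, (hX 1 (by omega)).1, (hX j hj).1, hg1])).symm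
  have h01 : X 0 * X 1 * (X 0 * X 1) = z := by
    have h1 : π (X 0 * X 1 * (X 0 * X 1)) = 1 := by
      rw [map_mul, map_mul, (hX 0 (by omega)).1, (hX 1 (by omega)).1, ← pow_two]
      exact (rel_cyc N).sq 0 (by omega) 1 (by omega) (by norm_num)
    rcases D.ker _ h1 with h | h
    · exfalso
      have hrel : Rel N X := by
        constructor
        · intro i hi
          rw [pow_succ, pow_two, (hX i hi).2]
        · intro i hi j hj hij
          obtain ⟨u, h2, h3⟩ := hconj i j hi hj hij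
          rw [pow_two, h2, h3]
          have : u * X 0 * u⁻¹ * (u * X 1 * u⁻¹) * (u * X 0 * u⁻¹ * (u * X 1 * u⁻¹)) =
            u * (X 0 * X 1 * (X 0 * X 1)) * u⁻¹ := by group
          rw [this, h, mul_one, mul_inv_cancel]
      obtain ⟨φ, hφ⟩ := Lib.AltCarmichael.exists_hom (by omega) hrel
      have hπφ : ∀ c : alternatingGroup (Fin (N + 2)), π (φ c) = c := by
        intro c
        have hc : (c : Perm (Fin (N + 2))) ∈ gen N (cyc N) := by
          rw [gen_cyc N (by omega)]; exact c.2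
        have key : ∀ d ∈ gen N (cyc N), ∀ hd : d ∈ alternatingGroup (Fin (N + 2)), π (φ ⟨d, hd⟩) = d := by
          intro d hd
          rw [gen_def] at hd
          induction hd using Subgroup.closure_induction with
          | mem x hx =>
            obtain ⟨i, hi, rfl⟩ := hx
            intro hd
            rw [hφ i hi, (hX i hi).1]
          | one =>
            intro hd
            have : (⟨1, hd⟩ : alternatingGroup (Fin (N + 2))) = 1 := rfl
            rw [this, map_one, map_one]
          | mul x y hx hy ihx ihy =>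
            intro hd
            have hx' : x ∈ alternatingGroup (Fin (N + 2)) := by
              rw [← gen_cyc N (by omega), gen_def]; exact hx
            have hy' : y ∈ alternatingGroup (Fin (N + 2)) := by
              rw [← gen_cyc N (by omega), gen_def]; exact hy
            have : (⟨x * y, hd⟩ : alternatingGroup (Fin (N + 2))) = ⟨x, hx'⟩ * ⟨y, hy'⟩ := rfl
            rw [this, map_mul, map_mul, ihx hx', ihy hy']
          | inv x hx ihx =>
            intro hd
            have hx' : x ∈ alternatingGroup (Fin (N + 2)) := by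
              rw [← gen_cyc N (by omega), gen_def]; exact hx
            have : (⟨x⁻¹, hd⟩ : alternatingGroup (Fin (N + 2))) = ⟨x, hx'⟩⁻¹ := rfl
            rw [this, map_inv, map_inv, ihx hx']
        exact key c hc c.2
      -- every element is `φ c` or `z φ c`
      have hall : ∀ x : P, ∃ c, x = φ c ∨ x = z * φ c := by
        intro x
        refine ⟨⟨π x, Perm.mem_alternatingGroup.2 (hsg x)⟩, ?_⟩
        apply D.eq_or
        rw [hπφ]
      have hcomm : commutator P ≤ φ.range := by
        rw [commutator_def, Subgroup.commutator_le]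
        intro x _ y _
        obtain ⟨c, hc⟩ := hall x
        obtain ⟨d, hd⟩ := hall y
        refine ⟨c * d * c⁻¹ * d⁻¹, ?_⟩
        rw [map_mul, map_mul, map_mul, map_inv, map_inv, ← commutatorElement_def]
        have e1 : ∀ x y : P, ⁅z * x, y⁆ = ⁅x, y⁆ := by
          intro x y
          have : z * x * y * (z * x)⁻¹ * y⁻¹ = z * (x * y * x⁻¹) * z⁻¹ * y⁻¹ := by group
          rw [commutatorElement_def, commutatorElement_def, this, D.zc, mul_inv_cancel_right]
        have e2 : ∀ x y : P, ⁅x, z * y⁆ = ⁅x, y⁆ := by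
          intro x y
          rw [← commutatorElement_inv, e1, commutatorElement_inv]
        rcases hc with rfl | rfl <;> rcases hd with rfl | rfl <;> simp only [e1, e2]
      rw [hperf] at hcomm
      obtain ⟨c, hc⟩ := hcomm (Subgroup.mem_top z)
      have h5 := hπφ c
      rw [hc, D.pz] at h5
      have h6 : c = 1 := Subtype.ext h5.symm
      rw [h6, map_one] at hc
      exact hz1 hc.symm
    · exact h
  obtain ⟨u, h2, h3⟩ := hconj i j hi hj hij
  rw [h2, h3]
  have : u * X 0 * u⁻¹ * (u * X 1 * u⁻¹) * (u * X 0 * u⁻¹ * (u * X 1 * u⁻¹)) =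
    u * (X 0 * X 1 * (X 0 * X 1)) * u⁻¹ := by group
  rw [this, h01, ← D.zc, mul_inv_cancel_right]

theorem dbl (D : Dc π z) (hN : 6 ≤ N) (hsg : ∀ x, Perm.sign (π x) = 1) (hz1 : z ≠ 1) (hperf : commutator P = ⊤) :
    Dbl π (Perm.viaEmbeddingHom (emb N hN)) z := by
  obtain ⟨X, hX⟩ := exists_gens D
  have h01 := gens_sq D hN hsg hz1 hperf hX (i := 0) (j := 1) (by omega) (by omega) (by norm_num)
  intro g x y hx hy hgx hgy
  obtain ⟨g', hs, h0, h1⟩ : ∃ g' : Perm (Fin 8), Perm.sign g' = 1 ∧ g' * c0 * g'⁻¹ = g * c0 * g⁻¹ ∧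
      g' * d0 * g'⁻¹ = g * d0 * g⁻¹ := by
    rcases Int.units_eq_one_or (Perm.sign g) with hs | hs
    · exact ⟨g, hs, rfl, rfl⟩
    · refine ⟨g * t0, ?_, ?_, ?_⟩
      · rw [map_mul, hs]; decide
      · have : g * t0 * c0 * (g * t0)⁻¹ = g * (t0 * c0 * t0⁻¹) * g⁻¹ := by group
        rw [this, q1]
      · have : g * t0 * d0 * (g * t0)⁻¹ = g * (t0 * d0 * t0⁻¹) * g⁻¹ := by group
        rw [this, q2]
  obtain ⟨u, hu⟩ := D.surj (Perm.viaEmbeddingHom (emb N hN) g') (by rw [embHom_sign, hs])
  have e1 : u * X 0 * u⁻¹ = x := by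
    apply D.conj u (hX 0 (by omega)).2 hx
    rw [hu, (hX 0 (by omega)).1, hgx, ← h0, ← emb_c0 hN, ← map_inv, ← map_mul, ← map_mul]
  have e2 : u * X 1 * u⁻¹ = y := by
    apply D.conj u (hX 1 (by omega)).2 hy
    rw [hu, (hX 1 (by omega)).1, hgy, ← h1, ← emb_d0 hN, ← map_inv, ← map_mul, ← map_mul]
  rw [← e1, ← e2]
  have : u * X 0 * u⁻¹ * (u * X 1 * u⁻¹) * (u * X 0 * u⁻¹ * (u * X 1 * u⁻¹)) =
    u * (X 0 * X 1 * (X 0 * X 1)) * u⁻¹ := by group
  rw [this, h01, ← D.zc, mul_inv_cancel_right]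

end Cfsg.Agent.H825.Spin
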