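import Mathlib

/-!
# Elements of order three in dimension two (helper825)
-/

set_option autoImplicit false

namespace Cfsg.Agent.H825.Spin

open Module Matrix

universe u v

variable {F : Type u} [Field F]

theorem mat_sq (M : Matrix (Fin 2) (Fin 2) F) : M * M = M.trace • M - M.det • 1 := by
  ext i j
  rw [Matrix.trace_fin_two, Matrix.det_fin_two]
  fin_cases i <;> fin_cases j <;> simp [Matrix.mul_apply, Fin.sum_univ_two] <;> ring

/-- `M³ = 1`: scalar or `det = tr²`, `tr³ = -1` -/
theorem mat_cases {M : Matrix (Fin 2) (Fin 2) F} (h : M * M * M = 1) :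
    (∃ c : F, M = c • 1) ∨ (M.trace ^ 2 = M.det ∧ M.trace * M.det = -1) := by
  have h1 : (M.trace ^ 2 - M.det) • M = (1 + M.trace * M.det) • (1 : Matrix (Fin 2) (Fin 2) F) := by
    have h2 : M * M * M = (M.trace ^ 2 - M.det) • M - (M.trace * M.det) • 1 := by
      rw [mat_sq, sub_mul, smul_mul_assoc, mat_sq, smul_mul_assoc, one_mul, smul_sub, smul_smul, smul_smul, sub_smul,
        pow_two]
      abel
    rw [h] at h2
    rw [add_smul, one_smul]
    exact sub_eq_iff_eq_add.1 h2.symm
  by_cases h3 : M.trace ^ 2 - M.det = 0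
  · right
    refine ⟨sub_eq_zero.1 h3, ?_⟩
    rw [h3, zero_smul] at h1
    have h4 := congrFun (congrFun h1 0) 0
    simp at h4
    linear_combination -h4
  · left
    refine ⟨(M.trace ^ 2 - M.det)⁻¹ * (1 + M.trace * M.det), ?_⟩
    rw [mul_smul, ← h1, smul_smul, inv_mul_cancel₀ h3, one_smul]

theorem mat_eq_one (h2 : (2 : F) ≠ 0) {M : Matrix (Fin 2) (Fin 2) F} (h : M * M * M = 1)
    (ht : M.trace = (M * M).trace) : M = 1 ∨ (M.trace = -1 ∧ M.det = 1) := by
  rcases mat_cases h with ⟨c, rfl⟩ | ⟨h1, h3⟩
  · left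
    have hc : c * c = c := by
      have h4 : (c • (1 : Matrix (Fin 2) (Fin 2) F)).trace = 2 * c := by
        rw [Matrix.trace_smul, Matrix.trace_one, Fintype.card_fin, smul_eq_mul]
        push_cast; ring
      have h5 : (c • (1 : Matrix (Fin 2) (Fin 2) F)) * (c • 1) = (c * c) • 1 := by
        rw [smul_mul_smul_comm, one_mul]
      have h6 : ((c * c) • (1 : Matrix (Fin 2) (Fin 2) F)).trace = 2 * (c * c) := by
        rw [Matrix.trace_smul, Matrix.trace_one, Fintype.card_fin, smul_eq_mul]
        push_cast; ring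
      rw [h4, h5, h6] at ht
      exact (mul_left_cancel₀ h2 ht).symm
    have hc0 : c ≠ 0 := by
      rintro rfl
      have h4 := congrFun (congrFun h 0) 0
      simp at h4
    have : c = 1 := mul_left_cancel₀ hc0 (by rw [hc, mul_one])
    rw [this, one_smul]
  · right
    have h4 : (M * M).trace = M.trace ^ 2 - 2 * M.det := by
      rw [mat_sq, Matrix.trace_sub, Matrix.trace_smul, Matrix.trace_smul, Matrix.trace_one, Fintype.card_fin,
        smul_eq_mul, smul_eq_mul]
      push_cast; ring
    rw [h4, ← h1] at ht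
    have h5 : M.trace ≠ 0 := by
      intro h0
      rw [h0, zero_mul] at h3
      exact one_ne_zero (neg_eq_zero.1 h3.symm)
    have h6 : M.trace = -1 := by
      apply mul_left_cancel₀ h5
      linear_combination ht
    exact ⟨h6, by rw [← h1, h6]; norm_num⟩

theorem mat_two (h2 : (2 : F) ≠ 0) (h3 : (3 : F) ≠ 0) {M N : Matrix (Fin 2) (Fin 2) F} (hM : M * M * M = 1)
    (hN : N * N * N = 1) (hMN : M * N = N * M) (tM : M.trace = (M * M).trace) (tN : N.trace = (N * N).trace)
    (t : M.trace = N.trace) (t' : (M * N).trace = (M * M * N).trace) : M = 1 := by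
  rcases mat_eq_one h2 hM tM with h | ⟨h4, h5⟩
  · exact h
  exfalso
  rcases mat_eq_one h2 hN tN with h | ⟨h6, h7⟩
  · rw [h, h4, Matrix.trace_one, Fintype.card_fin] at t
    apply h3
    push_cast at t
    linear_combination -t
  have h8 : M * M * N = - N - M * N := by
    rw [mat_sq, h4, h5, one_smul, neg_one_smul, sub_mul, one_mul, neg_mul]
    abel
  rw [h8, Matrix.trace_sub, Matrix.trace_neg, h6] at t'
  have h9 : M * N * (M * N) * (M * N) = 1 := by
    have : M * N * (M * N) * (M * N) = (M * M * M) * (N * N * N) := by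
      have e : ∀ X : Matrix (Fin 2) (Fin 2) F, N * (M * X) = M * (N * X) := fun X => by
        rw [← mul_assoc, ← hMN, mul_assoc]
      simp only [mul_assoc]
      rw [e, e, e]
    rw [this, hM, hN, one_mul]
  rcases mat_cases h9 with ⟨c, hc⟩ | ⟨h10, h11⟩
  · have hdet : c * c = 1 := by
      have := congrArg Matrix.det hc
      rw [Matrix.det_mul, h5, h7, Matrix.det_smul, Matrix.det_one, Fintype.card_fin] at this
      linear_combination -this
    have htr : (M * N).trace = 2 * c := by
      rw [hc, Matrix.trace_smul, Matrix.trace_one, Fintype.card_fin, smul_eq_mul]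
      push_cast; ring
    rw [htr] at t'
    apply h3
    have h12 : 4 * c = 1 := by linear_combination t'
    have h13 : c * c * c = 1 := by
      have := congrFun (congrFun h9 0) 0
      rw [hc] at this
      simpa [mul_assoc] using this
    rw [hdet, one_mul] at h13
    rw [h13] at h12
    linear_combination h12
  · have h12 : (M * N).det = 1 := by rw [Matrix.det_mul, h5, h7, one_mul]
    rw [h12, mul_one] at h11
    rw [h11] at t'
    apply h3
    linear_combination -t'

theorem end_two {U : Type v} [AddCommGroup U] [Module F U] [FiniteDimensional F U] (hU : finrank F U = 2)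
    (h2 : (2 : F) ≠ 0) (h3 : (3 : F) ≠ 0) {M N : Module.End F U} (hM : M * M * M = 1)
    (hN : N * N * N = 1) (hMN : M * N = N * M) (tM : LinearMap.trace F U M = LinearMap.trace F U (M * M))
    (tN : LinearMap.trace F U N = LinearMap.trace F U (N * N))
    (t : LinearMap.trace F U M = LinearMap.trace F U N)
    (t' : LinearMap.trace F U (M * N) = LinearMap.trace F U (M * M * N)) : M = 1 := by
  let b : Basis (Fin 2) F U := Module.finBasisOfFinrankEq F U hU
  let φ := LinearMap.toMatrixAlgEquiv b
  have htr : ∀ f : Module.End F U, LinearMap.trace F U f = (φ f).trace := fun f => LinearMap.trace_eq_matrix_trace F b f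
  apply φ.injective
  rw [map_one]
  apply mat_two h2 h3 (N := φ N)
  · rw [← map_mul, ← map_mul, hM, map_one]
  · rw [← map_mul, ← map_mul, hN, map_one]
  · rw [← map_mul, ← map_mul, hMN]
  · rw [← map_mul, ← htr, ← htr, tM]
  · rw [← map_mul, ← htr, ← htr, tN]
  · rw [← htr, ← htr, t]
  · rw [← map_mul, ← map_mul, ← map_mul, ← htr, ← htr, t']

end Cfsg.Agent.H825.Spin
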