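import Cfsg.Agent.H825.SpinQuat
import Cfsg.Agent.H825.SpinTwo

/-!
# The lift of a 3-cycle acts with `y² + y + 1 = 0` (helper825)
-/

set_option autoImplicit false
set_option linter.unusedSectionVars false

namespace Cfsg.Agent.H825.Spin

open Module

universe u v w

section group

variable {P : Type w} [Group P]

/-- two commuting `SL_2(3)` -/
structure Pre (z a b c d : P) : Prop where
  sl : Sl z a b
  sl' : Sl z c d
  ac : Commute a c
  ad : Commute a d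
  bc : Commute b c
  bd : Commute b d

/-- configuration in the double cover of `A_8`: `a, b` lift `(012)`, `(013)`, `c, d` lift `(456)`, `(457)`,
`σ` lifts `(04)(15)(26)(37)` -/
structure Cfg (z a b c d σ : P) : Prop extends Pre z a b c d where
  sa : σ * a * σ⁻¹ = c
  sb : σ * b * σ⁻¹ = d
  sc : σ * c * σ⁻¹ = a
  sd : σ * d * σ⁻¹ = b
  u1 : Uni z (a * b * (c * d)) σ
  u2 : Uni z (a * b * (c * d)) (a⁻¹ * b * a⁻¹ * (c⁻¹ * d * c⁻¹) * σ)
  e1 : ∃ u, u * a * u⁻¹ = a⁻¹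
  e2 : ∃ u, u * a * u⁻¹ = a⁻¹ ∧ u * c * u⁻¹ = c

variable {z a b c d σ : P}

namespace Pre

variable (h : Pre z a b c d)
include h

/-- words in `a, b` commute with words in `c, d` -/
theorem cI : Commute c (a * b) := (h.ac.symm.mul_right h.bc.symm)
theorem dI : Commute d (a * b) := (h.ad.symm.mul_right h.bd.symm)
theorem cJ : Commute c (a⁻¹ * b * a⁻¹) := ((h.ac.symm.inv_right.mul_right h.bc.symm).mul_right h.ac.symm.inv_right)
theorem dJ : Commute d (a⁻¹ * b * a⁻¹) := ((h.ad.symm.inv_right.mul_right h.bd.symm).mul_right h.ad.symm.inv_right)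
theorem cK : Commute c (b * a) := (h.bc.symm.mul_right h.ac.symm)
theorem dK : Commute d (b * a) := (h.bd.symm.mul_right h.ad.symm)
theorem aI' : Commute a (c * d) := h.ac.mul_right h.ad
theorem bI' : Commute b (c * d) := h.bc.mul_right h.bd
theorem aJ' : Commute a (c⁻¹ * d * c⁻¹) := (h.ac.inv_right.mul_right h.ad).mul_right h.ac.inv_right
theorem bJ' : Commute b (c⁻¹ * d * c⁻¹) := (h.bc.inv_right.mul_right h.bd).mul_right h.bc.inv_right
theorem aK' : Commute a (d * c) := h.ad.mul_right h.ac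
theorem bK' : Commute b (d * c) := h.bd.mul_right h.bc

theorem symm' : Commute a c ∧ Commute c a := ⟨h.ac, h.ac.symm⟩

theorem II' : Commute (a * b) (c * d) := h.aI'.mul_left h.bI'
theorem IJ' : Commute (a * b) (c⁻¹ * d * c⁻¹) := h.aJ'.mul_left h.bJ'
theorem IK' : Commute (a * b) (d * c) := h.aK'.mul_left h.bK'
theorem JI' : Commute (a⁻¹ * b * a⁻¹) (c * d) := (h.aI'.inv_left.mul_left h.bI').mul_left h.aI'.inv_left
theorem JJ' : Commute (a⁻¹ * b * a⁻¹) (c⁻¹ * d * c⁻¹) := (h.aJ'.inv_left.mul_left h.bJ').mul_left h.aJ'.inv_left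
theorem JK' : Commute (a⁻¹ * b * a⁻¹) (d * c) := (h.aK'.inv_left.mul_left h.bK').mul_left h.aK'.inv_left
theorem KI' : Commute (b * a) (c * d) := h.bI'.mul_left h.aI'
theorem KJ' : Commute (b * a) (c⁻¹ * d * c⁻¹) := h.bJ'.mul_left h.aJ'
theorem KK' : Commute (b * a) (d * c) := h.bK'.mul_left h.aK'

theorem r12 : a * b * (c * d) * (a⁻¹ * b * a⁻¹ * (c⁻¹ * d * c⁻¹)) = b * a * (d * c) := by
  rw [mul_assoc (a * b), ← mul_assoc (c * d), ← h.JI'.eq, mul_assoc (a⁻¹ * b * a⁻¹), h.sl'.ij, ← mul_assoc, h.sl.ij]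

theorem r21 : a⁻¹ * b * a⁻¹ * (c⁻¹ * d * c⁻¹) * (a * b * (c * d)) = b * a * (d * c) := by
  rw [mul_assoc (a⁻¹ * b * a⁻¹), ← mul_assoc (c⁻¹ * d * c⁻¹), ← h.IJ'.eq, mul_assoc (a * b), h.sl'.ji, ← mul_assoc,
    h.sl.ji, mul_assoc z, ← mul_assoc (b * a) z, ← h.sl.zc, mul_assoc z (b * a), ← mul_assoc z z, h.sl.zz, one_mul]

theorem r11 : a * b * (c * d) * (a * b * (c * d)) = 1 := by
  rw [mul_assoc (a * b), ← mul_assoc (c * d), ← h.II'.eq, mul_assoc (a * b) (c * d), ← mul_assoc, h.sl.ab, h.sl'.ab,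
    h.sl.zz]

theorem r22 : a⁻¹ * b * a⁻¹ * (c⁻¹ * d * c⁻¹) * (a⁻¹ * b * a⁻¹ * (c⁻¹ * d * c⁻¹)) = 1 := by
  rw [mul_assoc (a⁻¹ * b * a⁻¹), ← mul_assoc (c⁻¹ * d * c⁻¹), ← h.JJ'.eq, mul_assoc (a⁻¹ * b * a⁻¹) (c⁻¹ * d * c⁻¹),
    ← mul_assoc, h.sl.jj, h.sl'.jj, h.sl.zz]

theorem iji : a * b * (a⁻¹ * b * a⁻¹) * (a * b)⁻¹ = z * (a⁻¹ * b * a⁻¹) := by
  rw [mul_inv_eq_iff_eq_mul, mul_assoc z, h.sl.ji, ← mul_assoc z z, h.sl.zz, one_mul, h.sl.ij]

theorem jij : a⁻¹ * b * a⁻¹ * (a * b) * (a⁻¹ * b * a⁻¹)⁻¹ = z * (a * b) := by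
  rw [mul_inv_eq_iff_eq_mul, mul_assoc z, h.sl.ij, h.sl.ji]

theorem uni : Uni z (a * b * (c * d)) (a⁻¹ * b * a⁻¹ * (c⁻¹ * d * c⁻¹)) where
  xx := h.r11
  yy := h.r22
  comm := by rw [h.r12, h.r21]
  ex := by
    refine ⟨a * b, ?_, ?_⟩
    · have h1 : Commute (a * b) (a * b * (c * d)) := (Commute.refl _).mul_right h.II'
      rw [h1.eq, mul_inv_cancel_right]
    · have h1 : a * b * (a⁻¹ * b * a⁻¹ * (c⁻¹ * d * c⁻¹)) * (a * b)⁻¹ =
          (a * b * (a⁻¹ * b * a⁻¹) * (a * b)⁻¹) * ((a * b) * (c⁻¹ * d * c⁻¹) * (a * b)⁻¹) := by group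
      rw [h1, h.iji, h.IJ'.eq, mul_inv_cancel_right, mul_assoc z]
  ey := by
    refine ⟨a⁻¹ * b * a⁻¹, ?_, ?_⟩
    · have h1 : a⁻¹ * b * a⁻¹ * (a * b * (c * d)) * (a⁻¹ * b * a⁻¹)⁻¹ =
          (a⁻¹ * b * a⁻¹ * (a * b) * (a⁻¹ * b * a⁻¹)⁻¹) *
            ((a⁻¹ * b * a⁻¹) * (c * d) * (a⁻¹ * b * a⁻¹)⁻¹) := by group
      rw [h1, h.jij, h.JI'.eq, mul_inv_cancel_right, mul_assoc z]
    · have h1 : Commute (a⁻¹ * b * a⁻¹) (a⁻¹ * b * a⁻¹ * (c⁻¹ * d * c⁻¹)) := (Commute.refl _).mul_right h.JJ'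
      rw [h1.eq, mul_inv_cancel_right]

end Pre

namespace Cfg

variable (h : Cfg z a b c d σ)
include h

theorem sI : σ * (a * b) * σ⁻¹ = c * d := by
  rw [← h.sa, ← h.sb]; group

theorem sI' : σ * (c * d) * σ⁻¹ = a * b := by
  rw [← h.sc, ← h.sd]; group

theorem sJ : σ * (a⁻¹ * b * a⁻¹) * σ⁻¹ = c⁻¹ * d * c⁻¹ := by
  rw [← h.sa, ← h.sb]; group

theorem sJ' : σ * (c⁻¹ * d * c⁻¹) * σ⁻¹ = a⁻¹ * b * a⁻¹ := by
  rw [← h.sc, ← h.sd]; group

theorem s2 : a⁻¹ * b * a⁻¹ * (c⁻¹ * d * c⁻¹) * σ = σ * (a⁻¹ * b * a⁻¹ * (c⁻¹ * d * c⁻¹)) := by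
  have h1 : σ * (a⁻¹ * b * a⁻¹ * (c⁻¹ * d * c⁻¹)) * σ⁻¹ =
      (σ * (a⁻¹ * b * a⁻¹) * σ⁻¹) * (σ * (c⁻¹ * d * c⁻¹) * σ⁻¹) := by group
  rw [h.sJ, h.sJ', ← h.JJ'.eq, mul_inv_eq_iff_eq_mul] at h1
  exact h1.symm

theorem sac : σ * (a * c) * σ⁻¹ = a * c := by
  have h1 : σ * (a * c) * σ⁻¹ = (σ * a * σ⁻¹) * (σ * c * σ⁻¹) := by group
  rw [h1, h.sa, h.sc, h.ac.eq]

end Cfg

end group

section ring

variable {F : Type u} [Field F] {V : Type v} [AddCommGroup V] [Module F V]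
variable {P : Type w} [Group P] {ρ : P →* Module.End F V} {z a b c d σ : P}

/-- the subspace -/
def U (ρ : P →* Module.End F V) (a b c d : P) : Submodule F V :=
  E ρ (a * b * (c * d)) 1 ⊓ E ρ (a⁻¹ * b * a⁻¹ * (c⁻¹ * d * c⁻¹)) 1

theorem mem_U {v : V} : v ∈ U ρ a b c d ↔ ρ (a * b * (c * d)) v = v ∧ ρ (a⁻¹ * b * a⁻¹ * (c⁻¹ * d * c⁻¹)) v = v := by
  rw [U, Submodule.mem_inf, mem_E, mem_E, one_smul]

variable (h : Cfg z a b c d σ) (hz : ρ z = -1) (h2 : (2 : F) ≠ 0)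

include h in
theorem hdim [FiniteDimensional F V] (hz : ρ z = -1) (h2 : (2 : F) ≠ 0) :
    finrank F V = 8 * finrank F (U ρ a b c d ⊓ E ρ σ 1 : Submodule F V) ∧
    finrank F V = 8 * finrank F (U ρ a b c d ⊓ E ρ σ (-1) : Submodule F V) ∧
    finrank F V = 4 * finrank F (U ρ a b c d) := by
  obtain ⟨h1, h3⟩ := eight (ρ := ρ) h.uni h.u1 h.u2 h.s2 hz h2
  obtain ⟨h4, h5, -⟩ := h.uni.finrank_eq (ρ := ρ) hz h2
  refine ⟨h1, h3, ?_⟩
  rw [U]
  omega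

include h hz in
theorem onU {v : V} (hv : v ∈ U ρ a b c d) : S ρ c d v = -S ρ a b v := by
  obtain ⟨h1, h3⟩ := mem_U.1 hv
  have h4 : ρ (b * a * (d * c)) v = v := by
    rw [← h.r12, rho_mul, h3, h1]
  have key : ∀ {x y : P}, ρ x * ρ x = -1 → ρ (x * y) v = v → ρ y v = -ρ x v := by
    intro x y hx hxy
    have := congrArg (ρ x) hxy
    rw [rho_mul, ← Module.End.mul_apply, hx] at this
    rw [← this]
    simp
  rw [S_def, S_def]
  simp only [LinearMap.add_apply]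
  rw [key (ii' h.sl hz) h1, key (jj' h.sl hz) h3, key (kk' h.sl hz) h4]
  abel

include h hz h2 in
theorem QQ_onU {v : V} (hv : v ∈ U ρ a b c d) : Q ρ a b (Q ρ c d v) = v := by
  have h1 : Q ρ c d v = Qb ρ a b v := by
    rw [Q, Qb, LinearMap.smul_apply, LinearMap.smul_apply, LinearMap.sub_apply, LinearMap.add_apply, onU h hz hv,
      sub_neg_eq_add]
  rw [h1, ← Module.End.mul_apply, Q_mul_Qb h.sl hz h2]
  rfl

include h hz h2 in
/-- an operator commuting with `I, J` and trivial on `U` is trivial -/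
theorem ext_U {X : Module.End F V} (hI : X * ρ (a * b) = ρ (a * b) * X)
    (hJ : X * ρ (a⁻¹ * b * a⁻¹) = ρ (a⁻¹ * b * a⁻¹) * X) (hX : ∀ v ∈ U ρ a b c d, X v = v) : X = 1 := by
  set i := a * b with hi
  set j := a⁻¹ * b * a⁻¹ with hj
  set r := a * b * (c * d) with hr
  set s := a⁻¹ * b * a⁻¹ * (c⁻¹ * d * c⁻¹) with hs
  have rr : ∀ v, ρ r (ρ r v) = v := fun v => by rw [← rho_mul, h.r11, map_one]; rfl
  have ss : ∀ v, ρ s (ρ s v) = v := fun v => by rw [← rho_mul, h.r22, map_one]; rfl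
  have rs : ∀ v, ρ r (ρ s v) = ρ s (ρ r v) := fun v => by rw [← rho_mul, ← rho_mul, h.uni.comm]
  have hzv : ∀ v, ρ z v = -v := fun v => by rw [hz]; rfl
  -- `i` commutes with `r`, anticommutes with `s`
  have ir : ∀ v, ρ r (ρ i v) = ρ i (ρ r v) := fun v => by
    have h1 : Commute i r := (Commute.refl _).mul_right h.II'
    rw [← rho_mul, ← rho_mul, h1.eq]
  have is : ∀ v, ρ s (ρ i v) = -ρ i (ρ s v) := fun v => by
    have h1 : s * i = z * (i * s) := by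
      calc s * i = j * ((c⁻¹ * d * c⁻¹) * i) := mul_assoc _ _ _
        _ = j * i * (c⁻¹ * d * c⁻¹) := by rw [hi, ← h.IJ'.eq, ← mul_assoc]
        _ = z * (i * j * (c⁻¹ * d * c⁻¹)) := by rw [hi, hj, h.sl.ji, h.sl.ij, mul_assoc]
        _ = z * (i * s) := by rw [mul_assoc i]
    rw [← rho_mul, h1, rho_mul, hzv, rho_mul]
  have js : ∀ v, ρ s (ρ j v) = ρ j (ρ s v) := fun v => by
    have h1 : Commute j s := (Commute.refl _).mul_right h.JJ'
    rw [← rho_mul, ← rho_mul, h1.eq]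
  have jr : ∀ v, ρ r (ρ j v) = -ρ j (ρ r v) := fun v => by
    have h0 : i * j = z * (j * i) := by rw [h.sl.ji, ← mul_assoc z z, h.sl.zz, one_mul, h.sl.ij]
    have h1 : r * j = z * (j * r) := by
      calc r * j = i * ((c * d) * j) := mul_assoc _ _ _
        _ = i * j * (c * d) := by rw [hj, ← h.JI'.eq, ← mul_assoc]
        _ = z * (j * i * (c * d)) := by rw [h0, mul_assoc]
        _ = z * (j * r) := by rw [mul_assoc j]
    rw [← rho_mul, h1, rho_mul, hzv, rho_mul]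
  have XI : ∀ v, X (ρ i v) = ρ i (X v) := fun v => by
    rw [← Module.End.mul_apply, hI]; rfl
  have XJ : ∀ v, X (ρ j v) = ρ j (X v) := fun v => by
    rw [← Module.End.mul_apply, hJ]; rfl
  have iinj : ∀ v w, ρ i v = ρ i w → v = w := fun v w hvw => by
    have := congrArg (ρ i⁻¹) hvw
    rwa [rho_inv, rho_inv] at this
  have jinj : ∀ v w, ρ j v = ρ j w → v = w := fun v w hvw => by
    have := congrArg (ρ j⁻¹) hvw
    rwa [rho_inv, rho_inv] at this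
  have h1 : ∀ v, ρ r v = v → ρ s v = v → X v = v := fun v hv hv' => hX v (mem_U.2 ⟨hv, hv'⟩)
  have h3 : ∀ v, ρ r v = v → ρ s v = -v → X v = v := by
    intro v hv hv'
    apply iinj
    rw [← XI]
    apply h1
    · rw [ir, hv]
    · rw [is, hv', map_neg, neg_neg]
  have h4 : ∀ v, ρ r v = v → X v = v := by
    intro v hv
    have e1 := h1 (v + ρ s v) (by rw [map_add, rs, hv]) (by rw [map_add, ss, add_comm])
    have e2 := h3 (v - ρ s v) (by rw [map_sub, rs, hv]) (by rw [map_sub, ss, neg_sub])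
    have e3 : X (v + ρ s v) + X (v - ρ s v) = (v + ρ s v) + (v - ρ s v) := by rw [e1, e2]
    rw [← map_add, add_add_sub_cancel, ← two_smul F v, map_smul] at e3
    exact smul_right_injective V h2 e3
  have h5 : ∀ v, ρ r v = -v → X v = v := by
    intro v hv
    apply jinj
    rw [← XJ]
    apply h4
    rw [jr, hv, map_neg, neg_neg]
  ext v
  have e1 := h4 (v + ρ r v) (by rw [map_add, rr, add_comm])
  have e2 := h5 (v - ρ r v) (by rw [map_sub, rr, neg_sub])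
  have e3 : X (v + ρ r v) + X (v - ρ r v) = (v + ρ r v) + (v - ρ r v) := by rw [e1, e2]
  rw [← map_add, add_add_sub_cancel, ← two_smul F v, map_smul] at e3
  exact smul_right_injective V h2 e3

end ring

end Cfsg.Agent.H825.Spin
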