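import Cfsg.Agent.H825.SpinEven

/-!
# Clifford relations of the lifts of three-cycles (helper825)
-/

set_option autoImplicit false
set_option linter.unusedSectionVars false

namespace Cfsg.Agent.H825.Spin

open Finset

universe u v w

section Rels

variable {F : Type u} [Field F] {R : Type v} [Ring R] [Algebra F R] {K : Subfield F}

/-- `a i² = -3`, `a i a j + a j a i = -2` for `i ≠ j` -/
structure Rels (N : ℕ) (a : ℕ → R) : Prop where
  sq : ∀ i < N, a i * a i = -3
  ac : ∀ i < N, ∀ j < N, i ≠ j → a i * a j + a j * a i = -2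

theorem Rels.mono {N M : ℕ} {a : ℕ → R} (h : Rels N a) (hM : M ≤ N) : Rels M a :=
  ⟨fun i hi => h.sq i (by omega), fun i hi j hj => h.ac i (by omega) j (by omega)⟩

/-- integral combinations -/
def L (N : ℕ) (a : ℕ → R) (v : ℕ → ℤ) : R := ∑ i ∈ range N, v i • a i

/-- the bilinear form -/
def bil (N : ℕ) (v w : ℕ → ℤ) : ℤ :=
  2 * ∑ i ∈ range N, v i * w i + (∑ i ∈ range N, v i) * ∑ i ∈ range N, w i

theorem L_ac {N : ℕ} {a : ℕ → R} (h : Rels N a) (v w : ℕ → ℤ) :
    L N a v * L N a w + L N a w * L N a v = ((-2 * bil N v w : ℤ) : R) := by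
  have h1 : L N a v * L N a w + L N a w * L N a v =
      ∑ i ∈ range N, ∑ j ∈ range N, (v i * w j) • (a i * a j + a j * a i) := by
    unfold L
    rw [sum_mul_sum, sum_mul_sum, sum_comm (s := range N) (t := range N) (f := fun i j => w i • a i * v j • a j),
      ← sum_add_distrib]
    refine sum_congr rfl fun i _ => ?_
    rw [← sum_add_distrib]
    refine sum_congr rfl fun j _ => ?_
    rw [smul_mul_assoc, mul_smul_comm, smul_mul_assoc, mul_smul_comm, smul_smul, smul_smul, smul_add, mul_comm (w j)]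
  have h2 : ∀ i ∈ range N, ∀ j ∈ range N, (v i * w j) • (a i * a j + a j * a i) =
      ((-2 * (v i * w j) - 4 * (if i = j then v i * w j else 0) : ℤ) : R) := by
    intro i hi j hj
    rw [mem_range] at hi hj
    by_cases hij : i = j
    · subst hij
      rw [h.sq i hi, if_pos rfl, zsmul_eq_mul]
      push_cast
      norm_num
      noncomm_ring
    · rw [h.ac i hi j hj hij, if_neg hij, zsmul_eq_mul]
      push_cast
      noncomm_ring
  rw [h1, sum_congr rfl fun i hi => sum_congr rfl fun j hj => h2 i hi j hj]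
  have h3 : ∑ i ∈ range N, ∑ j ∈ range N, (-2 * (v i * w j) - 4 * (if i = j then v i * w j else 0) : ℤ) =
      -2 * bil N v w := by
    have e1 : ∀ i ∈ range N, ∑ j ∈ range N, (-2 * (v i * w j) - 4 * (if i = j then v i * w j else 0) : ℤ) =
        -2 * (v i * ∑ j ∈ range N, w j) - 4 * (v i * w i) := by
      intro i hi
      rw [sum_sub_distrib, ← mul_sum, ← mul_sum, ← mul_sum, sum_ite_eq, if_pos hi]
    rw [sum_congr rfl e1, sum_sub_distrib, ← mul_sum, ← mul_sum, ← sum_mul, bil]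
    ring
  rw [← h3]
  push_cast
  rfl

theorem two_cancel (h2 : (2 : F) ≠ 0) {x y : R} (h : x + x = y + y) : x = y := by
  have h1 : (2 : F) • x = (2 : F) • y := by rw [two_smul, two_smul, h]
  have h3 := congrArg (fun z => (2 : F)⁻¹ • z) h1
  simp only [smul_smul, inv_mul_cancel₀ h2, one_smul] at h3
  exact h3

theorem L_sq {N : ℕ} {a : ℕ → R} (h : Rels N a) (h2 : (2 : F) ≠ 0) (v : ℕ → ℤ) :
    L N a v * L N a v = ((-bil N v v : ℤ) : R) := by
  apply two_cancel h2
  rw [L_ac h]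
  push_cast
  noncomm_ring

theorem L_anti {N : ℕ} {a : ℕ → R} (h : Rels N a) {v w : ℕ → ℤ} (h0 : bil N v w = 0) :
    L N a v * L N a w = -(L N a w * L N a v) := by
  have := L_ac h v w
  rw [h0] at this
  push_cast at this
  exact eq_neg_of_add_eq_zero_left this

/-- the six orthogonal vectors -/
def vb : ℕ → ℕ → ℤ
  | 0 => fun | 0 => 1 | 1 => -1 | _ => 0
  | 1 => fun | 2 => 1 | 3 => -1 | _ => 0
  | 2 => fun | 4 => 1 | 5 => -1 | _ => 0
  | 3 => fun | 0 => 1 | 1 => 1 | _ => 0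
  | 4 => fun | 2 => -1 | 3 => -1 | 4 => 1 | 5 => 1 | _ => 0
  | 5 => fun | 0 => -1 | 1 => -1 | 2 => 1 | 3 => 1 | 4 => 1 | 5 => 1 | _ => 0
  | _ => fun _ => 0

/-- their squares -/
def sb : ℕ → ℤ
  | 0 => -4
  | 1 => -4
  | 2 => -4
  | 3 => -8
  | 4 => -8
  | 5 => -16
  | _ => 0

theorem bil_vb : ∀ i < 6, ∀ j < 6, i ≠ j → bil 6 (vb i) (vb j) = 0 := by decide

theorem bil_sb : ∀ i < 6, -bil 6 (vb i) (vb i) = sb i := by decide

/-- the orthogonal basis -/
def bb (a : ℕ → R) (j : ℕ) : R := L 6 a (vb j)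

theorem bb_anti {a : ℕ → R} (h : Rels 6 a) : ∀ i < 6, ∀ j < 6, i ≠ j → bb a i * bb a j = -(bb a j * bb a i) :=
  fun i hi j hj hij => L_anti h (bil_vb i hi j hj hij)

theorem bb_sq {a : ℕ → R} (h : Rels 6 a) (h2 : (2 : F) ≠ 0) : ∀ i < 6, bb a i * bb a i = ((sb i : ℤ) : R) :=
  fun i hi => by rw [bb, L_sq h h2, bil_sb i hi]

/-- the six first generators in terms of the basis -/
theorem bb_gen (a : ℕ → R) :
    2 • a 0 = bb a 0 + bb a 3 ∧ 2 • a 1 = bb a 3 - bb a 0 ∧
    4 • a 2 = bb a 5 + bb a 3 - bb a 4 + 2 • bb a 1 ∧ 4 • a 3 = bb a 5 + bb a 3 - bb a 4 - 2 • bb a 1 ∧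
    4 • a 4 = bb a 5 + bb a 3 + bb a 4 + 2 • bb a 2 ∧ 4 • a 5 = bb a 5 + bb a 3 + bb a 4 - 2 • bb a 2 := by
  simp only [bb, L, vb, sum_range_succ, sum_range_zero, zero_add, zero_smul, add_zero, one_smul, neg_smul]
  refine ⟨?_, ?_, ?_, ?_, ?_, ?_⟩ <;> abel

end Rels

section Wp

variable {F : Type u} [Field F] {R : Type v} [Ring R] [Algebra F R] {K : Subfield F}

/-- products -/
def Wp (c : ℕ → R) : ℕ → R
  | 0 => 1
  | k + 1 => Wp c k * c k

theorem Wp_mem (K : Subfield F) (c : ℕ → R) (k : ℕ) : Wp c k ∈ El K c k (Nat.bodd k) := by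
  induction k with
  | zero => exact El.one_mem c 0
  | succ k ih =>
    refine ⟨0, El.zero_mem c k _, Wp c k, ?_, by rw [zero_add]; rfl⟩
    rw [Nat.bodd_succ, Bool.not_not]
    exact ih

theorem sg_not (b : Bool) : sg F (!b) = -sg F b := by
  cases b
  · rfl
  · exact (neg_neg _).symm

theorem sg_mul_self (b : Bool) : sg F b * sg F b = 1 := by
  cases b
  · exact one_mul 1
  · change (-1 : F) * -1 = 1; norm_num

theorem Wp_inner {c : ℕ → R} {n : ℕ} (hc : ∀ i < n, ∀ j < n, i ≠ j → c i * c j = -(c j * c i)) {k : ℕ} (hk : k ≤ n)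
    {j : ℕ} (hj : j < k) : c j * Wp c k = sg F (!Nat.bodd k) • (Wp c k * c j) := by
  induction k with
  | zero => omega
  | succ k ih =>
    rcases Nat.lt_succ_iff_lt_or_eq.1 hj with h | h
    · change c j * (Wp c k * c k) = _ • (Wp c k * c k * c j)
      rw [← mul_assoc, ih (by omega) h, smul_mul_assoc, mul_assoc, hc j (by omega) k (by omega) (by omega), mul_neg,
        smul_neg, ← neg_smul, Nat.bodd_succ, Bool.not_not, sg_not, neg_neg, mul_assoc]
    · rw [h]
      change c k * (Wp c k * c k) = _ • (Wp c k * c k * c k)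
      have hd : ∀ i < k, c k * c i = -(c i * c k) := fun i hi => hc k (by omega) i (by omega) (by omega)
      rw [← mul_assoc, El.comm hd (Wp_mem (F := F) ⊥ c k), smul_mul_assoc, Nat.bodd_succ, Bool.not_not]

theorem Wp_outer {c : ℕ → R} {k : ℕ} {d : R} (hd : ∀ j < k, d * c j = -(c j * d)) :
    d * Wp c k = sg F (Nat.bodd k) • (Wp c k * d) := El.comm hd (Wp_mem (F := F) ⊥ c k)

theorem Wp_sq {c : ℕ → R} {n : ℕ} (hc : ∀ i < n, ∀ j < n, i ≠ j → c i * c j = -(c j * c i)) {s : ℕ → F}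
    (hs : ∀ i < n, c i * c i = algebraMap F R (s i)) {k : ℕ} (hk : k < n) {q : F}
    (hq : Wp c k * Wp c k = algebraMap F R q) :
    Wp c (k + 1) * Wp c (k + 1) = algebraMap F R (sg F (Nat.bodd k) * q * s k) := by
  have hd : ∀ i < k, c k * c i = -(c i * c k) := fun i hi => hc k (by omega) i (by omega) (by omega)
  have h1 := Wp_outer (F := F) hd
  calc Wp c (k + 1) * Wp c (k + 1) = Wp c k * (c k * Wp c k) * c k := by
        change Wp c k * c k * (Wp c k * c k) = _
        simp only [mul_assoc]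
    _ = sg F (Nat.bodd k) • (Wp c k * Wp c k * (c k * c k)) := by
        rw [h1, mul_smul_comm, smul_mul_assoc]
        simp only [mul_assoc]
    _ = _ := by
        rw [hq, hs k hk, ← map_mul, Algebra.smul_def, ← map_mul, mul_assoc]

end Wp

end Cfsg.Agent.H825.Spin
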