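import Cfsg.Agent.H825.SpinTrace

/-!
# Double covers of alternating groups (helper825)
-/

set_option autoImplicit false
set_option linter.unusedSectionVars false

namespace Cfsg.Agent.H825.Spin

open Module Equiv

universe u v w t

variable {P : Type w} [Group P] {α : Type v} [Fintype α] [DecidableEq α] {π : P →* Perm α} {z : P}

/-- `P` is a central extension of `Alt α` by `⟨z⟩` -/
structure Dc (π : P →* Perm α) (z : P) : Prop where
  zz : z * z = 1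
  zc : ∀ x, z * x = x * z
  pz : π z = 1
  ker : ∀ x, π x = 1 → x = 1 ∨ x = z
  surj : ∀ c, Perm.sign c = 1 → ∃ x, π x = c

theorem Dc.eq_or (D : Dc π z) {x y : P} (h : π x = π y) : y = x ∨ y = z * x := by
  rcases D.ker (y * x⁻¹) (by rw [map_mul, map_inv, ← h, mul_inv_cancel]) with h1 | h1
  · left; rwa [mul_inv_eq_one] at h1
  · right; rwa [mul_inv_eq_iff_eq_mul] at h1

theorem Dc.uniq (D : Dc π z) {x y : P} (hx : x * x * x = 1) (hy : y * y * y = 1) (h : π x = π y) : x = y := by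
  rcases D.eq_or h with h1 | h1
  · exact h1.symm
  · have h2 : y * y * y = z * z * z * (x * x * x) := by
      rw [h1]
      have e : ∀ w, x * (z * w) = z * (x * w) := fun w => by rw [← mul_assoc, ← D.zc, mul_assoc]
      simp only [mul_assoc]
      rw [e, e, e]
    rw [hx, hy, D.zz, one_mul, mul_one] at h2
    rw [h1, ← h2, one_mul]

theorem Dc.exists_lift (D : Dc π z) {c : Perm α} (hc : c * c * c = 1) (hs : Perm.sign c = 1) :
    ∃ x, π x = c ∧ x * x * x = 1 := by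
  obtain ⟨x, hx⟩ := D.surj c hs
  rcases D.ker (x * x * x) (by rw [map_mul, map_mul, hx, hc]) with h | h
  · exact ⟨x, hx, h⟩
  · refine ⟨z * x, by rw [map_mul, D.pz, one_mul, hx], ?_⟩
    have e : ∀ w, x * (z * w) = z * (x * w) := fun w => by rw [← mul_assoc, ← D.zc, mul_assoc]
    have h2 : z * x * (z * x) * (z * x) = z * z * z * (x * x * x) := by
      simp only [mul_assoc]
      rw [e, e, e]
    rw [h2, D.zz, one_mul, h, D.zz]

theorem Dc.conj (D : Dc π z) {x y : P} (g : P) (hx : x * x * x = 1) (hy : y * y * y = 1)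
    (h : π g * π x * (π g)⁻¹ = π y) : g * x * g⁻¹ = y := by
  apply D.uniq _ hy
  · rw [map_mul, map_mul, map_inv, h]
  · have : g * x * g⁻¹ * (g * x * g⁻¹) * (g * x * g⁻¹) = g * (x * x * x) * g⁻¹ := by group
    rw [this, hx, mul_one, mul_inv_cancel]

theorem Dc.commute (D : Dc π z) {x g : P} (hx : x * x * x = 1) (h : π g * π x = π x * π g) : Commute g x := by
  have h1 := D.conj (x := x) (y := x) g hx hx (by rw [h, mul_inv_cancel_right])
  exact mul_inv_eq_iff_eq_mul.1 h1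

theorem inv_cube {x : P} (hx : x * x * x = 1) : x⁻¹ * x⁻¹ * x⁻¹ = 1 := by
  rw [← mul_inv_rev, ← mul_inv_rev, ← mul_assoc, hx, inv_one]

theorem Uni.conj {x y : P} (h : Uni z x y) (hz : ∀ x, z * x = x * z) (g : P) :
    Uni z (g * x * g⁻¹) (g * y * g⁻¹) := by
  obtain ⟨u, h1, h2⟩ := h.ex
  obtain ⟨v, h3, h4⟩ := h.ey
  have zg : ∀ w, g * (z * w) * g⁻¹ = z * (g * w * g⁻¹) := fun w => by
    rw [← mul_assoc g z, ← hz]; simp only [mul_assoc]
  refine ⟨?_, ?_, ?_, ⟨g * u * g⁻¹, ?_, ?_⟩, ⟨g * v * g⁻¹, ?_, ?_⟩⟩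
  · have : g * x * g⁻¹ * (g * x * g⁻¹) = g * (x * x) * g⁻¹ := by group
    rw [this, h.xx, mul_one, mul_inv_cancel]
  · have : g * y * g⁻¹ * (g * y * g⁻¹) = g * (y * y) * g⁻¹ := by group
    rw [this, h.yy, mul_one, mul_inv_cancel]
  · have h5 : g * x * g⁻¹ * (g * y * g⁻¹) = g * (x * y) * g⁻¹ := by group
    have h6 : g * y * g⁻¹ * (g * x * g⁻¹) = g * (y * x) * g⁻¹ := by group
    rw [h5, h6, h.comm]
  · have : g * u * g⁻¹ * (g * x * g⁻¹) * (g * u * g⁻¹)⁻¹ = g * (u * x * u⁻¹) * g⁻¹ := by group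
    rw [this, h1]
  · have : g * u * g⁻¹ * (g * y * g⁻¹) * (g * u * g⁻¹)⁻¹ = g * (u * y * u⁻¹) * g⁻¹ := by group
    rw [this, h2, zg]
  · have : g * v * g⁻¹ * (g * x * g⁻¹) * (g * v * g⁻¹)⁻¹ = g * (v * x * v⁻¹) * g⁻¹ := by group
    rw [this, h3, zg]
  · have : g * v * g⁻¹ * (g * y * g⁻¹) * (g * v * g⁻¹)⁻¹ = g * (v * y * v⁻¹) * g⁻¹ := by group
    rw [this, h4]

theorem Uni.symm {x y : P} (h : Uni z x y) : Uni z y x :=
  ⟨h.yy, h.xx, h.comm.symm, by obtain ⟨v, h1, h2⟩ := h.ey; exact ⟨v, h2, h1⟩,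
    by obtain ⟨v, h1, h2⟩ := h.ex; exact ⟨v, h2, h1⟩⟩

theorem Uni.neg {x y : P} (h : Uni z x y) (zz : z * z = 1) (hz : ∀ x, z * x = x * z) : Uni z (z * x) y := by
  obtain ⟨u, h1, h2⟩ := h.ex
  obtain ⟨v, h3, h4⟩ := h.ey
  have zg : ∀ g w : P, g * (z * w) * g⁻¹ = z * (g * w * g⁻¹) := fun g w => by
    rw [← mul_assoc g z, ← hz]; simp only [mul_assoc]
  refine ⟨?_, h.yy, ?_, ⟨u, ?_, h2⟩, ⟨v, ?_, h4⟩⟩
  · rw [mul_assoc, ← mul_assoc x, ← hz, mul_assoc z x, h.xx, mul_one, zz]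
  · rw [mul_assoc, h.comm, ← mul_assoc, hz, mul_assoc]
  · rw [zg, h1]
  · rw [zg, h3]

theorem Uni.of_eq_or {x y x' y' : P} (h : Uni z x y) (zz : z * z = 1) (hz : ∀ x, z * x = x * z)
    (hx : x' = x ∨ x' = z * x) (hy : y' = y ∨ y' = z * y) : Uni z x' y' := by
  have h1 : Uni z x' y := by
    rcases hx with rfl | rfl
    · exact h
    · exact h.neg zz hz
  rcases hy with rfl | rfl
  · exact h1
  · exact (h1.symm.neg zz hz).symm

/-- the permutations `(012)`, `(013)`, `(456)`, `(457)` -/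
def c0 : Perm (Fin 8) := swap 0 1 * swap 1 2
def d0 : Perm (Fin 8) := swap 0 1 * swap 1 3
def c4 : Perm (Fin 8) := swap 4 5 * swap 5 6
def d4 : Perm (Fin 8) := swap 4 5 * swap 5 7
def s0 : Perm (Fin 8) := swap 0 4 * swap 1 5 * swap 2 6 * swap 3 7
def g2 : Perm (Fin 8) := swap 1 4 * swap 3 6
def g3 : Perm (Fin 8) := swap 1 5 * swap 3 7
def g4 : Perm (Fin 8) := swap 0 1 * swap 3 4
def g5 : Perm (Fin 8) := swap 0 1 * swap 3 7

theorem p1 : s0 * c0 * s0⁻¹ = c4 := by decide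
theorem p2 : s0 * d0 * s0⁻¹ = d4 := by decide
theorem p3 : s0 * c4 * s0⁻¹ = c0 := by decide
theorem p4 : s0 * d4 * s0⁻¹ = d0 := by decide
theorem p5 : c0 * c0 * c0 = 1 := by decide
theorem p6 : c0 * c4 = c4 * c0 := by decide
theorem p7 : c0 * d4 = d4 * c0 := by decide
theorem p8 : d0 * c4 = c4 * d0 := by decide
theorem p9 : d0 * d4 = d4 * d0 := by decide
theorem p10 : g4 * c0 * g4⁻¹ = c0⁻¹ := by decide
theorem p11 : g5 * c0 * g5⁻¹ = c0⁻¹ := by decide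
theorem p12 : g5 * c4 * g5⁻¹ = c4 := by decide
theorem p13 : g2 * (c0 * d0 * (c4 * d4)) * g2⁻¹ = c0 * d0 * (c4 * d4) := by decide
theorem p14 : g2 * (c0⁻¹ * d0 * c0⁻¹ * (c4⁻¹ * d4 * c4⁻¹)) * g2⁻¹ = s0 := by decide
theorem p15 : g3 * (c0 * d0 * (c4 * d4)) * g3⁻¹ = c0 * d0 * (c4 * d4) := by decide
theorem p16 : g3 * (c0⁻¹ * d0 * c0⁻¹ * (c4⁻¹ * d4 * c4⁻¹)) * g3⁻¹ = c0⁻¹ * d0 * c0⁻¹ * (c4⁻¹ * d4 * c4⁻¹) * s0 := by
  decide
theorem p17 : Perm.sign s0 = 1 := by decide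
theorem p18 : Perm.sign g2 = 1 := by decide
theorem p19 : Perm.sign g3 = 1 := by decide
theorem p20 : Perm.sign g4 = 1 := by decide
theorem p21 : Perm.sign g5 = 1 := by decide
theorem p22 : Perm.sign c0 = 1 := by decide

/-- the lifts of `(012)`, `(013)` generate `SL_2(3)` -/
def Dbl (π : P →* Perm α) (f : Perm (Fin 8) →* Perm α) (z : P) : Prop :=
  ∀ (g : Perm (Fin 8)) (x y : P), x * x * x = 1 → y * y * y = 1 → π x = f (g * c0 * g⁻¹) → π y = f (g * d0 * g⁻¹) →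
    x * y * (x * y) = z

theorem exists_cfg (D : Dc π z) {f : Perm (Fin 8) →* Perm α} (hf : ∀ g, Perm.sign (f g) = Perm.sign g)
    (B : Dbl π f z) {a b c d : P} (ha : π a = f c0) (hb : π b = f d0) (hc : π c = f c4) (hd : π d = f d4)
    (ha3 : a * a * a = 1) (hb3 : b * b * b = 1) (hc3 : c * c * c = 1) (hd3 : d * d * d = 1) :
    ∃ σ, Cfg z a b c d σ := by
  obtain ⟨σ, hσ⟩ := D.surj (f s0) (by rw [hf, p17])
  obtain ⟨u2, hu2⟩ := D.surj (f g2) (by rw [hf, p18])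
  obtain ⟨u3, hu3⟩ := D.surj (f g3) (by rw [hf, p19])
  obtain ⟨u4, hu4⟩ := D.surj (f g4) (by rw [hf, p20])
  obtain ⟨u5, hu5⟩ := D.surj (f g5) (by rw [hf, p21])
  have hP : Pre z a b c d := by
    refine ⟨⟨D.zz, D.zc, ha3, hb3, ?_⟩, ⟨D.zz, D.zc, hc3, hd3, ?_⟩, ?_, ?_, ?_, ?_⟩
    · exact B 1 a b ha3 hb3 (by rw [one_mul, inv_one, mul_one, ha]) (by rw [one_mul, inv_one, mul_one, hb])
    · exact B s0 c d hc3 hd3 (by rw [p1, hc]) (by rw [p2, hd])
    · exact D.commute hc3 (by rw [ha, hc, ← map_mul, ← map_mul, p6])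
    · exact D.commute hd3 (by rw [ha, hd, ← map_mul, ← map_mul, p7])
    · exact D.commute hc3 (by rw [hb, hc, ← map_mul, ← map_mul, p8])
    · exact D.commute hd3 (by rw [hb, hd, ← map_mul, ← map_mul, p9])
  have e1 : π (a * b * (c * d)) = f (c0 * d0 * (c4 * d4)) := by
    rw [map_mul, map_mul, map_mul, ha, hb, hc, hd]; simp only [map_mul]
  have e2 : π (a⁻¹ * b * a⁻¹ * (c⁻¹ * d * c⁻¹)) = f (c0⁻¹ * d0 * c0⁻¹ * (c4⁻¹ * d4 * c4⁻¹)) := by
    simp only [map_mul, map_inv, ha, hb, hc, hd]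
  refine ⟨σ, hP, ?_, ?_, ?_, ?_, ?_, ?_, ⟨u4, ?_⟩, ⟨u5, ?_, ?_⟩⟩
  · exact D.conj σ ha3 hc3 (by rw [hσ, ha, hc, ← map_inv, ← map_mul, ← map_mul, p1])
  · exact D.conj σ hb3 hd3 (by rw [hσ, hb, hd, ← map_inv, ← map_mul, ← map_mul, p2])
  · exact D.conj σ hc3 ha3 (by rw [hσ, ha, hc, ← map_inv, ← map_mul, ← map_mul, p3])
  · exact D.conj σ hd3 hb3 (by rw [hσ, hb, hd, ← map_inv, ← map_mul, ← map_mul, p4])
  · apply (hP.uni.conj D.zc u2).of_eq_or D.zz D.zc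
    · apply D.eq_or
      rw [map_mul π, map_mul π, map_inv π, hu2, e1, ← map_inv, ← map_mul, ← map_mul, p13]
    · apply D.eq_or
      rw [map_mul π, map_mul π, map_inv π, hu2, e2, ← map_inv, ← map_mul, ← map_mul, p14, hσ]
  · apply (hP.uni.conj D.zc u3).of_eq_or D.zz D.zc
    · apply D.eq_or
      rw [map_mul π, map_mul π, map_inv π, hu3, e1, ← map_inv, ← map_mul, ← map_mul, p15]
    · apply D.eq_or
      rw [map_mul π, map_mul π, map_inv π, hu3, map_mul π _ σ, e2, ← map_inv, ← map_mul, ← map_mul, p16, hσ, map_mul]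
  · exact D.conj u4 ha3 (inv_cube ha3) (by rw [hu4, ha, map_inv, ha, ← map_inv, ← map_inv, ← map_mul, ← map_mul, p10])
  · exact D.conj u5 ha3 (inv_cube ha3) (by rw [hu5, ha, map_inv, ha, ← map_inv, ← map_inv, ← map_mul, ← map_mul, p11])
  · exact D.conj u5 hc3 hc3 (by rw [hu5, hc, ← map_inv, ← map_mul, ← map_mul, p12])

def t0 : Perm (Fin 8) := swap 4 5

theorem q1 : t0 * c0 * t0⁻¹ = c0 := by decide
theorem q2 : t0 * d0 * t0⁻¹ = d0 := by decide
theorem q3 : t0 * c4⁻¹ * t0⁻¹ = c4 := by decide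
theorem q4 : t0 * d4⁻¹ * t0⁻¹ = d4 := by decide
theorem q5 : c4 * c4 * c4 = 1 := by decide
theorem q6 : d0 * d0 * d0 = 1 := by decide
theorem q7 : d4 * d4 * d4 = 1 := by decide
theorem q8 : Perm.sign d0 = 1 := by decide
theorem q9 : Perm.sign c4 = 1 := by decide
theorem q10 : Perm.sign d4 = 1 := by decide

/-- the twist by a transposition -/
theorem Dc.twist (D : Dc π z) (τ : Perm α) : Dc ((MulAut.conj τ).toMonoidHom.comp π) z := by
  refine ⟨D.zz, D.zc, ?_, ?_, ?_⟩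
  · rw [MonoidHom.comp_apply, D.pz, map_one]
  · intro x hx
    apply D.ker
    rw [MonoidHom.comp_apply] at hx
    exact (MulEquiv.map_eq_one_iff (MulAut.conj τ)).1 hx
  · intro c hc
    obtain ⟨x, hx⟩ := D.surj (τ⁻¹ * c * τ) (by
      rw [map_mul, map_mul, map_inv, hc, mul_one, inv_mul_cancel])
    refine ⟨x, ?_⟩
    rw [MonoidHom.comp_apply, hx]
    change τ * (τ⁻¹ * c * τ) * τ⁻¹ = c
    group

section rep

variable {F : Type u} [Field F] {V : Type t} [AddCommGroup V] [Module F V] [FiniteDimensional F V]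
variable {ρ : P →* Module.End F V}

/-- **Main result of this part**: degree `8`, and `y² + y + 1 = 0` for the lift of order three of a 3-cycle. -/
theorem main (D : Dc π z) {f : Perm (Fin 8) →* Perm α} (hf : ∀ g, Perm.sign (f g) = Perm.sign g)
    (B : Dbl π f z) (hz : ρ z = -1) (h2 : (2 : F) ≠ 0) (hn0 : finrank F V ≠ 0) (hn : finrank F V ≤ 12) :
    finrank F V = 8 ∧ ∀ a, a * a * a = 1 → π a = f c0 → ρ a * ρ a + ρ a + 1 = 0 := by
  obtain ⟨b, hb, hb3⟩ := D.exists_lift (c := f d0) (by rw [← map_mul, ← map_mul, q6, map_one]) (by rw [hf, q8])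
  obtain ⟨c, hc, hc3⟩ := D.exists_lift (c := f c4) (by rw [← map_mul, ← map_mul, q5, map_one]) (by rw [hf, q9])
  obtain ⟨d, hd, hd3⟩ := D.exists_lift (c := f d4) (by rw [← map_mul, ← map_mul, q7, map_one]) (by rw [hf, q10])
  obtain ⟨a, ha, ha3⟩ := D.exists_lift (c := f c0) (by rw [← map_mul, ← map_mul, p5, map_one]) (by rw [hf, p22])
  obtain ⟨σ, h⟩ := exists_cfg D hf B ha hb hc hd ha3 hb3 hc3 hd3
  have hdim := (hdim (ρ := ρ) h hz h2).1
  have h8 : finrank F V = 8 := by omega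
  refine ⟨h8, ?_⟩
  intro a' ha3' ha'
  have haa : a' = a := D.uniq ha3' ha3 (by rw [ha', ha])
  rw [haa]
  -- the twisted configuration
  let π' : P →* Perm α := (MulAut.conj (f t0)).toMonoidHom.comp π
  have hπ' : ∀ x, π' x = f t0 * π x * (f t0)⁻¹ := fun x => rfl
  have D' : Dc π' z := D.twist (f t0)
  have B' : Dbl π' f z := by
    intro g x y hx hy h1 h3
    apply B (t0⁻¹ * g) x y hx hy
    · rw [hπ'] at h1
      have : π x = (f t0)⁻¹ * f (g * c0 * g⁻¹) * f t0 := by rw [← h1]; group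
      have e : t0⁻¹ * (g * c0 * g⁻¹) * t0 = t0⁻¹ * g * c0 * (t0⁻¹ * g)⁻¹ := by group
      rw [this, ← map_inv, ← map_mul, ← map_mul, e]
    · rw [hπ'] at h3
      have : π y = (f t0)⁻¹ * f (g * d0 * g⁻¹) * f t0 := by rw [← h3]; group
      have e : t0⁻¹ * (g * d0 * g⁻¹) * t0 = t0⁻¹ * g * d0 * (t0⁻¹ * g)⁻¹ := by group
      rw [this, ← map_inv, ← map_mul, ← map_mul, e]
  obtain ⟨σ', h'⟩ := exists_cfg D' hf B' (a := a) (b := b) (c := c⁻¹) (d := d⁻¹)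
    (by rw [hπ', ha, ← map_inv, ← map_mul, ← map_mul, q1]) (by rw [hπ', hb, ← map_inv, ← map_mul, ← map_mul, q2])
    (by rw [hπ', map_inv π, hc, ← map_inv, ← map_inv, ← map_mul, ← map_mul, q3])
    (by rw [hπ', map_inv π, hd, ← map_inv, ← map_inv, ← map_mul, ← map_mul, q4]) ha3 hb3 (inv_cube hc3) (inv_cube hd3)
  exact final h h' hz h2 h8

end rep

end Cfsg.Agent.H825.Spin
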