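import Mathlib

/-!
# Dimensions of joint eigenspaces (helper825)

`ρ : P →* End V`, `z ∈ P` central with `ρ z = -1`, characteristic `≠ 2`.
-/

set_option autoImplicit false

namespace Cfsg.Agent.H825.Spin

open Module

universe u v w

variable {F : Type u} [Field F] {V : Type v} [AddCommGroup V] [Module F V]
variable {P : Type w} [Group P] {ρ : P →* Module.End F V}

/-- eigenspace -/
def E (ρ : P →* Module.End F V) (x : P) (e : F) : Submodule F V := Module.End.eigenspace (ρ x) e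

theorem mem_E {x : P} {e : F} {v : V} : v ∈ E ρ x e ↔ ρ x v = e • v := Module.End.mem_eigenspace_iff

theorem rho_mul (x y : P) (v : V) : ρ (x * y) v = ρ x (ρ y v) := by rw [map_mul]; rfl

theorem rho_inv (x : P) (v : V) : ρ x⁻¹ (ρ x v) = v := by rw [← rho_mul, inv_mul_cancel, map_one]; rfl

theorem rho_inv' (x : P) (v : V) : ρ x (ρ x⁻¹ v) = v := by rw [← rho_mul, mul_inv_cancel, map_one]; rfl

/-- the linear equivalence -/
def eqv (ρ : P →* Module.End F V) (x : P) : V ≃ₗ[F] V :=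
  LinearEquiv.ofLinear (ρ x) (ρ x⁻¹) (LinearMap.ext fun v => rho_inv' x v) (LinearMap.ext fun v => rho_inv x v)

theorem eqv_apply (x : P) (v : V) : eqv ρ x v = ρ x v := rfl

theorem mem_conj {u x : P} {e : F} {v : V} : ρ u v ∈ E ρ (u * x * u⁻¹) e ↔ v ∈ E ρ x e := by
  rw [mem_E, mem_E, rho_mul, rho_mul, rho_inv]
  constructor
  · intro h
    have := congrArg (ρ u⁻¹) h
    rwa [rho_inv, map_smul, rho_inv] at this
  · intro h
    rw [h, map_smul]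

theorem finrank_eq_of {U W : Submodule F V} (u : P) (h : ∀ v, v ∈ U ↔ ρ u v ∈ W) : finrank F U = finrank F W := by
  have h1 : U.map (eqv ρ u : V →ₗ[F] V) = W := by
    ext w
    rw [Submodule.mem_map]
    constructor
    · rintro ⟨v, hv, rfl⟩
      exact (h v).1 hv
    · intro hw
      refine ⟨ρ u⁻¹ w, (h _).2 ?_, rho_inv' u w⟩
      rwa [rho_inv']
  rw [← h1]
  exact (LinearEquiv.finrank_map_eq (eqv ρ u) U).symm

theorem disj (h2 : (2 : F) ≠ 0) (x : P) {v : V} (h1 : v ∈ E ρ x 1) (h3 : v ∈ E ρ x (-1)) : v = 0 := by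
  rw [mem_E] at h1 h3
  rw [h1, one_smul, neg_one_smul] at h3
  have : (2 : F) • v = 0 := by rw [two_smul]; nth_rewrite 1 [h3]; exact neg_add_cancel v
  exact (smul_eq_zero.1 this).resolve_left h2

variable [FiniteDimensional F V]

/-- splitting an invariant subspace -/
theorem split (h2 : (2 : F) ≠ 0) {x : P} (hx : x * x = 1) {U : Submodule F V} (hU : ∀ v ∈ U, ρ x v ∈ U) :
    finrank F U = finrank F (U ⊓ E ρ x 1 : Submodule F V) + finrank F (U ⊓ E ρ x (-1) : Submodule F V) := by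
  have hxx : ∀ v, ρ x (ρ x v) = v := by
    intro v
    rw [← rho_mul, hx, map_one]; rfl
  have h1 : (U ⊓ E ρ x 1) ⊔ (U ⊓ E ρ x (-1)) = U := by
    apply le_antisymm
    · exact sup_le inf_le_left inf_le_left
    · intro v hv
      have hv' : v = (2 : F)⁻¹ • (v + ρ x v) + (2 : F)⁻¹ • (v - ρ x v) := by
        rw [← smul_add, add_add_sub_cancel, ← two_smul F v, smul_smul, inv_mul_cancel₀ h2, one_smul]
      rw [hv']
      refine Submodule.add_mem_sup ⟨U.smul_mem _ (U.add_mem hv (hU v hv)), ?_⟩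
        ⟨U.smul_mem _ (U.sub_mem hv (hU v hv)), ?_⟩
      · show _ ∈ E ρ x 1
        rw [mem_E, map_smul, map_add, hxx, one_smul, add_comm]
      · show _ ∈ E ρ x (-1)
        rw [mem_E, map_smul, map_sub, hxx, neg_one_smul, ← smul_neg, neg_sub]
  have h3 : (U ⊓ E ρ x 1) ⊓ (U ⊓ E ρ x (-1)) = ⊥ := by
    rw [eq_bot_iff]
    rintro v ⟨⟨-, ha⟩, -, hb⟩
    exact disj h2 x ha hb
  have h4 := Submodule.finrank_sup_add_finrank_inf_eq (U ⊓ E ρ x 1) (U ⊓ E ρ x (-1))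
  rw [h1, h3, finrank_bot, add_zero] at h4
  exact h4

theorem E_neg {z x : P} (hz : ρ z = -1) (e : F) : E ρ (z * x) e = E ρ x (-e) := by
  ext v
  rw [mem_E, mem_E, rho_mul, hz, LinearMap.neg_apply, neg_eq_iff_eq_neg, ← neg_smul]
  rfl

/-- the pair `x, y` of commuting involutions has four joint eigenspaces of the same dimension -/
structure Uni (z x y : P) : Prop where
  xx : x * x = 1
  yy : y * y = 1
  comm : x * y = y * x
  ex : ∃ u, u * x * u⁻¹ = x ∧ u * y * u⁻¹ = z * y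
  ey : ∃ v, v * x * v⁻¹ = z * x ∧ v * y * v⁻¹ = y

theorem Uni.finrank_eq {z x y : P} (hU : Uni z x y) (hz : ρ z = -1) (h2 : (2 : F) ≠ 0) :
    finrank F V = 2 * finrank F (E ρ x 1) ∧ finrank F (E ρ x 1) = 2 * finrank F (E ρ x 1 ⊓ E ρ y 1 : Submodule F V) ∧
      finrank F (E ρ x 1) = 2 * finrank F (E ρ x 1 ⊓ E ρ y (-1) : Submodule F V) := by
  obtain ⟨v, hv1, hv2⟩ := hU.ey
  obtain ⟨u, hu1, hu2⟩ := hU.ex
  have h1 := split (ρ := ρ) h2 hU.xx (U := ⊤) (fun _ _ => trivial)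
  rw [top_inf_eq, top_inf_eq, finrank_top] at h1
  have h3 : finrank F (E ρ x 1) = finrank F (E ρ x (-1)) := by
    have h4 : ∀ w, w ∈ E ρ x 1 ↔ ρ v w ∈ E ρ x (-1) := by
      intro w
      rw [← mem_conj (u := v), hv1, E_neg hz]
    exact finrank_eq_of v h4
  have h5 := split (ρ := ρ) h2 hU.yy (U := E ρ x 1) (fun w hw => by
    rw [mem_E] at hw ⊢
    rw [← rho_mul, hU.comm, rho_mul, hw, map_smul])
  have h6 : finrank F (E ρ x 1 ⊓ E ρ y 1 : Submodule F V) = finrank F (E ρ x 1 ⊓ E ρ y (-1) : Submodule F V) := by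
    apply finrank_eq_of (ρ := ρ) u
    intro w
    rw [Submodule.mem_inf, Submodule.mem_inf, ← mem_conj (u := u), hu1, ← mem_conj (u := u) (x := y), hu2, E_neg hz]
  exact ⟨by omega, by omega, by omega⟩

/-- the eight joint eigenspaces -/
theorem eight {z x y t : P} (hxy : Uni z x y) (hxt : Uni z x t) (hxyt : Uni z x (y * t)) (hyt : y * t = t * y)
    (hz : ρ z = -1) (h2 : (2 : F) ≠ 0) :
    finrank F V = 8 * finrank F (E ρ x 1 ⊓ E ρ y 1 ⊓ E ρ t 1 : Submodule F V) ∧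
    finrank F V = 8 * finrank F (E ρ x 1 ⊓ E ρ y 1 ⊓ E ρ t (-1) : Submodule F V) := by
  obtain ⟨a1, a2, a3⟩ := hxy.finrank_eq (ρ := ρ) hz h2
  obtain ⟨b1, b2, b3⟩ := hxt.finrank_eq (ρ := ρ) hz h2
  obtain ⟨c1, c2, c3⟩ := hxyt.finrank_eq (ρ := ρ) hz h2
  have hcomm : ∀ {s r : P} (h : s * r = r * s) {e : F} {v : V}, v ∈ E ρ s e → ρ r v ∈ E ρ s e := by
    intro s r h e v hv
    rw [mem_E] at hv ⊢
    rw [← rho_mul, h, rho_mul, hv, map_smul]
  have s1 := split (ρ := ρ) h2 hxt.yy (U := E ρ x 1 ⊓ E ρ y 1) (fun v hv => ⟨hcomm hxt.comm hv.1, hcomm hyt hv.2⟩)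
  have s2 := split (ρ := ρ) h2 hxy.yy (U := E ρ x 1 ⊓ E ρ t 1) (fun v hv => ⟨hcomm hxy.comm hv.1, hcomm hyt.symm hv.2⟩)
  have s3 := split (ρ := ρ) h2 hxy.yy (U := E ρ x 1 ⊓ E ρ (y * t) (-1)) (fun v hv => ⟨hcomm hxy.comm hv.1,
    hcomm (by rw [mul_assoc, hyt]) hv.2⟩)
  have e1 : (E ρ x 1 ⊓ E ρ t 1 ⊓ E ρ y 1 : Submodule F V) = E ρ x 1 ⊓ E ρ y 1 ⊓ E ρ t 1 := by
    rw [inf_assoc, inf_assoc, inf_comm (E ρ t 1)]
  have e2 : (E ρ x 1 ⊓ E ρ (y * t) (-1) ⊓ E ρ y 1 : Submodule F V) = E ρ x 1 ⊓ E ρ y 1 ⊓ E ρ t (-1) := by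
    ext v
    simp only [Submodule.mem_inf]
    constructor
    · rintro ⟨⟨h1, h3⟩, h4⟩
      refine ⟨⟨h1, h4⟩, ?_⟩
      rw [mem_E] at h3 h4 ⊢
      rw [hyt, rho_mul, h4, map_smul, one_smul] at h3
      exact h3
    · rintro ⟨⟨h1, h3⟩, h4⟩
      refine ⟨⟨h1, ?_⟩, h3⟩
      rw [mem_E] at h3 h4 ⊢
      rw [hyt, rho_mul, h3, map_smul, one_smul, h4]
  have e3 : (E ρ x 1 ⊓ E ρ (y * t) (-1) ⊓ E ρ y (-1) : Submodule F V) = E ρ x 1 ⊓ E ρ t 1 ⊓ E ρ y (-1) := by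
    ext v
    simp only [Submodule.mem_inf]
    constructor
    · rintro ⟨⟨h1, h3⟩, h4⟩
      refine ⟨⟨h1, ?_⟩, h4⟩
      rw [mem_E] at h3 h4 ⊢
      rw [hyt, rho_mul, h4, map_smul, neg_one_smul, neg_one_smul, neg_inj] at h3
      rw [h3, one_smul]
    · rintro ⟨⟨h1, h3⟩, h4⟩
      refine ⟨⟨h1, ?_⟩, h4⟩
      rw [mem_E] at h3 h4 ⊢
      rw [hyt, rho_mul, h4, map_smul, h3, one_smul]
  rw [e1] at s2
  rw [e2, e3] at s3
  constructor <;> omega

end Cfsg.Agent.H825.Spin
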