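import Mathlib

/-!
# Even and odd parts of an algebra generated by anticommuting elements (helper825)
-/

set_option autoImplicit false
set_option linter.unusedSectionVars false

namespace Cfsg.Agent.H825.Spin

universe u v w

variable {F : Type u} [Field F] {R : Type v} [Ring R] [Algebra F R] {K : Subfield F}

/-- sign of a parity -/
def sg (F : Type u) [Field F] : Bool → F
  | false => 1
  | true => -1

theorem sg_mem (K : Subfield F) (b : Bool) : sg F b ∈ K := by
  cases b
  · exact K.one_mem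
  · exact K.neg_mem K.one_mem

/-- the part of parity `b` of the `K`-algebra generated by `c 0, …, c (k-1)` -/
def El (K : Subfield F) (c : ℕ → R) : ℕ → Bool → Set R
  | 0, false => {x | ∃ r ∈ K, x = algebraMap F R r}
  | 0, true => {x | x = 0}
  | k + 1, b => {x | ∃ y ∈ El K c k b, ∃ z ∈ El K c k (!b), x = y + z * c k}

theorem El.zero_mem (c : ℕ → R) (k : ℕ) (b : Bool) : (0 : R) ∈ El K c k b := by
  induction k generalizing b with
  | zero =>
    cases b
    · exact ⟨0, K.zero_mem, (map_zero _).symm⟩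
    · exact rfl
  | succ k ih => exact ⟨0, ih b, 0, ih _, by rw [zero_mul, add_zero]⟩

theorem El.algebraMap_mem (c : ℕ → R) (k : ℕ) {r : F} (hr : r ∈ K) : algebraMap F R r ∈ El K c k false := by
  induction k with
  | zero => exact ⟨r, hr, rfl⟩
  | succ k ih => exact ⟨_, ih, 0, El.zero_mem c k _, by rw [zero_mul, add_zero]⟩

theorem El.one_mem (c : ℕ → R) (k : ℕ) : (1 : R) ∈ El K c k false := by
  have := El.algebraMap_mem (R := R) c k K.one_mem
  rwa [map_one] at this

theorem El.add_mem {c : ℕ → R} {k : ℕ} {b : Bool} {x y : R} (hx : x ∈ El K c k b) (hy : y ∈ El K c k b) :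
    x + y ∈ El K c k b := by
  induction k generalizing b x y with
  | zero =>
    cases b
    · obtain ⟨r, hr, rfl⟩ := hx
      obtain ⟨s, hs, rfl⟩ := hy
      exact ⟨r + s, K.add_mem hr hs, (map_add _ _ _).symm⟩
    · have h1 : x = 0 := hx
      have h2 : y = 0 := hy
      change x + y = 0
      rw [h1, h2, add_zero]
  | succ k ih =>
    obtain ⟨x1, h1, x2, h2, rfl⟩ := hx
    obtain ⟨y1, h3, y2, h4, rfl⟩ := hy
    exact ⟨x1 + y1, ih h1 h3, x2 + y2, ih h2 h4, by rw [add_mul]; abel⟩

theorem El.smul_mem {c : ℕ → R} {k : ℕ} {b : Bool} {x : R} {r : F} (hr : r ∈ K) (hx : x ∈ El K c k b) :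
    r • x ∈ El K c k b := by
  induction k generalizing b x with
  | zero =>
    cases b
    · obtain ⟨s, hs, rfl⟩ := hx
      exact ⟨r * s, K.mul_mem hr hs, by rw [map_mul, Algebra.smul_def]⟩
    · have h1 : x = 0 := hx
      change r • x = 0
      rw [h1, smul_zero]
  | succ k ih =>
    obtain ⟨x1, h1, x2, h2, rfl⟩ := hx
    exact ⟨r • x1, ih h1, r • x2, ih h2, by rw [smul_add, smul_mul_assoc]⟩

theorem El.mono {c : ℕ → R} {k : ℕ} {b : Bool} {x : R} (hx : x ∈ El K c k b) : x ∈ El K c (k + 1) b :=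
  ⟨x, hx, 0, El.zero_mem c k _, by rw [zero_mul, add_zero]⟩

theorem El.gen_mem (c : ℕ → R) {k j : ℕ} (hj : j < k) : c j ∈ El K c k true := by
  induction k with
  | zero => omega
  | succ k ih =>
    rcases Nat.lt_succ_iff_lt_or_eq.1 hj with h | h
    · exact El.mono (ih h)
    · rw [h]
      exact ⟨0, El.zero_mem c k _, 1, El.one_mem c k, by rw [one_mul, zero_add]⟩

theorem El.comm {c : ℕ → R} {k : ℕ} {d : R} (hd : ∀ j < k, d * c j = -(c j * d)) {b : Bool} {x : R}
    (hx : x ∈ El K c k b) : d * x = sg F b • (x * d) := by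
  induction k generalizing b x with
  | zero =>
    cases b
    · obtain ⟨s, hs, rfl⟩ := hx
      rw [← Algebra.commutes s d]
      exact (one_smul F _).symm
    · have h1 : x = 0 := hx
      rw [h1, mul_zero, zero_mul, smul_zero]
  | succ k ih =>
    obtain ⟨x1, h1, x2, h2, rfl⟩ := hx
    have e1 := ih (fun j hj => hd j (by omega)) h1
    have e2 := ih (fun j hj => hd j (by omega)) h2
    rw [mul_add, e1, ← mul_assoc, e2, smul_mul_assoc, mul_assoc, hd k (by omega), add_mul, smul_add, mul_neg,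
      smul_neg, ← neg_smul, mul_assoc]
    congr 2
    cases b
    · change -(-1 : F) = 1; norm_num
    · change -(1 : F) = -1; rfl

theorem El.mul_mem {c : ℕ → R} {n : ℕ} (hc : ∀ i < n, ∀ j < n, i ≠ j → c i * c j = -(c j * c i))
    (hs : ∀ i < n, ∃ s ∈ K, c i * c i = algebraMap F R s) {k : ℕ} (hk : k ≤ n) {b b' : Bool} {x y : R}
    (hx : x ∈ El K c k b) (hy : y ∈ El K c k b') : x * y ∈ El K c k (b ^^ b') := by
  induction k generalizing b b' x y with
  | zero =>
    cases b
    · obtain ⟨r, hr, rfl⟩ := hx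
      rw [← Algebra.smul_def, Bool.false_xor]
      exact El.smul_mem hr hy
    · have h1 : x = 0 := hx
      rw [h1, zero_mul]
      exact El.zero_mem _ _ _
  | succ k ih =>
    obtain ⟨x1, h1, x2, h2, rfl⟩ := hx
    obtain ⟨y1, h3, y2, h4, rfl⟩ := hy
    obtain ⟨s, hsK, hcc⟩ := hs k (by omega)
    have hd : ∀ j < k, c k * c j = -(c j * c k) := fun j hj => hc k (by omega) j (by omega) (by omega)
    have e1 := El.comm hd h3
    have e2 := El.comm hd h4
    have ih' : ∀ {b b' : Bool} {x y : R}, x ∈ El K c k b → y ∈ El K c k b' → x * y ∈ El K c k (b ^^ b') :=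
      ih (by omega)
    refine ⟨x1 * y1 + (sg F (!b') * s) • (x2 * y2), ?_, x1 * y2 + sg F b' • (x2 * y1), ?_, ?_⟩
    · refine El.add_mem (ih' h1 h3) (El.smul_mem (K.mul_mem (sg_mem K _) hsK) ?_)
      have := ih' h2 h4
      have e : (!b ^^ !b') = (b ^^ b') := by cases b <;> cases b' <;> rfl
      rwa [e] at this
    · refine El.add_mem ?_ (El.smul_mem (sg_mem K _) ?_)
      · have := ih' h1 h4
        have e : (b ^^ !b') = !(b ^^ b') := by cases b <;> cases b' <;> rfl
        rwa [e] at this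
      · have := ih' h2 h3
        have e : (!b ^^ b') = !(b ^^ b') := by cases b <;> cases b' <;> rfl
        rwa [e] at this
    · have e3 : x2 * c k * y1 = sg F b' • (x2 * y1 * c k) := by
        rw [mul_assoc, e1, mul_smul_comm, mul_assoc]
      have e4 : x2 * c k * (y2 * c k) = (sg F (!b') * s) • (x2 * y2) := by
        calc x2 * c k * (y2 * c k) = x2 * (c k * y2) * c k := by simp only [mul_assoc]
          _ = sg F (!b') • (x2 * y2 * (c k * c k)) := by
            rw [e2, mul_smul_comm, smul_mul_assoc]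
            simp only [mul_assoc]
          _ = (sg F (!b') * s) • (x2 * y2) := by
            rw [hcc, ← Algebra.commutes, ← Algebra.smul_def, smul_smul]
      rw [add_mul, mul_add, mul_add, e3, e4, add_mul, smul_mul_assoc, mul_assoc x1 y2]
      abel

section tau

variable {M : Type w} [AddCommGroup M] [Module F M] (τ : R →ₗ[F] M)

theorem eq_zero_of_neg (h2 : (2 : F) ≠ 0) {m : M} (h : m = -m) : m = 0 := by
  have h1 : (2 : F) • m = 0 := by
    rw [two_smul]
    nth_rewrite 1 [h]
    exact neg_add_cancel m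
  exact (smul_eq_zero.1 h1).resolve_left h2

theorem El.tau (hτ : ∀ x y, τ (x * y) = τ (y * x)) (h2 : (2 : F) ≠ 0) {c : ℕ → R} {n : ℕ}
    (hc : ∀ i < n, ∀ j < n, i ≠ j → c i * c j = -(c j * c i)) {k : ℕ} (hk : k ≤ n) {x : R}
    (hx : x ∈ El K c k false) : ∃ r ∈ K, τ x = r • τ 1 := by
  induction k generalizing x with
  | zero =>
    obtain ⟨r, hr, rfl⟩ := hx
    exact ⟨r, hr, by rw [Algebra.algebraMap_eq_smul_one, map_smul]⟩
  | succ k ih =>
    obtain ⟨x1, h1, x2, h3, rfl⟩ := hx
    obtain ⟨r, hr, h4⟩ := ih (by omega) h1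
    refine ⟨r, hr, ?_⟩
    have hd : ∀ j < k, c k * c j = -(c j * c k) := fun j hj => hc k (by omega) j (by omega) (by omega)
    have e1 := El.comm hd h3
    have e2 : τ (x2 * c k) = 0 := by
      apply eq_zero_of_neg h2
      nth_rewrite 1 [hτ]
      rw [e1, map_smul]
      exact neg_one_smul F _
    rw [map_add, e2, add_zero, h4]

theorem El.tau_odd (hτ : ∀ x y, τ (x * y) = τ (y * x)) (h2 : (2 : F) ≠ 0) {c : ℕ → R} {k : ℕ} {ω ω' : R}
    (hω : ω * ω' = 1) (hω' : ω' * ω = 1) (hd : ∀ j < k, ω * c j = -(c j * ω)) {x : R} (hx : x ∈ El K c k true) :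
    τ x = 0 := by
  have e1 := El.comm hd hx
  have e2 : ω * x = -(x * ω) := by rw [e1]; exact neg_one_smul F _
  have e3 : x * ω = -(ω * x) := by rw [e2, neg_neg]
  apply eq_zero_of_neg h2
  calc τ x = τ (x * ω * ω') := by rw [mul_assoc, hω, mul_one]
    _ = -τ (ω * x * ω') := by rw [e3, neg_mul, map_neg]
    _ = -τ x := by rw [hτ, ← mul_assoc, hω', one_mul]

end tau

end Cfsg.Agent.H825.Spin
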