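import Cfsg.Agent.H825.SpinPair
import Cfsg.Agent.H825.SpinCarm

/-!
# Traces of the spin modules of dimension eight (helper825)
-/

set_option autoImplicit false
set_option linter.unusedSectionVars false

namespace Cfsg.Agent.H825.Spin

open MulOpposite Finset Lib.AltCarmichael

universe u v w

section ring

variable {F : Type u} [Field F] {R : Type v} [Ring R] [Algebra F R] {K : Subfield F}

theorem gens_closed {a : ℕ → R} {T : AddSubgroup R} (hT : ∀ x, 2 • x ∈ T → x ∈ T) (hb : ∀ j < 6, bb a j ∈ T) :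
    ∀ i < 6, a i ∈ T := by
  obtain ⟨h0, h1, h3, h4, h5, h6⟩ := bb_gen a
  have hT4 : ∀ x, 4 • x ∈ T → x ∈ T := by
    intro x hx
    apply hT
    apply hT
    rw [smul_smul]
    exact hx
  have hb2 : ∀ j < 6, 2 • bb a j ∈ T := fun j hj => T.nsmul_mem (hb j hj) 2
  intro i hi
  have hi' : i = 0 ∨ i = 1 ∨ i = 2 ∨ i = 3 ∨ i = 4 ∨ i = 5 := by omega
  rcases hi' with rfl | rfl | rfl | rfl | rfl | rfl
  · apply hT; rw [h0]
    exact T.add_mem (hb 0 (by norm_num)) (hb 3 (by norm_num))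
  · apply hT; rw [h1]
    exact T.sub_mem (hb 3 (by norm_num)) (hb 0 (by norm_num))
  · apply hT4; rw [h3]
    exact T.add_mem (T.sub_mem (T.add_mem (hb 5 (by norm_num)) (hb 3 (by norm_num))) (hb 4 (by norm_num)))
      (hb2 1 (by norm_num))
  · apply hT4; rw [h4]
    exact T.sub_mem (T.sub_mem (T.add_mem (hb 5 (by norm_num)) (hb 3 (by norm_num))) (hb 4 (by norm_num)))
      (hb2 1 (by norm_num))
  · apply hT4; rw [h5]
    exact T.add_mem (T.add_mem (T.add_mem (hb 5 (by norm_num)) (hb 3 (by norm_num))) (hb 4 (by norm_num)))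
      (hb2 2 (by norm_num))
  · apply hT4; rw [h6]
    exact T.sub_mem (T.add_mem (T.add_mem (hb 5 (by norm_num)) (hb 3 (by norm_num))) (hb 4 (by norm_num)))
      (hb2 2 (by norm_num))

/-- elements anticommuting with `w` -/
def antiG (w : R) : AddSubgroup R where
  carrier := {x | w * x = -(x * w)}
  zero_mem' := by
    change w * 0 = -(0 * w)
    rw [mul_zero, zero_mul, neg_zero]
  add_mem' := by
    intro x y hx hy
    have hx' : w * x = -(x * w) := hx
    have hy' : w * y = -(y * w) := hy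
    change w * (x + y) = -((x + y) * w)
    rw [mul_add, hx', hy', add_mul, neg_add]
  neg_mem' := by
    intro x hx
    have hx' : w * x = -(x * w) := hx
    change w * -x = -(-x * w)
    rw [mul_neg, hx', neg_mul]

/-- elements commuting with `w` -/
def commG (w : R) : AddSubgroup R where
  carrier := {x | w * x = x * w}
  zero_mem' := by
    change w * 0 = 0 * w
    rw [mul_zero, zero_mul]
  add_mem' := by
    intro x y hx hy
    have hx' : w * x = x * w := hx
    have hy' : w * y = y * w := hy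
    change w * (x + y) = (x + y) * w
    rw [mul_add, hx', hy', add_mul]
  neg_mem' := by
    intro x hx
    have hx' : w * x = x * w := hx
    change w * -x = -x * w
    rw [mul_neg, hx', neg_mul]

theorem antiG_two (h2 : (2 : F) ≠ 0) (w : R) : ∀ x, 2 • x ∈ antiG w → x ∈ antiG w := by
  intro x hx
  have hx' : w * (2 • x) = -(2 • x * w) := hx
  change w * x = -(x * w)
  apply two_cancel h2
  rw [two_smul, mul_add, add_mul, neg_add] at hx'
  exact hx'

theorem commG_two (h2 : (2 : F) ≠ 0) (w : R) : ∀ x, 2 • x ∈ commG w → x ∈ commG w := by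
  intro x hx
  have hx' : w * (2 • x) = 2 • x * w := hx
  change w * x = x * w
  apply two_cancel h2
  rw [two_smul, mul_add, add_mul] at hx'
  exact hx'

/-- elements whose pair is in the algebra -/
def alG (K : Subfield F) (a : ℕ → R) : AddSubgroup R where
  carrier := {x | pair x ∈ Al K (cc a) 6}
  zero_mem' := by
    change pair (0 : R) ∈ Al K (cc a) 6
    have : pair (0 : R) = (0 : F) • (1 : R × Rᵐᵒᵖ) := by
      rw [zero_smul]
      refine Prod.ext rfl ?_
      change op (-(0 : R)) = 0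
      rw [neg_zero]; rfl
    rw [this]
    exact Al.smul_mem K.zero_mem (Al.one_mem _ _)
  add_mem' := by
    intro x y hx hy
    change pair (x + y) ∈ Al K (cc a) 6
    rw [pair_add]
    exact Al.add_mem hx hy
  neg_mem' := by
    intro x hx
    change pair (-x) ∈ Al K (cc a) 6
    rw [pair_neg]
    exact Al.neg_mem hx

theorem alG_two (h2 : (2 : F) ≠ 0) {a : ℕ → R} : ∀ x, 2 • x ∈ alG K a → x ∈ alG K a := by
  intro x hx
  have hx' : pair (2 • x) ∈ Al K (cc a) 6 := hx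
  have e : x = (2 : F)⁻¹ • 2 • x := by
    rw [← Nat.cast_smul_eq_nsmul F, smul_smul, Nat.cast_ofNat, inv_mul_cancel₀ h2, one_smul]
  change pair x ∈ Al K (cc a) 6
  rw [e, pair_smul]
  exact Al.smul_mem (K.inv_mem (by exact_mod_cast natCast_mem K 2)) hx'

theorem L_mem {T : AddSubgroup R} {a : ℕ → R} {N : ℕ} (h : ∀ i < N, a i ∈ T) (v : ℕ → ℤ) : L N a v ∈ T :=
  T.sum_mem fun i hi => T.zsmul_mem (h i (mem_range.1 hi)) _

theorem omega_anti {a : ℕ → R} (h : Rels 6 a) (h2 : (2 : F) ≠ 0) : ∀ i < 6, a i ∈ antiG (Wp (bb a) 6) := by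
  apply gens_closed (antiG_two h2 _)
  intro j hj
  change _ = _
  have h5 := Wp_inner (F := F) (bb_anti h) le_rfl hj
  have h6 : sg F (!Nat.bodd 6) = -1 := rfl
  rw [h6, neg_one_smul] at h5
  rw [h5, neg_neg]

/-- the product of the six basis vectors and of a seventh anticommuting vector is central -/
theorem omega_comm {a : ℕ → R} (h : Rels 6 a) (h2 : (2 : F) ≠ 0) {d : R} (hd : ∀ i < 6, a i ∈ antiG d) :
    (∀ i < 6, a i ∈ commG (Wp (bb a) 6 * d)) ∧ d ∈ commG (Wp (bb a) 6 * d) ∧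
      ∀ j < 6, d * bb a j = -(bb a j * d) := by
  have hdb : ∀ j < 6, d * bb a j = -(bb a j * d) := fun j _ => L_mem hd (vb j)
  refine ⟨?_, ?_, hdb⟩
  · intro i hi
    have h3 : Wp (bb a) 6 * a i = -(a i * Wp (bb a) 6) := omega_anti h h2 i hi
    have h4 : d * a i = -(a i * d) := hd i hi
    change Wp (bb a) 6 * d * a i = a i * (Wp (bb a) 6 * d)
    rw [mul_assoc, h4, mul_neg, ← mul_assoc, h3, neg_mul, neg_neg, mul_assoc]
  · have h3 := Wp_outer (F := F) hdb
    have h6 : sg F (Nat.bodd 6) = 1 := rfl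
    rw [h6, one_smul] at h3
    change Wp (bb a) 6 * d * d = d * (Wp (bb a) 6 * d)
    rw [← mul_assoc, h3]

/-- basis vectors -/
def eb (i : ℕ) : ℕ → ℤ := fun j => if j = i then 1 else 0

theorem L_eb {N : ℕ} (a : ℕ → R) {i : ℕ} (hi : i < N) : L N a (eb i) = a i := by
  unfold L eb
  rw [sum_eq_single i]
  · rw [if_pos rfl, one_smul]
  · intro j _ hj
    rw [if_neg hj, zero_smul]
  · intro h
    exact absurd (mem_range.2 hi) h

/-- `8 a₆ - (a₀ + ⋯ + a₅)` -/
def v9 : ℕ → ℤ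
  | 0 => -1
  | 1 => -1
  | 2 => -1
  | 3 => -1
  | 4 => -1
  | 5 => -1
  | 6 => 8
  | _ => 0

theorem v9_eb : ∀ i < 6, bil 7 v9 (eb i) = 0 := by decide

theorem v9_sq : bil 7 v9 v9 = 144 := by decide

/-- `a₆ - a₇` -/
def w10 : ℕ → ℤ
  | 6 => 1
  | 7 => -1
  | _ => 0

theorem w10_eb : ∀ i < 6, bil 8 w10 (eb i) = 0 := by decide

theorem w10_sq : bil 8 w10 w10 = 4 := by decide

/-- `4 (a₆ + a₇) - (a₀ + ⋯ + a₅)` -/
def v10 : ℕ → ℤ
  | 0 => -1
  | 1 => -1
  | 2 => -1
  | 3 => -1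
  | 4 => -1
  | 5 => -1
  | 6 => 4
  | 7 => 4
  | _ => 0

theorem v10_eb : ∀ i < 8, (5 : ℤ) ∣ bil 8 v10 (eb i) := by decide

theorem v10_sq : bil 8 v10 v10 = 80 := by decide

/-- degree nine: the seventh generator -/
theorem ext9 [Nontrivial R] {a : ℕ → R} (h : Rels 7 a) (h2 : (2 : F) ≠ 0) (K : Subfield F)
    (hsc : ∀ w : R, (∀ i < 7, a i ∈ commG w) → ∃ l : F, w = algebraMap F R l) : pair (a 6) ∈ Al K (cc a) 6 := by
  have h6 : Rels 6 a := h.mono (by norm_num)
  set d := L 7 a v9 with hd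
  have hda : ∀ i < 6, a i ∈ antiG d := by
    intro i hi
    change d * a i = -(a i * d)
    have := L_anti h (v9_eb i hi)
    rwa [L_eb a (show i < 7 by omega)] at this
  obtain ⟨c1, c2, c3⟩ := omega_comm h6 h2 hda
  have hd' : d = 8 • a 6 - ∑ i ∈ range 6, a i := by
    rw [hd]
    simp only [L, v9, sum_range_succ, sum_range_zero, zero_add, neg_smul, one_smul]
    rw [show (8 : ℤ) • a 6 = 8 • a 6 from by norm_cast]
    abel
  have ha6 : 8 • a 6 = d + ∑ i ∈ range 6, a i := by rw [hd']; abel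
  have closed : ∀ T : AddSubgroup R, (∀ x, 2 • x ∈ T → x ∈ T) → (∀ i < 6, a i ∈ T) → d ∈ T → a 6 ∈ T := by
    intro T hT hi hdT
    apply hT; apply hT; apply hT
    rw [smul_smul, smul_smul]
    change 8 • a 6 ∈ T
    rw [ha6]
    exact T.add_mem hdT (T.sum_mem fun i hi' => hi i (mem_range.1 hi'))
  obtain ⟨l, hl⟩ := hsc (Wp (bb a) 6 * d) (by
    intro i hi
    rcases Nat.lt_succ_iff_lt_or_eq.1 hi with h3 | h3
    · exact c1 i h3
    · rw [h3]
      exact closed _ (commG_two h2 _) c1 c2)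
  have hdd : d * d = algebraMap F R (-(12 * 12)) := by
    rw [hd, L_sq h h2, v9_sq]
    rw [map_neg, map_mul, map_ofNat]
    push_cast
    norm_num
  have hpd := extra_al h6 h2 K (t := 12) (by exact_mod_cast natCast_mem K 12) c3 hdd hl
  exact closed (alG K a) (alG_two h2) (gens_al h2 K) hpd

/-- degree ten, characteristic five: the seventh and the eighth generator -/
theorem ext10 [Nontrivial R] {a : ℕ → R} (h : Rels 8 a) (h2 : (2 : F) ≠ 0) (h5 : (5 : F) = 0) (K : Subfield F)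
    (hsc : ∀ w : R, (∀ i < 8, a i ∈ commG w) → ∃ l : F, w = algebraMap F R l)
    (hnil : ∀ w : R, (∀ i < 8, a i ∈ antiG w) → w * w = 0 → w = 0) :
    pair (a 6) ∈ Al K (cc a) 6 ∧ pair (a 7) ∈ Al K (cc a) 6 := by
  have h6 : Rels 6 a := h.mono (by norm_num)
  have h5R : (5 : R) = 0 := by
    have := congrArg (algebraMap F R) h5
    rwa [map_ofNat, map_zero] at this
  have hu : L 8 a v10 = 0 := by
    apply hnil
    · intro i hi
      change L 8 a v10 * a i = -(a i * L 8 a v10)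
      have h7 := L_ac h v10 (eb i)
      obtain ⟨k, hk⟩ := v10_eb i hi
      rw [L_eb a hi, hk] at h7
      push_cast at h7
      rw [h5R, zero_mul, mul_zero] at h7
      exact eq_neg_of_add_eq_zero_left h7
    · rw [L_sq h h2, v10_sq]
      have : ((-80 : ℤ) : R) = 5 * (-16) := by push_cast; norm_num
      rw [this, h5R, zero_mul]
  have hsum : 4 • (a 6 + a 7) = ∑ i ∈ range 6, a i := by
    have h7 : L 8 a v10 = 4 • (a 6 + a 7) - ∑ i ∈ range 6, a i := by
      simp only [L, v10, sum_range_succ, sum_range_zero, zero_add, neg_smul, one_smul]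
      rw [show (4 : ℤ) • a 6 = 4 • a 6 from by norm_cast, show (4 : ℤ) • a 7 = 4 • a 7 from by norm_cast]
      abel
    rw [h7] at hu
    exact sub_eq_zero.1 hu
  set d := L 8 a w10 with hd
  have hda : ∀ i < 6, a i ∈ antiG d := by
    intro i hi
    change d * a i = -(a i * d)
    have := L_anti h (w10_eb i hi)
    rwa [L_eb a (show i < 8 by omega)] at this
  obtain ⟨c1, c2, c3⟩ := omega_comm h6 h2 hda
  have hd' : d = a 6 - a 7 := by
    rw [hd]
    simp only [L, w10, sum_range_succ, sum_range_zero, zero_add, neg_smul, one_smul, zero_smul]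
    abel
  have closed : ∀ T : AddSubgroup R, (∀ x, 2 • x ∈ T → x ∈ T) → (∀ i < 6, a i ∈ T) → d ∈ T → a 6 ∈ T ∧ a 7 ∈ T := by
    intro T hT hi hdT
    have h7 : a 6 + a 7 ∈ T := by
      apply hT; apply hT
      rw [smul_smul]
      change 4 • (a 6 + a 7) ∈ T
      rw [hsum]
      exact T.sum_mem fun i hi' => hi i (mem_range.1 hi')
    constructor
    · apply hT
      have : 2 • a 6 = a 6 + a 7 + d := by rw [hd', two_smul]; abel
      rw [this]
      exact T.add_mem h7 hdT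
    · apply hT
      have : 2 • a 7 = a 6 + a 7 - d := by rw [hd', two_smul]; abel
      rw [this]
      exact T.sub_mem h7 hdT
  obtain ⟨l, hl⟩ := hsc (Wp (bb a) 6 * d) (by
    intro i hi
    by_cases h3 : i < 6
    · exact c1 i h3
    · have h4 := closed _ (commG_two h2 _) c1 c2
      have h7 : i = 6 ∨ i = 7 := by omega
      rcases h7 with rfl | rfl
      · exact h4.1
      · exact h4.2)
  have hdd : d * d = algebraMap F R (-(2 * 2)) := by
    rw [hd, L_sq h h2, w10_sq]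
    rw [map_neg, map_mul, map_ofNat]
    push_cast
    norm_num
  have hpd := extra_al h6 h2 K (t := 2) (by exact_mod_cast natCast_mem K 2) c3 hdd hl
  exact closed (alG K a) (alG_two h2) (gens_al h2 K) hpd

end ring

section group

variable {F : Type u} [Field F] {R : Type v} [Ring R] [Algebra F R] {K : Subfield F} {P : Type w} [Group P] {N : ℕ}
  {π : P →* Equiv.Perm (Fin (N + 2))} {z : P} {X : ℕ → P}

/-- the skew elements -/
def aa (ρ : P →* R) (X : ℕ → P) (i : ℕ) : R := ρ (X i) + ρ (X i) + 1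

theorem sq_of_three {x : R} (h : x * x + x + 1 = 0) : x * x = -x - 1 := by
  rw [eq_sub_iff_add_eq, eq_neg_iff_add_eq_zero, ← h]
  abel

theorem yx_of {x y : R} (hx : x * x + x + 1 = 0) (hy : y * y + y + 1 = 0) (h : x * y * (x * y) = -1) :
    y * x = -1 - x - y - x * y := by
  have hx2 := sq_of_three hx
  have hy2 := sq_of_three hy
  have hx3 : x * x * x = 1 := by
    rw [hx2, sub_mul, neg_mul, hx2, one_mul]; abel
  have hy3 : y * y * y = 1 := by
    rw [hy2, sub_mul, neg_mul, hy2, one_mul]; abel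
  have h1 : y * x = x * x * (x * y * (x * y)) * (y * y) := by
    have : x * x * (x * y * (x * y)) * (y * y) = x * x * x * (y * x) * (y * y * y) := by simp only [mul_assoc]
    rw [this, hx3, hy3, one_mul, mul_one]
  rw [h1, h, mul_neg, mul_one, hx2, hy2]
  noncomm_ring

theorem rels_aa {ρ : P →* R} (hz : ρ z = -1) (h3 : ∀ i < N, ρ (X i) * ρ (X i) + ρ (X i) + 1 = 0)
    (hsq : ∀ i < N, ∀ j < N, i ≠ j → X i * X j * (X i * X j) = z) : Rels N (aa ρ X) := by
  constructor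
  · intro i hi
    have h1 := sq_of_three (h3 i hi)
    unfold aa
    have : (ρ (X i) + ρ (X i) + 1) * (ρ (X i) + ρ (X i) + 1) = 4 * (ρ (X i) * ρ (X i)) + 4 * ρ (X i) + 1 := by
      noncomm_ring
    rw [this, h1]
    have e3 : (3 : R) = 1 + 1 + 1 := by norm_num
    rw [e3]
    noncomm_ring
  · intro i hi j hj hij
    have h1 := yx_of (h3 i hi) (h3 j hj) (by rw [← map_mul, ← map_mul, hsq i hi j hj hij, hz])
    unfold aa
    have : (ρ (X i) + ρ (X i) + 1) * (ρ (X j) + ρ (X j) + 1) + (ρ (X j) + ρ (X j) + 1) * (ρ (X i) + ρ (X i) + 1) =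
        4 * (ρ (X i) * ρ (X j)) + 4 * (ρ (X j) * ρ (X i)) + 4 * ρ (X i) + 4 * ρ (X j) + (1 + 1) := by noncomm_ring
    have e2 : (2 : R) = 1 + 1 := by norm_num
    rw [this, h1, e2]
    noncomm_ring

/-- the `X i` and `z` generate -/
theorem mem_of_gens (D : Dc π z) (hN : 1 ≤ N) (hsg : ∀ x, Equiv.Perm.sign (π x) = 1) {S : Subgroup P} (hz : z ∈ S)
    (hX : ∀ i < N, π (X i) = cyc N i) (hXS : ∀ i < N, X i ∈ S) (x : P) : x ∈ S := by
  have h1 : gen N (cyc N) ≤ S.map π := by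
    rw [gen_def, Subgroup.closure_le]
    rintro _ ⟨i, hi, rfl⟩
    exact ⟨X i, hXS i hi, hX i hi⟩
  have h2 : π x ∈ S.map π := by
    apply h1
    rw [gen_cyc N hN]
    exact Equiv.Perm.mem_alternatingGroup.2 (hsg x)
  obtain ⟨y, hy, hyx⟩ := h2
  rcases D.eq_or hyx with h3 | h3
  · rw [h3]; exact hy
  · rw [h3]; exact S.mul_mem hz hy

/-- **traces** -/
theorem trace_main (D : Dc π z) (hN : 6 ≤ N) (hsg : ∀ x, Equiv.Perm.sign (π x) = 1) {ρ : P →* R} (hz : ρ z = -1)
    (h2 : (2 : F) ≠ 0) (hX : ∀ i < N, π (X i) = cyc N i) (h3 : ∀ i < N, ρ (X i) * ρ (X i) + ρ (X i) + 1 = 0)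
    (hsq : ∀ i < N, ∀ j < N, i ≠ j → X i * X j * (X i * X j) = z) (K : Subfield F)
    (hext : ∀ i < N, pair (aa ρ X i) ∈ Al K (cc (aa ρ X)) 6) {tr : R →ₗ[F] F} (htr : ∀ x y, tr (x * y) = tr (y * x))
    (x : P) : ∃ r ∈ K, tr (ρ x) = r * tr 1 ∧ tr (ρ x⁻¹) = r * tr 1 := by
  have hR := rels_aa hz h3 hsq
  have hR6 : Rels 6 (aa ρ X) := hR.mono hN
  let φ : P → R × Rᵐᵒᵖ := fun x => (ρ x, op (ρ x⁻¹))
  have hφ : ∀ x y, φ (x * y) = φ x * φ y := by
    intro x y
    refine Prod.ext (map_mul ρ x y) ?_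
    change op (ρ (x * y)⁻¹) = op (ρ x⁻¹) * op (ρ y⁻¹)
    rw [← op_mul, mul_inv_rev, map_mul]
  have hφ1 : φ 1 = 1 := by
    refine Prod.ext (map_one ρ) ?_
    change op (ρ 1⁻¹) = 1
    rw [inv_one, map_one, op_one]
  have hmul : ∀ {x y : R × Rᵐᵒᵖ}, x ∈ Al K (cc (aa ρ X)) 6 → y ∈ Al K (cc (aa ρ X)) 6 →
      x * y ∈ Al K (cc (aa ρ X)) 6 := fun hx hy => Al.mul_mem (cc_anti hR6) (cc_sq hR6 h2 K) hx hy
  have hXA : ∀ i < N, φ (X i) ∈ Al K (cc (aa ρ X)) 6 := by
    intro i hi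
    have e1 := sq_of_three (h3 i hi)
    have e2 : ρ (X i) * ρ (X i)⁻¹ = 1 := by rw [← map_mul, mul_inv_cancel, map_one]
    have e3 : ρ (X i)⁻¹ = -ρ (X i) - 1 := by
      have e4 : (-ρ (X i) - 1) * ρ (X i) = 1 := by rw [sub_mul, neg_mul, e1, one_mul]; abel
      calc ρ (X i)⁻¹ = (-ρ (X i) - 1) * ρ (X i) * ρ (X i)⁻¹ := by rw [e4, one_mul]
        _ = _ := by rw [mul_assoc, e2, mul_one]
    have h2x : pair (aa ρ X i) - 1 = (2 : F) • φ (X i) := by
      refine Prod.ext ?_ ?_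
      · change ρ (X i) + ρ (X i) + 1 - 1 = (2 : F) • ρ (X i)
        rw [two_smul]; abel
      · change op (-(ρ (X i) + ρ (X i) + 1)) - 1 = (2 : F) • op (ρ (X i)⁻¹)
        rw [e3, two_smul, ← op_one, ← op_sub, ← op_add]
        congr 1
        abel
    have h4 : φ (X i) = (2 : F)⁻¹ • (pair (aa ρ X i) - 1) := by
      rw [h2x, smul_smul, inv_mul_cancel₀ h2, one_smul]
    rw [h4]
    exact Al.smul_mem (K.inv_mem (by exact_mod_cast natCast_mem K 2)) (Al.sub_mem (hext i hi) (Al.one_mem _ _))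
  have hφz : φ z = -1 := by
    have hzi : z⁻¹ = z := inv_eq_of_mul_eq_one_right D.zz
    refine Prod.ext hz ?_
    change op (ρ z⁻¹) = -1
    rw [hzi, hz, op_neg, op_one]
  let S : Subgroup P :=
    { carrier := {x | φ x ∈ Al K (cc (aa ρ X)) 6 ∧ φ x⁻¹ ∈ Al K (cc (aa ρ X)) 6}
      one_mem' := by
        change φ 1 ∈ Al K (cc (aa ρ X)) 6 ∧ φ 1⁻¹ ∈ Al K (cc (aa ρ X)) 6
        rw [inv_one, hφ1]
        exact ⟨Al.one_mem _ _, Al.one_mem _ _⟩
      mul_mem' := by
        intro x y hx hy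
        change φ (x * y) ∈ Al K (cc (aa ρ X)) 6 ∧ φ (x * y)⁻¹ ∈ Al K (cc (aa ρ X)) 6
        rw [mul_inv_rev, hφ, hφ]
        exact ⟨hmul hx.1 hy.1, hmul hy.2 hx.2⟩
      inv_mem' := by
        intro x hx
        change φ x⁻¹ ∈ Al K (cc (aa ρ X)) 6 ∧ φ x⁻¹⁻¹ ∈ Al K (cc (aa ρ X)) 6
        rw [inv_inv]
        exact ⟨hx.2, hx.1⟩ }
  have hzS : z ∈ S := by
    change φ z ∈ Al K (cc (aa ρ X)) 6 ∧ φ z⁻¹ ∈ Al K (cc (aa ρ X)) 6
    have hzi : z⁻¹ = z := inv_eq_of_mul_eq_one_right D.zz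
    rw [hzi, hφz]
    exact ⟨Al.neg_mem (Al.one_mem _ _), Al.neg_mem (Al.one_mem _ _)⟩
  have hXS : ∀ i < N, X i ∈ S := by
    intro i hi
    refine ⟨hXA i hi, ?_⟩
    have e1 := sq_of_three (h3 i hi)
    have hX3 : X i * X i * X i = 1 ∨ X i * X i * X i = z := by
      apply D.ker
      rw [map_mul, map_mul, hX i hi]
      have := (rel_cyc N).cube i hi
      rwa [pow_succ, pow_two] at this
    have hX3' : X i * X i * X i ∈ S ∧ True := by
      rcases hX3 with h | h
      · rw [h]; exact ⟨S.one_mem, trivial⟩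
      · rw [h]; exact ⟨hzS, trivial⟩
    have h5 : φ (X i * X i * X i)⁻¹ ∈ Al K (cc (aa ρ X)) 6 := hX3'.1.2
    have h6 : (X i)⁻¹ = X i * X i * (X i * X i * X i)⁻¹ := by group
    rw [h6, hφ, hφ]
    exact hmul (hmul (hXA i hi) (hXA i hi)) h5
  have hx : x ∈ S := mem_of_gens D (by omega) hsg hzS hX hXS x
  obtain ⟨r, hr, h4, h5⟩ := trace_al htr h2 hR6 hx.1
  exact ⟨r, hr, h4, h5⟩

end group

end Cfsg.Agent.H825.Spin
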