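import Cfsg.Agent.H825.SpinCfg

/-!
# The lift of a 3-cycle acts with `y² + y + 1 = 0`, II (helper825)
-/

set_option autoImplicit false
set_option linter.unusedSectionVars false

namespace Cfsg.Agent.H825.Spin

open Module

universe u v w

variable {F : Type u} [Field F] {V : Type v} [AddCommGroup V] [Module F V]
variable {P : Type w} [Group P] {ρ : P →* Module.End F V} {z a b c d σ σ' : P}

theorem comm_smul {X Y : Module.End F V} (h : Commute X Y) (e : F) : Commute X (e • Y) := by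
  change X * (e • Y) = (e • Y) * X
  rw [mul_smul_comm, smul_mul_assoc, h.eq]

theorem comm_Q {X : Module.End F V} (h : Commute X (S ρ a b)) : Commute X (Q ρ a b) := by
  rw [Q]
  apply comm_smul
  change X * (-1 - S ρ a b) = (-1 - S ρ a b) * X
  rw [mul_sub, sub_mul, h.eq, mul_neg, neg_mul, mul_one, one_mul]

theorem comm_Qb {X : Module.End F V} (h : Commute X (S ρ a b)) : Commute X (Qb ρ a b) := by
  rw [Qb]
  apply comm_smul
  change X * (-1 + S ρ a b) = (-1 + S ρ a b) * X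
  rw [mul_add, add_mul, h.eq, mul_neg, neg_mul, mul_one, one_mul]

theorem comm_S {x : P} (h1 : Commute x a) (h2 : Commute x b) : Commute (ρ x) (S ρ a b) := by
  rw [S_def]
  exact (((h1.mul_right h2).map ρ).add_right (((h1.inv_right.mul_right h2).mul_right h1.inv_right).map ρ)).add_right
    ((h2.mul_right h1).map ρ)

theorem SS_comm (h : Cfg z a b c d σ) : Commute (S ρ a b) (S ρ c d) := by
  rw [S_def (a := a)]
  exact ((comm_S h.cI.symm h.dI.symm).add_left (comm_S h.cJ.symm h.dJ.symm)).add_left (comm_S h.cK.symm h.dK.symm)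

theorem QQ_comm (h : Cfg z a b c d σ) : Commute (Q ρ a b) (Q ρ c d) := comm_Q (comm_Q (SS_comm h).symm).symm

theorem QbQb_comm (h : Cfg z a b c d σ) : Commute (Qb ρ a b) (Qb ρ c d) := comm_Qb (comm_Qb (SS_comm h).symm).symm

theorem QbQ_comm (h : Cfg z a b c d σ) : Commute (Qb ρ a b) (Q ρ c d) := comm_Q (comm_Qb (SS_comm h).symm).symm

theorem QQb_comm (h : Cfg z a b c d σ) : Commute (Q ρ a b) (Qb ρ c d) := comm_Qb (comm_Q (SS_comm h).symm).symm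

/-- `Z = Q⁻¹ A` -/
def Z (ρ : P →* Module.End F V) (a b : P) : Module.End F V := Qb ρ a b * ρ a

theorem a_S (h : Sl z a b) (hz : ρ z = -1) : Commute (ρ a) (S ρ a b) := AS h hz

theorem QZ (h : Sl z a b) (hz : ρ z = -1) (h2 : (2 : F) ≠ 0) : Q ρ a b * Z ρ a b = ρ a := by
  rw [Z, ← mul_assoc, Q_mul_Qb h hz h2, one_mul]

theorem QZ_comm (h : Sl z a b) (hz : ρ z = -1) : Commute (Q ρ a b) (Z ρ a b) := by
  have h1 : Commute (Q ρ a b) (ρ a) := (comm_Q (a_S h hz)).symm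
  have h2 : Commute (Q ρ a b) (Qb ρ a b) := comm_Qb (comm_Q (Commute.refl _)).symm
  exact h2.mul_right h1

theorem ZZZ (h : Sl z a b) (hz : ρ z = -1) (h2 : (2 : F) ≠ 0) : Z ρ a b * Z ρ a b * Z ρ a b = 1 := by
  have h1 : Commute (Qb ρ a b) (ρ a) := Qb_comm_a h hz
  have e1 : Z ρ a b * Z ρ a b * Z ρ a b = (Qb ρ a b * Qb ρ a b * Qb ρ a b) * (ρ a * ρ a * ρ a) := by
    rw [Z]
    have e : ∀ X, ρ a * (Qb ρ a b * X) = Qb ρ a b * (ρ a * X) := fun X => by rw [← mul_assoc, ← h1.eq, mul_assoc]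
    simp only [mul_assoc]
    rw [e, e, e]
  have e2 : ρ a * ρ a * ρ a = 1 := by rw [← map_mul, ← map_mul, h.aa, map_one]
  have e3 : Qb ρ a b * Qb ρ a b * Qb ρ a b = 1 := by
    have h4 := QQ h hz h2
    have h5 := Qb_eq h hz h2
    have h6 : Qb ρ a b = Q ρ a b * Q ρ a b := by
      rw [h5, ← sub_eq_zero, ← neg_eq_zero, ← h4]; abel
    have h7 : Q ρ a b * Q ρ a b * Q ρ a b = 1 := by
      rw [← h6, Qb_mul_Q h hz h2]
    calc Qb ρ a b * Qb ρ a b * Qb ρ a b = (Q ρ a b * Q ρ a b * Q ρ a b) * (Q ρ a b * Q ρ a b * Q ρ a b) := by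
          rw [h6]; simp only [mul_assoc]
      _ = 1 := by rw [h7, one_mul]
  rw [e1, e2, e3, one_mul]

theorem Z_c (h : Cfg z a b c d σ) : Commute (Z ρ a b) (ρ c) := by
  have h1 : Commute (ρ c) (Qb ρ a b) := comm_Qb (comm_S h.ac.symm h.bc.symm)
  exact (h1.mul_right (h.ac.symm.map ρ)).symm

theorem Z_S' (h : Cfg z a b c d σ) : Commute (Z ρ a b) (S ρ c d) := by
  have h1 : Commute (S ρ c d) (Qb ρ a b) := comm_Qb (SS_comm h).symm
  have h2 : Commute (S ρ c d) (ρ a) := (comm_S h.ac h.ad).symm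
  exact (h1.mul_right h2).symm

/-- the symmetric configuration -/
theorem Cfg.e3 (h : Cfg z a b c d σ) : ∃ u, u * c * u⁻¹ = c⁻¹ := by
  obtain ⟨u, hu⟩ := h.e1
  refine ⟨σ * u * σ⁻¹, ?_⟩
  have h1 : σ * u * σ⁻¹ * c * (σ * u * σ⁻¹)⁻¹ = σ * (u * (σ⁻¹ * c * σ) * u⁻¹) * σ⁻¹ := by group
  have h2 : σ⁻¹ * c * σ = a := by rw [← h.sa]; group
  rw [h1, h2, hu, ← h.sa]; group

theorem ZZ_comm (h : Cfg z a b c d σ) : Commute (Z ρ a b) (Z ρ c d) := by
  have h1 := Z_S' (ρ := ρ) h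
  exact (comm_Qb h1).mul_right (Z_c h)

theorem Z'_i (h : Cfg z a b c d σ) : Commute (Z ρ c d) (ρ (a * b)) := by
  have h1 : Commute (ρ (a * b)) (S ρ c d) := comm_S h.cI.symm h.dI.symm
  exact ((comm_Qb h1).mul_right (h.cI.symm.map ρ)).symm

theorem Z'_j (h : Cfg z a b c d σ) : Commute (Z ρ c d) (ρ (a⁻¹ * b * a⁻¹)) := by
  have h1 : Commute (ρ (a⁻¹ * b * a⁻¹)) (S ρ c d) := comm_S h.cJ.symm h.dJ.symm
  exact ((comm_Qb h1).mul_right (h.cJ.symm.map ρ)).symm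

theorem Z_i (h : Sl z a b) (hz : ρ z = -1) : Commute (Z ρ a b) (ρ (a * b)) := Z_comm_i h hz

theorem Z_j (h : Sl z a b) (hz : ρ z = -1) : Commute (Z ρ a b) (ρ (a⁻¹ * b * a⁻¹)) := Z_comm_j h hz

theorem Z_i' (h : Cfg z a b c d σ) : Commute (Z ρ a b) (ρ (c * d)) := by
  have h1 : Commute (ρ (c * d)) (S ρ a b) := comm_S h.aI'.symm h.bI'.symm
  exact ((comm_Qb h1).mul_right (h.aI'.symm.map ρ)).symm

theorem Z_j' (h : Cfg z a b c d σ) : Commute (Z ρ a b) (ρ (c⁻¹ * d * c⁻¹)) := by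
  have h1 : Commute (ρ (c⁻¹ * d * c⁻¹)) (S ρ a b) := comm_S h.aJ'.symm h.bJ'.symm
  exact ((comm_Qb h1).mul_right (h.aJ'.symm.map ρ)).symm

theorem QbQb_onU (h : Cfg z a b c d σ) (hz : ρ z = -1) (h2 : (2 : F) ≠ 0) {v : V} (hv : v ∈ U ρ a b c d) :
    Qb ρ a b (Qb ρ c d v) = v := by
  have h1 := QQ_onU h hz h2 hv
  have h3 : Qb ρ a b (Qb ρ c d (Q ρ a b (Q ρ c d v))) = v := by
    have : Qb ρ a b * Qb ρ c d * (Q ρ a b * Q ρ c d) = 1 := by
      rw [mul_assoc, ← mul_assoc (Qb ρ c d), ← (QQb_comm h).eq, mul_assoc (Q ρ a b), Qb_mul_Q h.sl' hz h2, mul_one,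
        Qb_mul_Q h.sl hz h2]
    calc Qb ρ a b (Qb ρ c d (Q ρ a b (Q ρ c d v))) = (Qb ρ a b * Qb ρ c d * (Q ρ a b * Q ρ c d)) v := rfl
      _ = v := by rw [this]; rfl
  rwa [h1] at h3

/-- a line on which an operator of order three acts in characteristic three -/
theorem fix_of_line (h3 : (3 : F) = 0) {L : Submodule F V} (hL : finrank F L = 1) {G : Module.End F V}
    (hG : ∀ v ∈ L, G v ∈ L) (hG3 : G * G * G = 1) {v : V} (hv : v ∈ L) : G v = v := by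
  obtain ⟨⟨v0, hv0⟩, hne, hspan⟩ := finrank_eq_one_iff'.1 hL
  obtain ⟨e, he⟩ := hspan ⟨G v0, hG v0 hv0⟩
  have he' : G v0 = e • v0 := (congrArg Subtype.val he).symm
  have hv0ne : v0 ≠ 0 := fun h0 => hne (Subtype.ext h0)
  have h4 : e = 1 := by
    have h5 : G (G (G v0)) = v0 := by
      change (G * G * G) v0 = v0
      rw [hG3]; rfl
    rw [he', map_smul, map_smul, he', map_smul, he', smul_smul, smul_smul] at h5
    have h6 : (e * e * e - 1) • v0 = 0 := by rw [sub_smul, one_smul, h5, sub_self]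
    have h7 : e * e * e - 1 = 0 := (smul_eq_zero.1 h6).resolve_right hv0ne
    have h8 : (e - 1) ^ 3 = 0 := by
      have : (e - 1) ^ 3 = (e * e * e - 1) + 3 * (e - e * e) := by ring
      rw [this, h7, h3]; ring
    exact sub_eq_zero.1 (pow_eq_zero_iff (by norm_num) |>.1 h8)
  obtain ⟨f, hf⟩ := hspan ⟨v, hv⟩
  have hf' : v = f • v0 := (congrArg Subtype.val hf).symm
  rw [hf', map_smul, he', h4, one_smul]

theorem key3 [FiniteDimensional F V] (h : Cfg z a b c d σ) (hz : ρ z = -1) (h2 : (2 : F) ≠ 0) (h3 : (3 : F) = 0)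
    (hn : finrank F V = 8) : ρ (a * c) = Q ρ a b * Q ρ c d := by
  obtain ⟨d1, d2, -⟩ := hdim (ρ := ρ) h hz h2
  have hG3 : ρ (a * c) * ρ (a * c) * ρ (a * c) = 1 := by
    rw [← map_mul, ← map_mul]
    have : a * c * (a * c) * (a * c) = (a * a * a) * (c * c * c) := by
      have e : ∀ x, c * (a * x) = a * (c * x) := fun x => by rw [← mul_assoc, ← h.ac.eq, mul_assoc]
      simp only [mul_assoc]
      rw [e, e, e]
    rw [this, h.sl.aa, h.sl'.aa, one_mul, map_one]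
  have r1 : a * b * (c * d) * (a * c) = a * c * (b * a * (d * c)) := by
    calc a * b * (c * d) * (a * c) = a * b * ((c * d) * a) * c := by simp only [mul_assoc]
      _ = a * b * (a * (c * d)) * c := by rw [h.aI'.eq]
      _ = (a * b * a) * (c * d * c) := by simp only [mul_assoc]
      _ = (a * (b * a)) * (c * (d * c)) := by rw [h.sl.ak, h.sl'.ak]
      _ = a * ((b * a) * c) * (d * c) := by simp only [mul_assoc]
      _ = a * (c * (b * a)) * (d * c) := by rw [h.cK.eq]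
      _ = a * c * (b * a * (d * c)) := by simp only [mul_assoc]
  have r2 : a⁻¹ * b * a⁻¹ * (c⁻¹ * d * c⁻¹) * (a * c) = a * c * (a * b * (c * d)) := by
    calc a⁻¹ * b * a⁻¹ * (c⁻¹ * d * c⁻¹) * (a * c) = a⁻¹ * b * a⁻¹ * ((c⁻¹ * d * c⁻¹) * a) * c := by
          simp only [mul_assoc]
      _ = a⁻¹ * b * a⁻¹ * (a * (c⁻¹ * d * c⁻¹)) * c := by rw [h.aJ'.eq]
      _ = (a⁻¹ * b * a⁻¹ * a) * (c⁻¹ * d * c⁻¹ * c) := by simp only [mul_assoc]
      _ = (a * (a * b)) * (c * (c * d)) := by rw [h.sl.ai', h.sl'.ai']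
      _ = a * ((a * b) * c) * (c * d) := by simp only [mul_assoc]
      _ = a * (c * (a * b)) * (c * d) := by rw [h.cI.eq]
      _ = a * c * (a * b * (c * d)) := by simp only [mul_assoc]
  have hU : ∀ v ∈ U ρ a b c d, ρ (a * c) v ∈ U ρ a b c d := by
    intro v hv
    obtain ⟨h4, h5⟩ := mem_U.1 hv
    rw [mem_U, ← rho_mul, ← rho_mul, r1, r2, rho_mul (a * c) (b * a * (d * c)), rho_mul (a * c) (a * b * (c * d)), h4,
      ← h.r12, rho_mul (a * b * (c * d)), h5, h4]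
    exact ⟨rfl, rfl⟩
  have hs : σ * (a * c) = (a * c) * σ := by rw [← mul_inv_eq_iff_eq_mul, h.sac]
  have hE : ∀ e, ∀ v ∈ E ρ σ e, ρ (a * c) v ∈ E ρ σ e := by
    intro e v hv
    rw [mem_E] at hv ⊢
    rw [← rho_mul, hs, rho_mul, hv, map_smul]
  have hfix : ∀ v ∈ U ρ a b c d, ρ (a * c) v = v := by
    intro v hv
    have hσU : ∀ v ∈ U ρ a b c d, ρ σ v ∈ U ρ a b c d := by
      intro v hv
      obtain ⟨h4, h5⟩ := mem_U.1 hv
      rw [mem_U, ← rho_mul, ← rho_mul, h.u1.comm, h.s2, rho_mul σ (a * b * (c * d)), rho_mul σ, h4, h5]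
      exact ⟨rfl, rfl⟩
    have hσσ : ρ σ (ρ σ v) = v := by rw [← rho_mul, h.u1.yy, map_one]; rfl
    have p1 : ρ (a * c) (v + ρ σ v) = v + ρ σ v := by
      apply fix_of_line h3 (L := U ρ a b c d ⊓ E ρ σ 1) (by omega) (fun w hw => ⟨hU w hw.1, hE 1 w hw.2⟩) hG3
      refine ⟨Submodule.add_mem _ hv (hσU v hv), ?_⟩
      show _ ∈ E ρ σ 1
      rw [mem_E, map_add, hσσ, one_smul, add_comm]
    have p2 : ρ (a * c) (v - ρ σ v) = v - ρ σ v := by
      apply fix_of_line h3 (L := U ρ a b c d ⊓ E ρ σ (-1)) (by omega) (fun w hw => ⟨hU w hw.1, hE (-1) w hw.2⟩) hG3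
      refine ⟨Submodule.sub_mem _ hv (hσU v hv), ?_⟩
      show _ ∈ E ρ σ (-1)
      rw [mem_E, map_sub, hσσ, neg_one_smul, neg_sub]
    have p3 : ρ (a * c) (v + ρ σ v) + ρ (a * c) (v - ρ σ v) = (v + ρ σ v) + (v - ρ σ v) := by rw [p1, p2]
    rw [← map_add, add_add_sub_cancel, ← two_smul F v, map_smul] at p3
    exact smul_right_injective V h2 p3
  have hZ : Z ρ a b * Z ρ c d = 1 := by
    apply ext_U h hz h2
    · exact ((Z_i h.sl hz).mul_left (Z'_i h)).eq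
    · exact ((Z_j h.sl hz).mul_left (Z'_j h)).eq
    · intro v hv
      have h4 : Z ρ a b * Z ρ c d = Qb ρ a b * Qb ρ c d * ρ (a * c) := by
        have h5 : Commute (ρ a) (Qb ρ c d) := comm_Qb (comm_S h.ac h.ad)
        rw [Z, Z, map_mul, mul_assoc, ← mul_assoc (ρ a), h5.eq]
        simp only [mul_assoc]
      rw [h4, Module.End.mul_apply, hfix v hv, Module.End.mul_apply, QbQb_onU h hz h2 hv]
  calc ρ (a * c) = (Q ρ a b * Z ρ a b) * (Q ρ c d * Z ρ c d) := by rw [map_mul, QZ h.sl hz h2, QZ h.sl' hz h2]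
    _ = Q ρ a b * (Z ρ a b * Q ρ c d) * Z ρ c d := by simp only [mul_assoc]
    _ = Q ρ a b * (Q ρ c d * Z ρ a b) * Z ρ c d := by rw [(comm_Q (Z_S' h)).eq]
    _ = Q ρ a b * Q ρ c d * (Z ρ a b * Z ρ c d) := by simp only [mul_assoc]
    _ = Q ρ a b * Q ρ c d := by rw [hZ, mul_one]

theorem S_inv (h : Sl z c d) (hz : ρ z = -1) : S ρ c⁻¹ d⁻¹ = -S ρ c d := by
  have e1 : c⁻¹ * d⁻¹ = z * (d * c) := by
    rw [← mul_inv_rev, inv_eq_iff_mul_eq_one, ← mul_assoc, ← h.zc, mul_assoc, h.baba, h.zz]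
  have e2 : c⁻¹⁻¹ * d⁻¹ * c⁻¹⁻¹ = z * (c⁻¹ * d * c⁻¹) := by
    have : c⁻¹⁻¹ * d⁻¹ * c⁻¹⁻¹ = (c⁻¹ * d * c⁻¹)⁻¹ := by group
    rw [this, inv_eq_iff_mul_eq_one, ← mul_assoc, ← h.zc, mul_assoc, h.jj, h.zz]
  have e3 : d⁻¹ * c⁻¹ = z * (c * d) := by
    rw [← mul_inv_rev, inv_eq_iff_mul_eq_one, ← mul_assoc, ← h.zc, mul_assoc, h.ab, h.zz]
  rw [S_def, S_def, e1, e2, e3, map_mul ρ z, map_mul ρ z, map_mul ρ z, hz]
  simp only [neg_mul, one_mul]
  abel

theorem QQQ (h : Sl z a b) (hz : ρ z = -1) (h2 : (2 : F) ≠ 0) : Q ρ a b * Q ρ a b * Q ρ a b = 1 := by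
  have h4 := QQ h hz h2
  have h6 : Qb ρ a b = Q ρ a b * Q ρ a b := by
    rw [Qb_eq h hz h2, ← sub_eq_zero, ← neg_eq_zero, ← h4]; abel
  rw [← h6, Qb_mul_Q h hz h2]

theorem final3 [FiniteDimensional F V] (h : Cfg z a b c d σ) (h' : Cfg z a b c⁻¹ d⁻¹ σ') (hz : ρ z = -1)
    (h2 : (2 : F) ≠ 0) (h3 : (3 : F) = 0) (hn : finrank F V = 8) : ρ a = Q ρ a b := by
  have k1 := key3 h hz h2 h3 hn
  have k2 := key3 h' hz h2 h3 hn
  have k3 : Q ρ c⁻¹ d⁻¹ = Qb ρ c d := by rw [Q, Qb, S_inv h.sl' hz, sub_neg_eq_add]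
  rw [k3] at k2
  have k4 : ρ a * ρ a = Q ρ a b * Q ρ a b := by
    calc ρ a * ρ a = ρ (a * c) * ρ (a * c⁻¹) := by
          rw [← map_mul, ← map_mul]
          congr 1
          calc a * a = a * (a * c) * c⁻¹ := by rw [← mul_assoc, mul_inv_cancel_right]
            _ = a * (c * a) * c⁻¹ := by rw [h.ac.eq]
            _ = a * c * (a * c⁻¹) := by simp only [mul_assoc]
      _ = Q ρ a b * (Q ρ c d * Q ρ a b) * Qb ρ c d := by rw [k1, k2]; simp only [mul_assoc]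
      _ = Q ρ a b * Q ρ a b * (Q ρ c d * Qb ρ c d) := by rw [← (QQ_comm h).eq]; simp only [mul_assoc]
      _ = Q ρ a b * Q ρ a b := by rw [Q_mul_Qb h.sl' hz h2, mul_one]
  calc ρ a = ρ a * ρ a * (ρ a * ρ a) := by
        rw [← map_mul, ← map_mul]
        congr 1
        rw [← mul_assoc, h.sl.aa, one_mul]
    _ = Q ρ a b * Q ρ a b * Q ρ a b * Q ρ a b := by rw [k4]; simp only [mul_assoc]
    _ = Q ρ a b := by rw [QQQ h.sl hz h2, one_mul]

end Cfsg.Agent.H825.Spin
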