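import Cfsg.Agent.H825.SpinGrp
import Cfsg.Agent.H915.LD
import Cfsg.Agent.S0892
import Cfsg.Agent.S2653

/-!
# Cores whose simple quotient is an alternating group of degree at least eight: the double cover (helper825)

Interface `Cfsg.Agent.H915.LD`.
-/

set_option autoImplicit false
set_option linter.unusedSectionVars false

namespace Cfsg.Agent.H825.Spin

open Cfsg Cfsg.Geo Matrix H915.LD Lib.AltCarmichael

universe u v w

variable {ι : Type} [Fintype ι] [DecidableEq ι] {F : Type u} [Field F] {P : Subgroup (GL ι F)} {m : ℕ}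

section red

variable [Finite F]

theorem card_scalars_le (hC : Core P) (e : Soc P ≃* alternatingGroup (Fin m)) (hm : 8 ≤ m) :
    Nat.card ((scalars ι F).subgroupOf P) ≤ 2 :=
  S0892.result m (by omega) (by omega) (by omega) ((scalars ι F).subgroupOf P) scalars_le_center
    (by rw [hC.commutator_top]; exact le_top) e

/-- the scalars are trivial, or `±1` -/
theorem scalars_cases (hC : Core P) (e : Soc P ≃* alternatingGroup (Fin m)) (hm : 8 ≤ m) :
    (scalars ι F).subgroupOf P = ⊥ ∨ ((2 : F) ≠ 0 ∧ ∃ z : P, ((z : GL ι F) : Matrix ι ι F) = -1 ∧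
      z ∈ (scalars ι F).subgroupOf P ∧ z ≠ 1 ∧ ∀ x ∈ (scalars ι F).subgroupOf P, x = 1 ∨ x = z) := by
  have hc := card_scalars_le hC e hm
  have hne := hC.nonempty
  have h1 : Nat.card ((scalars ι F).subgroupOf P) = 1 ∨ Nat.card ((scalars ι F).subgroupOf P) = 2 := by
    have : 0 < Nat.card ((scalars ι F).subgroupOf P) := Nat.card_pos
    omega
  rcases h1 with h1 | h1
  · left
    exact Subgroup.card_eq_one.1 h1
  · right
    obtain ⟨x, hx, hxu⟩ := (Nat.card_eq_two_iff' (1 : (scalars ι F).subgroupOf P)).1 h1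
    have hx1 : (x : P) ≠ 1 := fun h => hx (Subtype.ext h)
    have hx2 : (x : P) * x = 1 := by
      by_contra h
      have h2 : x * x ≠ 1 := fun h3 => h (congrArg Subtype.val h3)
      have h3 := hxu (x * x) h2
      exact hx (mul_eq_left.1 h3)
    have hsc := x.2
    rw [Subgroup.mem_subgroupOf, mem_scalars_iff] at hsc
    obtain ⟨c, hc⟩ := hsc
    obtain ⟨i⟩ := hne
    have hcc : (c : F) * c = 1 := by
      have h2 : (((x : P) : GL ι F) : Matrix ι ι F) * (((x : P) : GL ι F) : Matrix ι ι F) = 1 := by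
        rw [← Units.val_mul, ← Subgroup.coe_mul, hx2]; rfl
      rw [hc, Matrix.smul_mul, Matrix.mul_smul, Matrix.mul_one, smul_smul] at h2
      have h3 := congrFun (congrFun h2 i) i
      simpa using h3
    have hc1 : (c : F) ≠ 1 := by
      intro h
      apply hx1
      apply Subtype.ext
      apply Units.ext
      rw [hc, h, one_smul]
      rfl
    have hcm : (c : F) = -1 := by
      rcases mul_self_eq_one_iff.1 hcc with h | h
      · exact absurd h hc1
      · exact h
    refine ⟨?_, x, ?_, x.2, hx1, ?_⟩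
    · intro h2
      apply hc1
      rw [hcm]
      linear_combination -h2
    · rw [hc, hcm]
      exact neg_one_smul F _
    · intro y hy
      by_cases hy1 : y = 1
      · exact Or.inl hy1
      · right
        have := hxu ⟨y, hy⟩ (fun h => hy1 (congrArg Subtype.val h))
        exact congrArg Subtype.val this

theorem equiv_of_scalars (e : Soc P ≃* alternatingGroup (Fin m)) (h : (scalars ι F).subgroupOf P = ⊥) :
    ∃ e' : P ≃* alternatingGroup (Fin m), ∀ x, e' x = e (toSoc P x) := by
  have h2 : Function.Injective (e.toMonoidHom.comp (toSoc P)) := by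
    rw [← MonoidHom.ker_eq_bot_iff]
    exact (ker_comp e).trans h
  exact ⟨MulEquiv.ofBijective _ ⟨h2, e.surjective.comp (toSoc_surjective P)⟩, fun x => rfl⟩

end red

/-- the permutation attached to an element -/
def prm (e : Soc P ≃* alternatingGroup (Fin m)) : P →* Equiv.Perm (Fin m) :=
  ((alternatingGroup (Fin m)).subtype.comp e.toMonoidHom).comp (toSoc P)

theorem prm_sign (e : Soc P ≃* alternatingGroup (Fin m)) (x : P) : Equiv.Perm.sign (prm e x) = 1 :=
  Equiv.Perm.mem_alternatingGroup.1 (e (toSoc P x)).2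

theorem prm_ker (e : Soc P ≃* alternatingGroup (Fin m)) {x : P} (h : prm e x = 1) :
    x ∈ (scalars ι F).subgroupOf P := by
  rw [← ker_comp e]
  exact Subtype.ext h

theorem prm_surj (e : Soc P ≃* alternatingGroup (Fin m)) {c : Equiv.Perm (Fin m)} (hc : Equiv.Perm.sign c = 1) :
    ∃ x, prm e x = c := by
  obtain ⟨y, hy⟩ := e.surjective ⟨c, Equiv.Perm.mem_alternatingGroup.2 hc⟩
  obtain ⟨x, hx⟩ := toSoc_surjective P y
  refine ⟨x, ?_⟩
  change ((e (toSoc P x) : alternatingGroup (Fin m)) : Equiv.Perm (Fin m)) = c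
  rw [hx, hy]

theorem dc_of (e : Soc P ≃* alternatingGroup (Fin m)) {z : P} (hz : ((z : GL ι F) : Matrix ι ι F) = -1)
    (hzm : z ∈ (scalars ι F).subgroupOf P) (hz' : ∀ x ∈ (scalars ι F).subgroupOf P, x = 1 ∨ x = z) :
    Dc (prm e) z where
  zz := by
    apply Subtype.ext
    apply Units.ext
    rw [Subgroup.coe_mul, Units.val_mul, hz, neg_mul_neg, one_mul]
    rfl
  zc x := ((Subgroup.mem_center_iff.1 (scalars_le_center hzm)) x).symm
  pz := by
    have h1 : z ∈ (e.toMonoidHom.comp (toSoc P)).ker := by rw [ker_comp e]; exact hzm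
    have h2 : e (toSoc P z) = 1 := h1
    change ((e (toSoc P z) : alternatingGroup (Fin m)) : Equiv.Perm (Fin m)) = 1
    rw [h2]; rfl
  ker x hx := hz' x (prm_ker e hx)
  surj c hc := prm_surj e hc

/-- the representation -/
def rep (P : Subgroup (GL ι F)) : P →* Module.End F (ι → F) :=
  ((Matrix.toLinAlgEquiv' (R := F) (n := ι)).toAlgHom.toMonoidHom.comp (Units.coeHom (Matrix ι ι F))).comp P.subtype

theorem rep_apply (x : P) : rep P x = Matrix.toLin' ((x : GL ι F) : Matrix ι ι F) := rfl

theorem trace_rep (x : P) : LinearMap.trace F (ι → F) (rep P x) = tr (x : GL ι F) := by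
  rw [rep_apply, Matrix.trace_toLin'_eq]
  rfl

/-- degree bound for alternating sections -/
theorem degree_bound [Finite F] (p : ℕ) [Fact p.Prime] [CharP F p] (e : Soc P ≃* alternatingGroup (Fin m)) (hm : 9 ≤ m) :
    m - 1 - (if p ∣ m then 1 else 0) ≤ Fintype.card ι := by
  have : Fintype F := Fintype.ofFinite F
  let E : GL ι F ≃* GL (Fin (Fintype.card ι)) F :=
    Units.mapEquiv (Matrix.reindexAlgEquiv F F (Fintype.equivFin ι)).toMulEquiv
  let E' : P ≃* P.map E.toMonoidHom := E.subgroupMap P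
  let f : P.map E.toMonoidHom →* alternatingGroup (Fin m) :=
    (e.toMonoidHom.comp (toSoc P)).comp E'.symm.toMonoidHom
  have hf : Function.Surjective f := (e.surjective.comp (toSoc_surjective P)).comp E'.symm.surjective
  exact S2653.result p (Fintype.card ι) m (P.map E.toMonoidHom) f.ker
    ⟨QuotientGroup.quotientKerEquivOfSurjective f hf⟩ hm

/-! ### the main theorem -/

/-- the representation by matrices -/
def repM (P : Subgroup (GL ι F)) : P →* Matrix ι ι F := (Units.coeHom (Matrix ι ι F)).comp P.subtype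

theorem repM_apply (x : P) : repM P x = ((x : GL ι F) : Matrix ι ι F) := rfl

theorem three_of_rep {x : P} (h : rep P x * rep P x + rep P x + 1 = 0) :
    repM P x * repM P x + repM P x + 1 = 0 := by
  apply (Matrix.toLinAlgEquiv' (R := F) (n := ι)).injective
  rw [map_add, map_add, map_mul, map_one, map_zero]
  exact h

variable {N : ℕ} {z : P} {X : ℕ → P} {π : P →* Equiv.Perm (Fin (N + 2))}

theorem three_all (D : Dc π z) (hN : 6 ≤ N)
    (hX : ∀ i < N, π (X i) = cyc N i ∧ X i * X i * X i = 1)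
    (h3 : repM P (X 0) * repM P (X 0) + repM P (X 0) + 1 = 0) :
    ∀ i < N, repM P (X i) * repM P (X i) + repM P (X i) + 1 = 0 := by
  intro i hi
  have hu : ∃ u : P, X i = u * X 0 * u⁻¹ := by
    by_cases hi0 : i = 1
    · obtain ⟨g, hs, hg0, hg1⟩ := exists_move hN hi (show 2 < N by omega) (show i ≠ 2 by omega)
      obtain ⟨u, hu⟩ := D.surj g hs
      exact ⟨u, (D.conj u (hX 0 (by omega)).2 (hX i hi).2 (by rw [hu, (hX 0 (by omega)).1, (hX i hi).1, hg0])).symm⟩
    · obtain ⟨g, hs, hg0, hg1⟩ := exists_move hN hi (show 1 < N by omega) hi0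
      obtain ⟨u, hu⟩ := D.surj g hs
      exact ⟨u, (D.conj u (hX 0 (by omega)).2 (hX i hi).2 (by rw [hu, (hX 0 (by omega)).1, (hX i hi).1, hg0])).symm⟩
  obtain ⟨u, hu⟩ := hu
  have e1 : repM P (u⁻¹) * repM P u = 1 := by rw [← map_mul, inv_mul_cancel, map_one]
  have e2 : repM P u * repM P (u⁻¹) = 1 := by rw [← map_mul, mul_inv_cancel, map_one]
  rw [hu, map_mul, map_mul]
  calc repM P u * repM P (X 0) * repM P u⁻¹ * (repM P u * repM P (X 0) * repM P u⁻¹) +
        repM P u * repM P (X 0) * repM P u⁻¹ + 1 =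
      repM P u * repM P (X 0) * (repM P u⁻¹ * repM P u) * repM P (X 0) * repM P u⁻¹ +
        repM P u * repM P (X 0) * repM P u⁻¹ + repM P u * repM P u⁻¹ := by rw [e2]; simp only [mul_assoc]
    _ = repM P u * (repM P (X 0) * repM P (X 0) + repM P (X 0) + 1) * repM P u⁻¹ := by
      rw [e1, mul_one]
      noncomm_ring
    _ = 0 := by rw [h3, mul_zero, zero_mul]

theorem comm_all (D : Dc π z) (hN : 6 ≤ N) (hsg : ∀ x, Equiv.Perm.sign (π x) = 1) (h2 : (2 : F) ≠ 0)
    (hz : repM P z = -1) (hX : ∀ i < N, π (X i) = cyc N i) {w : Matrix ι ι F}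
    (h : ∀ i < N, aa (repM P) X i ∈ commG w) (x : P) : w * repM P x = repM P x * w := by
  let S : Subgroup P :=
    { carrier := {x | w * repM P x = repM P x * w}
      one_mem' := by
        change w * repM P 1 = repM P 1 * w
        rw [map_one, mul_one, one_mul]
      mul_mem' := by
        intro x y hx hy
        have hx' : w * repM P x = repM P x * w := hx
        have hy' : w * repM P y = repM P y * w := hy
        change w * repM P (x * y) = repM P (x * y) * w
        rw [map_mul, ← mul_assoc, hx', mul_assoc, hy', mul_assoc]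
      inv_mem' := by
        intro x hx
        have hx' : w * repM P x = repM P x * w := hx
        have e1 : repM P (x⁻¹) * repM P x = 1 := by rw [← map_mul, inv_mul_cancel, map_one]
        have e2 : repM P x * repM P (x⁻¹) = 1 := by rw [← map_mul, mul_inv_cancel, map_one]
        change w * repM P x⁻¹ = repM P x⁻¹ * w
        calc w * repM P x⁻¹ = repM P x⁻¹ * (repM P x * w) * repM P x⁻¹ := by rw [← mul_assoc, e1, one_mul]
          _ = repM P x⁻¹ * w := by rw [← hx', mul_assoc, mul_assoc, e2, mul_one] }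
  refine mem_of_gens (S := S) D (by omega) hsg ?_ hX ?_ x
  · change w * repM P z = repM P z * w
    rw [hz, mul_neg, neg_mul, mul_one, one_mul]
  · intro i hi
    have h3 := h i hi
    have h4 : (2 : ℕ) • repM P (X i) ∈ commG w := by
      have : (2 : ℕ) • repM P (X i) = aa (repM P) X i - 1 := by unfold aa; rw [two_smul]; abel
      rw [this]
      refine (commG w).sub_mem h3 ?_
      change w * 1 = 1 * w
      rw [mul_one, one_mul]
    exact commG_two h2 w _ h4

theorem intertwine (D : Dc π z) (hN : 6 ≤ N) (hsg : ∀ x, Equiv.Perm.sign (π x) = 1) (h2 : (2 : F) ≠ 0)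
    (hz : repM P z = -1) (hX : ∀ i < N, π (X i) = cyc N i ∧ X i * X i * X i = 1) {w : Matrix ι ι F}
    (h : ∀ i < N, aa (repM P) X i ∈ antiG w) (x : P) : ∃ y, w * repM P x = y * w := by
  let S : Subgroup P :=
    { carrier := {x | (∃ y, w * repM P x = y * w) ∧ ∃ y, w * repM P x⁻¹ = y * w}
      one_mem' := by
        change (∃ y, w * repM P 1 = y * w) ∧ ∃ y, w * repM P 1⁻¹ = y * w
        rw [inv_one, map_one]
        exact ⟨⟨1, by rw [mul_one, one_mul]⟩, ⟨1, by rw [mul_one, one_mul]⟩⟩
      mul_mem' := by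
        rintro x y ⟨⟨a, ha⟩, a', ha'⟩ ⟨⟨b, hb⟩, b', hb'⟩
        refine ⟨⟨a * b, ?_⟩, b' * a', ?_⟩
        · rw [map_mul, ← mul_assoc, ha, mul_assoc, hb, mul_assoc]
        · rw [_root_.mul_inv_rev, map_mul, ← mul_assoc, hb', mul_assoc, ha', mul_assoc]
      inv_mem' := by
        rintro x ⟨h1, h2⟩
        refine ⟨h2, ?_⟩
        rw [inv_inv]
        exact h1 }
  have hx : x ∈ S := by
    refine mem_of_gens (S := S) D (by omega) hsg ?_ (fun i hi => (hX i hi).1) ?_ x
    · have hzi : z⁻¹ = z := inv_eq_of_mul_eq_one_right D.zz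
      change (∃ y, w * repM P z = y * w) ∧ ∃ y, w * repM P z⁻¹ = y * w
      rw [hzi, hz]
      exact ⟨⟨-1, by rw [mul_neg, neg_mul, mul_one, one_mul]⟩, ⟨-1, by rw [mul_neg, neg_mul, mul_one, one_mul]⟩⟩
    · intro i hi
      have h3 : w * aa (repM P) X i = -(aa (repM P) X i * w) := h i hi
      have h4 : w * repM P (X i) = ((2 : F)⁻¹ • (-aa (repM P) X i - 1)) * w := by
        have e : repM P (X i) = (2 : F)⁻¹ • (aa (repM P) X i - 1) := by
          have : aa (repM P) X i - 1 = (2 : F) • repM P (X i) := by unfold aa; rw [two_smul]; abel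
          rw [this, smul_smul, inv_mul_cancel₀ h2, one_smul]
        rw [smul_mul_assoc, sub_mul, neg_mul, ← h3, one_mul]
        nth_rewrite 1 [e]
        rw [mul_smul_comm, mul_sub, mul_one]
      refine ⟨⟨_, h4⟩, ?_⟩
      have h5 : (X i)⁻¹ = X i * X i := inv_eq_of_mul_eq_one_left (hX i hi).2
      rw [h5, map_mul, ← mul_assoc, h4, mul_assoc, h4, ← mul_assoc]
      exact ⟨_, rfl⟩
  exact hx.1

theorem scal_of_comm (hC : Core P) {w : Matrix ι ι F} (h : ∀ x : P, w * repM P x = repM P x * w) :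
    ∃ l : F, w = algebraMap F (Matrix ι ι F) l := by
  obtain ⟨c, hc⟩ := hC.absIrred.2 w (by
    rintro _ ⟨g, hg, rfl⟩
    exact h ⟨g, hg⟩)
  exact ⟨c, by rw [hc, Algebra.algebraMap_eq_smul_one]⟩

theorem nil_of_intertwine (hC : Core P) {w : Matrix ι ι F} (h : ∀ x : P, ∃ y, w * repM P x = y * w)
    (hw : w * w = 0) : w = 0 := by
  have hne := hC.nonempty
  rcases hC.absIrred.1 (LinearMap.ker (Matrix.toLin' w)) (by
    rintro _ ⟨g, hg, rfl⟩ _ ⟨v, hv, rfl⟩
    have hv' : w *ᵥ v = 0 := hv
    obtain ⟨y, hy⟩ := h ⟨g, hg⟩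
    change w *ᵥ ((g : Matrix ι ι F) *ᵥ v) = 0
    have hy' : w * (g : Matrix ι ι F) = y * w := hy
    rw [Matrix.mulVec_mulVec, hy', ← Matrix.mulVec_mulVec, hv', Matrix.mulVec_zero]) with h1 | h1
  · exfalso
    have h2 : ∀ v, w *ᵥ v = 0 → v = 0 := by
      intro v hv
      have : v ∈ LinearMap.ker (Matrix.toLin' w) := hv
      rw [h1] at this
      exact (Submodule.mem_bot F).1 this
    obtain ⟨i⟩ := hne
    have h3 : w *ᵥ (w *ᵥ (Pi.single i 1 : ι → F)) = 0 := by
      rw [Matrix.mulVec_mulVec, hw, Matrix.zero_mulVec]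
    have h4 := congrFun (h2 _ (h2 _ h3)) i
    simp at h4
  · apply Matrix.toLin'.injective
    rw [map_zero]
    exact LinearMap.ker_eq_top.1 h1

/-- **The double covers of `A_m`, `m ≥ 8`, in dimension at most twelve**: the dimension is eight, `m = 8`, `9`, or
`m = 10` in characteristic five; the representation is self-dual and has traces in the prime field. -/
theorem spin_core [Finite F] (hC : Core P) (p : ℕ) [hp : Fact p.Prime] [CharP F p]
    (e : Soc P ≃* alternatingGroup (Fin m)) (hm : 8 ≤ m) (hn : Fintype.card ι ≤ 12)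
    (hsc : (scalars ι F).subgroupOf P ≠ ⊥) :
    Fintype.card ι = 8 ∧ (m = 8 ∨ m = 9 ∨ (m = 10 ∧ p = 5)) ∧ p ≠ 2 ∧ SD P ∧ Fr P p := by
  have hne := hC.nonempty
  obtain ⟨h2, z, hz, hzm, hz1, hz'⟩ := (scalars_cases hC e hm).resolve_left hsc
  obtain ⟨N, rfl⟩ : ∃ N, m = N + 2 := ⟨m - 2, by omega⟩
  have D := dc_of e hz hzm hz'
  have hN : 6 ≤ N := by omega
  have hsg := prm_sign e
  have B := dbl D hN hsg hz1 hC.commutator_top
  have hzρ : rep P z = -1 := by
    rw [rep_apply, hz, map_neg, Matrix.toLin'_one]; rfl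
  have hfin : Module.finrank F (ι → F) = Fintype.card ι := Module.finrank_fintype_fun_eq_card F
  obtain ⟨h8, h3⟩ := main (ρ := rep P) D (embHom_sign (emb N hN)) B hzρ h2
    (by rw [hfin]; exact Fintype.card_ne_zero) (by rw [hfin]; exact hn)
  rw [hfin] at h8
  obtain ⟨X, hX⟩ := exists_gens D
  have hsq : ∀ i < N, ∀ j < N, i ≠ j → X i * X j * (X i * X j) = z := fun i hi j hj hij =>
    gens_sq D hN hsg hz1 hC.commutator_top hX hi hj hij
  have hX0 := three_of_rep (h3 (X 0) (hX 0 (by omega)).2 (by rw [(hX 0 (by omega)).1, emb_c0]))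
  have hX3 := three_all D hN hX hX0
  have hzM : repM P z = -1 := hz
  have hp2 : p ≠ 2 := by
    intro h
    apply h2
    have := CharP.cast_eq_zero F p
    rwa [h] at this
  have hm' : N + 2 = 8 ∨ N + 2 = 9 ∨ (N + 2 = 10 ∧ p = 5) := by
    by_cases h9 : N + 2 ≤ 9
    · omega
    · have hb := degree_bound p e (by omega)
      rw [h8] at hb
      have h10 : N + 2 = 10 := by
        split_ifs at hb <;> omega
      right; right
      refine ⟨h10, ?_⟩
      have hdvd : p ∣ 10 := by
        by_contra hnd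
        rw [h10, if_neg hnd] at hb
        omega
      have h5 : p ∣ 2 * 5 := hdvd
      rcases (hp.out.dvd_mul).1 h5 with h6 | h6
      · exact absurd ((Nat.prime_dvd_prime_iff_eq hp.out Nat.prime_two).1 h6) hp2
      · exact (Nat.prime_dvd_prime_iff_eq hp.out Nat.prime_five).1 h6
  let K : Subfield F := RingHom.eqLocusField (frobenius F p) (RingHom.id F)
  have hR := rels_aa hzM hX3 hsq
  have hext : ∀ i < N, pair (aa (repM P) X i) ∈ Al K (cc (aa (repM P) X)) 6 := by
    intro i hi
    by_cases h6 : i < 6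
    · exact gens_al h2 K i h6
    rcases hm' with h | h | ⟨h, h5⟩
    · omega
    · obtain rfl : N = 7 := by omega
      obtain rfl : i = 6 := by omega
      exact ext9 hR h2 K (fun w hw => scal_of_comm hC (comm_all D hN hsg h2 hzM (fun i hi => (hX i hi).1) hw))
    · obtain rfl : N = 8 := by omega
      have h50 : (5 : F) = 0 := by
        have := CharP.cast_eq_zero F p
        rw [h5] at this
        exact_mod_cast this
      have h7 := ext10 hR h2 h50 K
        (fun w hw => scal_of_comm hC (comm_all D hN hsg h2 hzM (fun i hi => (hX i hi).1) hw))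
        (fun w hw hww => nil_of_intertwine hC (intertwine D hN hsg h2 hzM hX hw) hww)
      have h67 : i = 6 ∨ i = 7 := by omega
      rcases h67 with rfl | rfl
      · exact h7.1
      · exact h7.2
  have htr : ∀ x : P, ∃ r ∈ K, tr (x : GL ι F) = r * 8 ∧ tr ((x⁻¹ : P) : GL ι F) = r * 8 := by
    intro x
    obtain ⟨r, hr, h4, h5⟩ := trace_main D hN hsg hzM h2 (fun i hi => (hX i hi).1) hX3 hsq K hext
      (tr := Matrix.traceLinearMap ι F F) (fun x y => Matrix.trace_mul_comm x y) x
    have h1 : Matrix.traceLinearMap ι F F 1 = 8 := by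
      rw [Matrix.traceLinearMap_apply, Matrix.trace_one, h8]
      norm_num
    rw [h1] at h4 h5
    exact ⟨r, hr, h4, h5⟩
  refine ⟨h8, hm', hp2, ?_, ?_⟩
  · intro g hg
    obtain ⟨r, -, h4, h5⟩ := htr ⟨g, hg⟩
    change tr g⁻¹ = r * 8 at h5
    change tr g = r * 8 at h4
    rw [h4, h5]
  · intro g hg
    obtain ⟨r, hr, h4, -⟩ := htr ⟨g, hg⟩
    change tr g = r * 8 at h4
    have h5 : tr g ∈ K := by
      rw [h4]
      exact K.mul_mem hr (by exact_mod_cast natCast_mem K 8)
    exact h5

end Cfsg.Agent.H825.Spin
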