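import Cfsg.Agent.H825.SpinClif

/-!
# The algebra generated by the pairs `(b, -b)` in `R × Rᵐᵒᵖ` (helper825)
-/

set_option autoImplicit false
set_option linter.unusedSectionVars false

namespace Cfsg.Agent.H825.Spin

open MulOpposite

universe u v w

variable {F : Type u} [Field F] {R : Type v} [Ring R] [Algebra F R] {K : Subfield F}

/-- pairs -/
def pair (x : R) : R × Rᵐᵒᵖ := (x, op (-x))

theorem pair_anti {x y : R} (h : x * y = -(y * x)) : pair x * pair y = -(pair y * pair x) := by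
  refine Prod.ext h ?_
  change op (-x) * op (-y) = -(op (-y) * op (-x))
  rw [← op_mul, ← op_mul, neg_mul_neg, neg_mul_neg, h, op_neg, neg_neg]

theorem pair_sq {x : R} {s : F} (h : x * x = algebraMap F R s) :
    pair x * pair x = algebraMap F (R × Rᵐᵒᵖ) s := by
  refine Prod.ext h ?_
  change op (-x) * op (-x) = algebraMap F Rᵐᵒᵖ s
  rw [← op_mul, neg_mul_neg, h]
  rfl

theorem pair_add (x y : R) : pair (x + y) = pair x + pair y := by
  refine Prod.ext rfl ?_
  change op (-(x + y)) = op (-x) + op (-y)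
  rw [neg_add, op_add]

theorem pair_neg (x : R) : pair (-x) = -pair x := rfl

theorem pair_sub (x y : R) : pair (x - y) = pair x - pair y := by
  rw [sub_eq_add_neg, pair_add, pair_neg, sub_eq_add_neg]

theorem pair_smul (r : F) (x : R) : pair (r • x) = r • pair x := by
  refine Prod.ext rfl ?_
  change op (-(r • x)) = r • op (-x)
  rw [← smul_neg, op_smul]

/-- signs of the reversed products -/
def ee (F : Type u) [Field F] : ℕ → F
  | 0 => 1
  | k + 1 => -(sg F (Nat.bodd k)) * ee F k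

theorem pair_Wp {b : ℕ → R} {n : ℕ} (hc : ∀ i < n, ∀ j < n, i ≠ j → b i * b j = -(b j * b i)) {k : ℕ} (hk : k ≤ n) :
    Wp (fun j => pair (b j)) k = (Wp b k, op (ee F k • Wp b k)) := by
  induction k with
  | zero =>
    refine Prod.ext rfl ?_
    change (1 : Rᵐᵒᵖ) = op ((1 : F) • (1 : R))
    rw [one_smul, op_one]
  | succ k ih =>
    change Wp (fun j => pair (b j)) k * pair (b k) = _
    rw [ih (by omega)]
    refine Prod.ext rfl ?_
    change op (ee F k • Wp b k) * op (-b k) = op ((-(sg F (Nat.bodd k)) * ee F k) • (Wp b k * b k))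
    have hd : ∀ i < k, b k * b i = -(b i * b k) := fun i hi => hc k (by omega) i (by omega) (by omega)
    have e1 : -b k * (ee F k • Wp b k) = (-(sg F (Nat.bodd k)) * ee F k) • (Wp b k * b k) := by
      rw [mul_smul_comm, neg_mul, Wp_outer (F := F) hd, ← neg_smul, smul_smul, mul_comm]
    rw [← op_mul, e1]

theorem ee_six : ee F 6 = -1 := by
  simp [ee, sg]

theorem pair_Wp_six (F : Type u) [Field F] [Algebra F R] {b : ℕ → R} (hc : ∀ i < 6, ∀ j < 6, i ≠ j → b i * b j = -(b j * b i)) :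
    Wp (fun j => pair (b j)) 6 = pair (Wp b 6) := by
  rw [pair_Wp (F := F) hc le_rfl, ee_six, neg_one_smul]
  rfl

/-- even plus odd -/
def Al (K : Subfield F) (c : ℕ → R) (n : ℕ) : Set R := {x | ∃ e ∈ El K c n false, ∃ o ∈ El K c n true, x = e + o}

theorem Al.of_even {c : ℕ → R} {n : ℕ} {x : R} (h : x ∈ El K c n false) : x ∈ Al K c n :=
  ⟨x, h, 0, El.zero_mem c n _, (add_zero x).symm⟩

theorem Al.of_odd {c : ℕ → R} {n : ℕ} {x : R} (h : x ∈ El K c n true) : x ∈ Al K c n :=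
  ⟨0, El.zero_mem c n _, x, h, (zero_add x).symm⟩

theorem Al.add_mem {c : ℕ → R} {n : ℕ} {x y : R} (hx : x ∈ Al K c n) (hy : y ∈ Al K c n) : x + y ∈ Al K c n := by
  obtain ⟨e, he, o, ho, rfl⟩ := hx
  obtain ⟨e', he', o', ho', rfl⟩ := hy
  exact ⟨e + e', El.add_mem he he', o + o', El.add_mem ho ho', by abel⟩

theorem Al.smul_mem {c : ℕ → R} {n : ℕ} {x : R} {r : F} (hr : r ∈ K) (hx : x ∈ Al K c n) : r • x ∈ Al K c n := by
  obtain ⟨e, he, o, ho, rfl⟩ := hx
  exact ⟨r • e, El.smul_mem hr he, r • o, El.smul_mem hr ho, smul_add _ _ _⟩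

theorem Al.neg_mem {c : ℕ → R} {n : ℕ} {x : R} (hx : x ∈ Al K c n) : -x ∈ Al K c n := by
  have := Al.smul_mem (K.neg_mem K.one_mem) hx
  rwa [neg_one_smul] at this

theorem Al.sub_mem {c : ℕ → R} {n : ℕ} {x y : R} (hx : x ∈ Al K c n) (hy : y ∈ Al K c n) : x - y ∈ Al K c n := by
  rw [sub_eq_add_neg]
  exact Al.add_mem hx (Al.neg_mem hy)

theorem Al.one_mem (c : ℕ → R) (n : ℕ) : (1 : R) ∈ Al K c n := Al.of_even (El.one_mem c n)

theorem Al.mul_mem {c : ℕ → R} {n : ℕ} (hc : ∀ i < n, ∀ j < n, i ≠ j → c i * c j = -(c j * c i))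
    (hs : ∀ i < n, ∃ s ∈ K, c i * c i = algebraMap F R s) {x y : R} (hx : x ∈ Al K c n) (hy : y ∈ Al K c n) :
    x * y ∈ Al K c n := by
  obtain ⟨e, he, o, ho, rfl⟩ := hx
  obtain ⟨e', he', o', ho', rfl⟩ := hy
  exact ⟨e * e' + o * o', El.add_mem (El.mul_mem hc hs le_rfl he he') (El.mul_mem hc hs le_rfl ho ho'),
    e * o' + o * e', El.add_mem (El.mul_mem hc hs le_rfl he ho') (El.mul_mem hc hs le_rfl ho he'), by
    rw [add_mul, mul_add, mul_add]; abel⟩

/-- the square of the product of the six basis vectors -/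
theorem omega_sq {a : ℕ → R} (h : Rels 6 a) (h2 : (2 : F) ≠ 0) :
    Wp (bb a) 6 * Wp (bb a) 6 = algebraMap F R (-65536) := by
  have hc := bb_anti h
  have hs : ∀ i < 6, bb a i * bb a i = algebraMap F R ((sb i : ℤ) : F) := fun i hi => by
    rw [bb_sq h h2 i hi, map_intCast]
  have h0 : Wp (bb a) 0 * Wp (bb a) 0 = algebraMap F R 1 := by
    rw [map_one]; exact one_mul 1
  have h1 := Wp_sq hc hs (k := 0) (by norm_num) h0
  have h3 := Wp_sq hc hs (k := 1) (by norm_num) h1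
  have h4 := Wp_sq hc hs (k := 2) (by norm_num) h3
  have h5 := Wp_sq hc hs (k := 3) (by norm_num) h4
  have h6 := Wp_sq hc hs (k := 4) (by norm_num) h5
  have h7 := Wp_sq hc hs (k := 5) (by norm_num) h6
  rw [h7]
  congr 1
  simp only [Nat.bodd, sg, sb]
  norm_num

theorem pow_two_ne (h2 : (2 : F) ≠ 0) : (65536 : F) ≠ 0 := by
  have : (65536 : F) = 2 ^ 16 := by norm_num
  rw [this]
  exact pow_ne_zero _ h2

/-- the trace functional on pairs -/
def tau (tr : R →ₗ[F] F) : R × Rᵐᵒᵖ →ₗ[F] F × F where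
  toFun x := (tr x.1, tr x.2.unop)
  map_add' x y := by simp
  map_smul' r x := by simp

theorem tau_comm {tr : R →ₗ[F] F} (htr : ∀ x y, tr (x * y) = tr (y * x)) (x y : R × Rᵐᵒᵖ) :
    tau tr (x * y) = tau tr (y * x) := by
  refine Prod.ext (htr _ _) ?_
  change tr (x.2 * y.2).unop = tr (y.2 * x.2).unop
  rw [unop_mul, unop_mul, htr]

/-- the generators of the algebra -/
def cc (a : ℕ → R) (j : ℕ) : R × Rᵐᵒᵖ := pair (bb a j)

theorem cc_anti {a : ℕ → R} (h : Rels 6 a) : ∀ i < 6, ∀ j < 6, i ≠ j → cc a i * cc a j = -(cc a j * cc a i) :=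
  fun i hi j hj hij => pair_anti (bb_anti h i hi j hj hij)

theorem cc_sq {a : ℕ → R} (h : Rels 6 a) (h2 : (2 : F) ≠ 0) (K : Subfield F) :
    ∀ i < 6, ∃ s ∈ K, cc a i * cc a i = algebraMap F (R × Rᵐᵒᵖ) s := fun i hi =>
  ⟨((sb i : ℤ) : F), intCast_mem K _, pair_sq (by rw [bb_sq h h2 i hi, map_intCast])⟩

theorem trace_al {tr : R →ₗ[F] F} (htr : ∀ x y, tr (x * y) = tr (y * x)) (h2 : (2 : F) ≠ 0) {a : ℕ → R}
    (h : Rels 6 a) {x : R × Rᵐᵒᵖ} (hx : x ∈ Al K (cc a) 6) :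
    ∃ r ∈ K, tr x.1 = r * tr 1 ∧ tr x.2.unop = r * tr 1 := by
  obtain ⟨e, he, o, ho, rfl⟩ := hx
  obtain ⟨r, hr, h3⟩ := El.tau (tau tr) (tau_comm htr) h2 (cc_anti h) le_rfl he
  have hW : Wp (cc a) 6 = pair (Wp (bb a) 6) := pair_Wp_six F (bb_anti h)
  have h65 := pow_two_ne h2
  have hsq : Wp (cc a) 6 * Wp (cc a) 6 = algebraMap F (R × Rᵐᵒᵖ) (-65536) := by
    rw [hW]
    exact pair_sq (omega_sq h h2)
  have hne : (-65536 : F) ≠ 0 := neg_ne_zero.2 h65
  have h4 : tau tr o = 0 := by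
    refine El.tau_odd (tau tr) (tau_comm htr) h2 (ω := Wp (cc a) 6) (ω' := (-65536 : F)⁻¹ • Wp (cc a) 6) ?_ ?_ ?_ ho
    · rw [mul_smul_comm, hsq, Algebra.algebraMap_eq_smul_one, smul_smul, inv_mul_cancel₀ hne, one_smul]
    · rw [smul_mul_assoc, hsq, Algebra.algebraMap_eq_smul_one, smul_smul, inv_mul_cancel₀ hne, one_smul]
    · intro j hj
      have h5 := Wp_inner (F := F) (cc_anti h) le_rfl hj
      have h6 : sg F (!Nat.bodd 6) = -1 := rfl
      rw [h6, neg_one_smul] at h5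
      rw [h5, neg_neg]
  refine ⟨r, hr, ?_⟩
  have h5 : tau tr (e + o) = r • tau tr 1 := by rw [map_add, h3, h4, add_zero]
  exact ⟨congrArg Prod.fst h5, congrArg Prod.snd h5⟩

theorem gens_al {a : ℕ → R} (h2 : (2 : F) ≠ 0) (K : Subfield F) : ∀ i < 6, pair (a i) ∈ Al K (cc a) 6 := by
  obtain ⟨h0, h1, h3, h4, h5, h6⟩ := bb_gen a
  have hb : ∀ j < 6, pair (bb a j) ∈ Al K (cc a) 6 := fun j hj => Al.of_odd (El.gen_mem (cc a) hj)
  have h2K : (2 : F)⁻¹ ∈ K := K.inv_mem (by exact_mod_cast natCast_mem K 2)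
  have key2 : ∀ {x y : R}, 2 • x = y → pair y ∈ Al K (cc a) 6 → pair x ∈ Al K (cc a) 6 := by
    intro x y hxy hy
    have e : x = (2 : F)⁻¹ • y := by
      rw [← hxy, ← Nat.cast_smul_eq_nsmul F, smul_smul, Nat.cast_ofNat, inv_mul_cancel₀ h2, one_smul]
    rw [e, pair_smul]
    exact Al.smul_mem h2K hy
  have key4 : ∀ {x y : R}, 4 • x = y → pair y ∈ Al K (cc a) 6 → pair x ∈ Al K (cc a) 6 := by
    intro x y hxy hy
    apply key2 (y := 2 • x) rfl
    apply key2 (y := y) _ hy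
    rw [smul_smul]
    exact hxy
  have hb2 : ∀ j < 6, pair (2 • bb a j) ∈ Al K (cc a) 6 := by
    intro j hj
    rw [two_smul, pair_add]
    exact Al.add_mem (hb j hj) (hb j hj)
  intro i hi
  have hi' : i = 0 ∨ i = 1 ∨ i = 2 ∨ i = 3 ∨ i = 4 ∨ i = 5 := by omega
  rcases hi' with rfl | rfl | rfl | rfl | rfl | rfl
  · apply key2 h0
    rw [pair_add]
    exact Al.add_mem (hb 0 (by norm_num)) (hb 3 (by norm_num))
  · apply key2 h1
    rw [pair_sub]
    exact Al.sub_mem (hb 3 (by norm_num)) (hb 0 (by norm_num))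
  · apply key4 h3
    rw [pair_add, pair_sub, pair_add]
    exact Al.add_mem (Al.sub_mem (Al.add_mem (hb 5 (by norm_num)) (hb 3 (by norm_num))) (hb 4 (by norm_num)))
      (hb2 1 (by norm_num))
  · apply key4 h4
    rw [pair_sub, pair_sub, pair_add]
    exact Al.sub_mem (Al.sub_mem (Al.add_mem (hb 5 (by norm_num)) (hb 3 (by norm_num))) (hb 4 (by norm_num)))
      (hb2 1 (by norm_num))
  · apply key4 h5
    rw [pair_add, pair_add, pair_add]
    exact Al.add_mem (Al.add_mem (Al.add_mem (hb 5 (by norm_num)) (hb 3 (by norm_num))) (hb 4 (by norm_num)))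
      (hb2 2 (by norm_num))
  · apply key4 h6
    rw [pair_sub, pair_add, pair_add]
    exact Al.sub_mem (Al.add_mem (Al.add_mem (hb 5 (by norm_num)) (hb 3 (by norm_num))) (hb 4 (by norm_num)))
      (hb2 2 (by norm_num))

/-- a seventh anticommuting vector -/
theorem extra_al [Nontrivial R] {a : ℕ → R} (h : Rels 6 a) (h2 : (2 : F) ≠ 0) (K : Subfield F) {d : R} {t : F} (ht : t ∈ K)
    (hd : ∀ i < 6, d * bb a i = -(bb a i * d)) (hdd : d * d = algebraMap F R (-(t * t))) {l : F}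
    (hl : Wp (bb a) 6 * d = algebraMap F R l) : pair d ∈ Al K (cc a) 6 := by
  have hW : Wp (cc a) 6 = pair (Wp (bb a) 6) := pair_Wp_six F (bb_anti h)
  have h65 := pow_two_ne h2
  have hne : (-65536 : F) ≠ 0 := neg_ne_zero.2 h65
  have hq := omega_sq h h2
  have hdw : d * Wp (bb a) 6 = Wp (bb a) 6 * d := by
    have := Wp_outer (F := F) hd
    have h6 : sg F (Nat.bodd 6) = 1 := rfl
    rwa [h6, one_smul] at this
  have h3 : algebraMap F R (l * l) = algebraMap F R (256 * t * (256 * t)) := by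
    have e1 : Wp (bb a) 6 * d * (Wp (bb a) 6 * d) = Wp (bb a) 6 * Wp (bb a) 6 * (d * d) := by
      calc Wp (bb a) 6 * d * (Wp (bb a) 6 * d) = Wp (bb a) 6 * (d * Wp (bb a) 6) * d := by simp only [mul_assoc]
        _ = _ := by rw [hdw]; simp only [mul_assoc]
    rw [map_mul, ← hl, e1, hq, hdd, ← map_mul]
    congr 1
    ring
  have h4 : l * l = 256 * t * (256 * t) := (algebraMap F R).injective h3
  have hlK : l ∈ K := by
    have h256 : (256 : F) * t ∈ K := K.mul_mem (by exact_mod_cast natCast_mem K 256) ht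
    rcases mul_self_eq_mul_self_iff.1 h4 with h5 | h5
    · rw [h5]; exact h256
    · rw [h5]; exact K.neg_mem h256
  have h5 : d = ((-65536 : F)⁻¹ * l) • Wp (bb a) 6 := by
    have e1 : (-65536 : F) • d = l • Wp (bb a) 6 := by
      calc (-65536 : F) • d = Wp (bb a) 6 * Wp (bb a) 6 * d := by rw [hq, Algebra.smul_def]
        _ = Wp (bb a) 6 * algebraMap F R l := by rw [mul_assoc, hl]
        _ = l • Wp (bb a) 6 := by rw [← Algebra.commutes, ← Algebra.smul_def]
    rw [mul_smul, ← e1, smul_smul, inv_mul_cancel₀ hne, one_smul]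
  rw [h5, pair_smul, ← hW]
  refine Al.smul_mem (K.mul_mem (K.inv_mem (K.neg_mem (by exact_mod_cast natCast_mem K 65536))) hlK) ?_
  exact Al.of_even (Wp_mem K (cc a) 6)

end Cfsg.Agent.H825.Spin
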