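import Cfsg.Agent.H825.SpinDim

/-!
# Quaternion groups in the double covers of the alternating groups (helper825)
-/

set_option autoImplicit false
set_option linter.unusedSectionVars false

namespace Cfsg.Agent.H825.Spin

open Module

universe u v w

section group

variable {P : Type w} [Group P]

/-- `a, b` generate `SL_2(3)` with central involution `z` -/
structure Sl (z a b : P) : Prop where
  zz : z * z = 1
  zc : ∀ x, z * x = x * z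
  aa : a * a * a = 1
  bb : b * b * b = 1
  ab : a * b * (a * b) = z

variable {z a b : P}

namespace Sl

theorem aba (h : Sl z a b) : a * b * a = z * b⁻¹ := by
  rw [eq_mul_inv_iff_mul_eq, mul_assoc (a * b), h.ab]

theorem baba (h : Sl z a b) : b * a * (b * a) = z := by
  have h1 : b * a * (b * a) = a⁻¹ * (a * b * (a * b)) * a := by group
  rw [h1, h.ab, mul_assoc, h.zc, ← mul_assoc, inv_mul_cancel, one_mul]

theorem bab (h : Sl z a b) : b * a * b = z * a⁻¹ := by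
  rw [eq_mul_inv_iff_mul_eq, mul_assoc (b * a), h.baba]

theorem inv_a (h : Sl z a b) : a⁻¹ * a⁻¹ = a := by
  rw [← mul_inv_rev, inv_eq_iff_mul_eq_one, h.aa]

theorem inv_b (h : Sl z a b) : b⁻¹ * b⁻¹ = b := by
  rw [← mul_inv_rev, inv_eq_iff_mul_eq_one, h.bb]

theorem swap (h : Sl z a b) : Sl z b a := ⟨h.zz, h.zc, h.bb, h.aa, h.baba⟩

theorem inv (h : Sl z a b) : Sl z a⁻¹ b⁻¹ := by
  have hz : z⁻¹ = z := by rw [inv_eq_iff_mul_eq_one, h.zz]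
  refine ⟨h.zz, h.zc, ?_, ?_, ?_⟩
  · rw [h.inv_a, mul_inv_cancel]
  · rw [h.inv_b, mul_inv_cancel]
  · rw [← mul_inv_rev, ← mul_inv_rev, h.baba, hz]

/-- `i` -/
theorem jj (h : Sl z a b) : a⁻¹ * b * a⁻¹ * (a⁻¹ * b * a⁻¹) = z := by
  have h1 : a⁻¹ * b * a⁻¹ * (a⁻¹ * b * a⁻¹) = a⁻¹ * (b * (a⁻¹ * a⁻¹) * b) * a⁻¹ := by group
  rw [h1, h.inv_a, h.bab, ← mul_assoc, ← h.zc, mul_assoc, mul_assoc, h.inv_a,
    inv_mul_cancel, mul_one]

theorem ij (h : Sl z a b) : a * b * (a⁻¹ * b * a⁻¹) = b * a := by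
  have h1 : a * b * (a⁻¹ * b * a⁻¹) = (a * b * a) * (a⁻¹ * a⁻¹) * b * a⁻¹ := by group
  rw [h1, h.inv_a, h.aba]
  have h2 : z * b⁻¹ * a * b * a⁻¹ = z * b⁻¹ * (a * b * a) * (a⁻¹ * a⁻¹) := by group
  rw [h2, h.aba, h.inv_a]
  have h3 : z * b⁻¹ * (z * b⁻¹) = z * z * (b⁻¹ * b⁻¹) := by
    rw [mul_assoc, ← mul_assoc b⁻¹, ← h.zc, mul_assoc, mul_assoc]
  rw [h3, h.zz, one_mul, h.inv_b]

theorem ai (_h : Sl z a b) (h3 : a⁻¹ * a⁻¹ = a) : a * (a * b) = a⁻¹ * b * a⁻¹ * a := by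
  rw [inv_mul_cancel_right, ← mul_assoc]
  congr 1
  nth_rewrite 1 [← h3]
  rw [inv_mul_cancel_right]

theorem ai' (h : Sl z a b) : a * (a * b) = a⁻¹ * b * a⁻¹ * a := h.ai h.inv_a

theorem aj (h : Sl z a b) : a * (a⁻¹ * b * a⁻¹) = b * a * a := by
  have h1 : a * a = a⁻¹ := by rw [eq_inv_iff_mul_eq_one, h.aa]
  rw [mul_assoc a⁻¹, mul_inv_cancel_left, mul_assoc, h1]

theorem ak (_h : Sl z a b) : a * (b * a) = a * b * a := (mul_assoc _ _ _).symm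

theorem jk (h : Sl z a b) : a⁻¹ * b * a⁻¹ * (b * a) = a * b := by
  have e1 : a⁻¹ * b * a⁻¹ = a * (a * b) * a⁻¹ := by rw [h.ai', mul_inv_cancel_right]
  have e2 : b * a = a * (a⁻¹ * b * a⁻¹) * a⁻¹ := by rw [h.aj, mul_inv_cancel_right]
  have e3 : a * b = a * (b * a) * a⁻¹ := by rw [h.ak, mul_inv_cancel_right]
  calc a⁻¹ * b * a⁻¹ * (b * a) = (a * (a * b) * a⁻¹) * (a * (a⁻¹ * b * a⁻¹) * a⁻¹) := by rw [← e1, ← e2]
    _ = a * ((a * b) * (a⁻¹ * b * a⁻¹)) * a⁻¹ := by group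
    _ = a * b := by rw [h.ij, ← e3]

theorem ki (h : Sl z a b) : b * a * (a * b) = a⁻¹ * b * a⁻¹ := by
  have e1 : a⁻¹ * b * a⁻¹ = a * (a * b) * a⁻¹ := by rw [h.ai', mul_inv_cancel_right]
  have e2 : b * a = a * (a⁻¹ * b * a⁻¹) * a⁻¹ := by rw [h.aj, mul_inv_cancel_right]
  have e3 : a * b = a * (b * a) * a⁻¹ := by rw [h.ak, mul_inv_cancel_right]
  calc b * a * (a * b) = (a * (a⁻¹ * b * a⁻¹) * a⁻¹) * (a * (b * a) * a⁻¹) := by rw [← e2, ← e3]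
    _ = a * ((a⁻¹ * b * a⁻¹) * (b * a)) * a⁻¹ := by group
    _ = a⁻¹ * b * a⁻¹ := by rw [h.jk, ← e1]

theorem ji (h : Sl z a b) : a⁻¹ * b * a⁻¹ * (a * b) = z * (b * a) := by
  have h1 : a⁻¹ * b * a⁻¹ * (a * b) = z * z * (a⁻¹ * b * a⁻¹ * (a * b)) := by rw [h.zz, one_mul]
  have h2 : z * (a * b) = (a * b)⁻¹ := by
    rw [eq_inv_iff_mul_eq_one, mul_assoc, h.ab, h.zz]
  have h3 : z * (a⁻¹ * b * a⁻¹) = (a⁻¹ * b * a⁻¹)⁻¹ := by
    rw [eq_inv_iff_mul_eq_one, mul_assoc, h.jj, h.zz]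
  have h4 : z * (b * a) = (b * a)⁻¹ := by
    rw [eq_inv_iff_mul_eq_one, mul_assoc, h.baba, h.zz]
  calc a⁻¹ * b * a⁻¹ * (a * b) = (z * (a⁻¹ * b * a⁻¹)) * (z * (a * b)) := by
        rw [mul_assoc z, ← mul_assoc (a⁻¹ * b * a⁻¹) z, ← h.zc, mul_assoc z, ← mul_assoc z z, h.zz, one_mul]
    _ = ((a * b) * (a⁻¹ * b * a⁻¹))⁻¹ := by rw [h2, h3, ← mul_inv_rev]
    _ = z * (b * a) := by rw [h.ij, h4]

end Sl

end group

section ring

variable {F : Type u} [Field F] {V : Type v} [AddCommGroup V] [Module F V]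
variable {P : Type w} [Group P] {ρ : P →* Module.End F V} {z a b : P}

/-- `I + J + K` -/
def S (ρ : P →* Module.End F V) (a b : P) : Module.End F V := ρ (a * b) + ρ (a⁻¹ * b * a⁻¹) + ρ (b * a)

theorem S_def : S ρ a b = ρ (a * b) + ρ (a⁻¹ * b * a⁻¹) + ρ (b * a) := rfl

/-- `(-1 - S)/2` -/
def Q (ρ : P →* Module.End F V) (a b : P) : Module.End F V := (2 : F)⁻¹ • (-1 - S ρ a b)

/-- `(-1 + S)/2` -/
def Qb (ρ : P →* Module.End F V) (a b : P) : Module.End F V := (2 : F)⁻¹ • (-1 + S ρ a b)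

variable (h : Sl z a b) (hz : ρ z = -1)
include h hz

theorem kk' : ρ (b * a) * ρ (b * a) = -1 := by rw [← map_mul, h.baba, hz]
theorem ii' : ρ (a * b) * ρ (a * b) = -1 := by rw [← map_mul, h.ab, hz]
theorem jj' : ρ (a⁻¹ * b * a⁻¹) * ρ (a⁻¹ * b * a⁻¹) = -1 := by rw [← map_mul, h.jj, hz]
theorem ij' : ρ (a * b) * ρ (a⁻¹ * b * a⁻¹) = ρ (b * a) := by rw [← map_mul, h.ij]
theorem jk' : ρ (a⁻¹ * b * a⁻¹) * ρ (b * a) = ρ (a * b) := by rw [← map_mul, h.jk]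
theorem ki' : ρ (b * a) * ρ (a * b) = ρ (a⁻¹ * b * a⁻¹) := by rw [← map_mul, h.ki]
theorem ji' : ρ (a⁻¹ * b * a⁻¹) * ρ (a * b) = -ρ (b * a) := by
  rw [← map_mul, h.ji, map_mul, hz, neg_one_mul]
theorem kj' : ρ (b * a) * ρ (a⁻¹ * b * a⁻¹) = -ρ (a * b) := by
  have h1 := ki' h hz
  rw [← h1, ← mul_assoc, kk' h hz, neg_one_mul]
theorem ik' : ρ (a * b) * ρ (b * a) = -ρ (a⁻¹ * b * a⁻¹) := by
  rw [← ij' h hz, ← mul_assoc, ii' h hz, neg_one_mul]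

theorem SS : S ρ a b * S ρ a b = -3 := by
  rw [S_def, add_mul, add_mul, mul_add, mul_add, mul_add, mul_add, mul_add, mul_add, ii' h hz, jj' h hz, kk' h hz,
    ij' h hz, jk' h hz, ki' h hz, ji' h hz, kj' h hz, ik' h hz]
  have : (3 : Module.End F V) = 1 + 1 + 1 := by norm_num
  rw [this]
  abel

theorem AS : ρ a * S ρ a b = S ρ a b * ρ a := by
  rw [S_def, mul_add, mul_add, add_mul, add_mul, ← map_mul, ← map_mul, ← map_mul, ← map_mul, ← map_mul, ← map_mul,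
    h.ai', h.aj, h.ak]
  abel

theorem Q_mul_Qb (h2 : (2 : F) ≠ 0) : Q ρ a b * Qb ρ a b = 1 := by
  rw [Q, Qb, smul_mul_smul_comm]
  have h1 : (-1 - S ρ a b) * (-1 + S ρ a b) = (2 * 2 : F) • (1 : Module.End F V) := by
    have : (-1 - S ρ a b) * (-1 + S ρ a b) = 1 - S ρ a b * S ρ a b := by noncomm_ring
    rw [this, SS h hz, mul_smul, two_smul, two_smul]
    norm_num
  rw [h1, smul_smul]
  have : (2 : F)⁻¹ * 2⁻¹ * (2 * 2) = 1 := by field_simp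
  rw [this, one_smul]

theorem Qb_mul_Q (h2 : (2 : F) ≠ 0) : Qb ρ a b * Q ρ a b = 1 := by
  rw [Q, Qb, smul_mul_smul_comm]
  have h1 : (-1 + S ρ a b) * (-1 - S ρ a b) = (2 * 2 : F) • (1 : Module.End F V) := by
    have : (-1 + S ρ a b) * (-1 - S ρ a b) = 1 - S ρ a b * S ρ a b := by noncomm_ring
    rw [this, SS h hz, mul_smul, two_smul, two_smul]
    norm_num
  rw [h1, smul_smul]
  have : (2 : F)⁻¹ * 2⁻¹ * (2 * 2) = 1 := by field_simp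
  rw [this, one_smul]

theorem Qb_eq (h2 : (2 : F) ≠ 0) : Qb ρ a b = -1 - Q ρ a b := by
  have h3 : (1 : Module.End F V) = ((2 : F)⁻¹ * 2) • (1 : Module.End F V) := by
    rw [inv_mul_cancel₀ h2, one_smul]
  rw [Q, Qb]
  nth_rewrite 2 [h3]
  rw [mul_smul, ← smul_neg, ← smul_sub, two_smul]
  congr 1
  abel

theorem QQ (h2 : (2 : F) ≠ 0) : Q ρ a b * Q ρ a b + Q ρ a b + 1 = 0 := by
  have h1 := Q_mul_Qb h hz h2
  rw [Qb_eq h hz h2, mul_sub] at h1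
  rw [← h1]
  simp only [mul_neg, mul_one]
  abel

theorem Qb_comm_a : Qb ρ a b * ρ a = ρ a * Qb ρ a b := by
  rw [Qb, smul_mul_assoc, mul_smul_comm, add_mul, mul_add, AS h hz]
  congr 2
  rw [neg_one_mul, mul_neg, mul_one]

/-- `Z = Q⁻¹ A` commutes with `I`, `J`, `K` -/
theorem Z_comm_i : Qb ρ a b * ρ a * ρ (a * b) = ρ (a * b) * (Qb ρ a b * ρ a) := by
  have h1 : ρ a * ρ (a * b) = ρ (a⁻¹ * b * a⁻¹) * ρ a := by rw [← map_mul, ← map_mul, h.ai']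
  rw [mul_assoc, h1, ← mul_assoc, ← mul_assoc]
  congr 1
  rw [Qb, smul_mul_assoc, mul_smul_comm, S_def]
  congr 1
  rw [add_mul, add_mul, add_mul, mul_add, mul_add, mul_add, ij' h hz, jj' h hz, kj' h hz, ii' h hz, ik' h hz,
    neg_one_mul, mul_neg, mul_one]
  abel

theorem Z_comm_j : Qb ρ a b * ρ a * ρ (a⁻¹ * b * a⁻¹) = ρ (a⁻¹ * b * a⁻¹) * (Qb ρ a b * ρ a) := by
  have h1 : ρ a * ρ (a⁻¹ * b * a⁻¹) = ρ (b * a) * ρ a := by rw [← map_mul, ← map_mul, h.aj]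
  rw [mul_assoc, h1, ← mul_assoc, ← mul_assoc]
  congr 1
  rw [Qb, smul_mul_assoc, mul_smul_comm, S_def]
  congr 1
  rw [add_mul, add_mul, add_mul, mul_add, mul_add, mul_add, ik' h hz, jk' h hz, kk' h hz, ji' h hz, jj' h hz,
    neg_one_mul, mul_neg, mul_one]
  abel

end ring

end Cfsg.Agent.H825.Spin
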