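import Cfsg.Agent.H825.SpinKey

/-!
# The lift of a 3-cycle acts with `y² + y + 1 = 0`, III : characteristic `≠ 3` (helper825)
-/

set_option autoImplicit false
set_option linter.unusedSectionVars false

namespace Cfsg.Agent.H825.Spin

open Module

universe u v w

variable {F : Type u} [Field F] {V : Type v} [AddCommGroup V] [Module F V]
variable {P : Type w} [Group P] {ρ : P →* Module.End F V} {z a b c d σ σ' : P}

theorem tr_conj (u x : P) : LinearMap.trace F V (ρ (u * x * u⁻¹)) = LinearMap.trace F V (ρ x) := by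
  rw [map_mul ρ, map_mul ρ, LinearMap.trace_mul_comm, ← mul_assoc, ← map_mul ρ, inv_mul_cancel, map_one, one_mul]

theorem tr_zero (hz : ρ z = -1) (h2 : (2 : F) ≠ 0) {X : Module.End F V} {u y : P} (hX : Commute X (ρ u))
    (hy : u * y * u⁻¹ = z * y) : LinearMap.trace F V (X * ρ y) = 0 := by
  have h1 : LinearMap.trace F V (X * ρ y) = -LinearMap.trace F V (X * ρ y) := by
    calc LinearMap.trace F V (X * ρ y) = LinearMap.trace F V ((X * ρ y) * (ρ u⁻¹ * ρ u)) := by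
          rw [← map_mul ρ, inv_mul_cancel, map_one, mul_one]
      _ = LinearMap.trace F V (ρ u * (X * ρ y * ρ u⁻¹)) := by rw [← mul_assoc, LinearMap.trace_mul_comm]
      _ = LinearMap.trace F V (X * ρ (u * y * u⁻¹)) := by
          rw [map_mul ρ, map_mul ρ, ← mul_assoc, ← mul_assoc, ← hX.eq]; simp only [mul_assoc]
      _ = -LinearMap.trace F V (X * ρ y) := by rw [hy, map_mul ρ, hz, neg_one_mul, mul_neg, map_neg]
  have h3 : (2 : F) * LinearMap.trace F V (X * ρ y) = 0 := by linear_combination h1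
  exact (mul_eq_zero.1 h3).resolve_left h2

theorem Sl.iji (h : Sl z a b) : a * b * (a⁻¹ * b * a⁻¹) * (a * b)⁻¹ = z * (a⁻¹ * b * a⁻¹) := by
  rw [mul_inv_eq_iff_eq_mul, mul_assoc z, h.ji, ← mul_assoc z z, h.zz, one_mul, h.ij]

theorem Sl.jij (h : Sl z a b) : a⁻¹ * b * a⁻¹ * (a * b) * (a⁻¹ * b * a⁻¹)⁻¹ = z * (a * b) := by
  rw [mul_inv_eq_iff_eq_mul, mul_assoc z, h.ij, h.ji]

theorem Sl.iki (h : Sl z a b) : a * b * (b * a) * (a * b)⁻¹ = z * (b * a) := by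
  rw [← h.ij]
  have h1 : a * b * (a * b * (a⁻¹ * b * a⁻¹)) * (a * b)⁻¹ = a * b * (a * b * (a⁻¹ * b * a⁻¹) * (a * b)⁻¹) := by group
  rw [h1, h.iji, ← mul_assoc, ← h.zc, mul_assoc]

theorem tr_S (h : Sl z a b) (hz : ρ z = -1) (h2 : (2 : F) ≠ 0) {X : Module.End F V} (hI : Commute X (ρ (a * b)))
    (hJ : Commute X (ρ (a⁻¹ * b * a⁻¹))) : LinearMap.trace F V (X * S ρ a b) = 0 := by
  rw [S_def, mul_add, mul_add, map_add, map_add, tr_zero hz h2 hJ h.jij, tr_zero hz h2 hI h.iji,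
    tr_zero hz h2 hI h.iki, add_zero, add_zero]

theorem tr_Q (h : Sl z a b) (hz : ρ z = -1) (h2 : (2 : F) ≠ 0) {X : Module.End F V} (hI : Commute X (ρ (a * b)))
    (hJ : Commute X (ρ (a⁻¹ * b * a⁻¹))) : LinearMap.trace F V (X * Q ρ a b) = -(2 : F)⁻¹ * LinearMap.trace F V X := by
  rw [Q, mul_smul_comm, map_smul, mul_sub, map_sub, tr_S h hz h2 hI hJ, mul_neg, mul_one, map_neg, sub_zero,
    smul_eq_mul, mul_neg, neg_mul]

theorem tr_Qb (h : Sl z a b) (hz : ρ z = -1) (h2 : (2 : F) ≠ 0) {X : Module.End F V} (hI : Commute X (ρ (a * b)))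
    (hJ : Commute X (ρ (a⁻¹ * b * a⁻¹))) : LinearMap.trace F V (X * Qb ρ a b) = -(2 : F)⁻¹ * LinearMap.trace F V X := by
  rw [Qb, mul_smul_comm, map_smul, mul_add, map_add, tr_S h hz h2 hI hJ, mul_neg, mul_one, map_neg, add_zero,
    smul_eq_mul, mul_neg, neg_mul]

theorem a_inv (h : Sl z a b) (hz : ρ z = -1) (h2 : (2 : F) ≠ 0) : ρ a⁻¹ = Z ρ a b * Z ρ a b * Qb ρ a b := by
  have h1 : ρ a⁻¹ * (Q ρ a b * Z ρ a b) = 1 := by rw [QZ h hz h2, ← map_mul, inv_mul_cancel, map_one]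
  calc ρ a⁻¹ = ρ a⁻¹ * (Q ρ a b * (Z ρ a b * (Z ρ a b * Z ρ a b)) * Qb ρ a b) := by
        rw [← mul_assoc (Z ρ a b) (Z ρ a b), ZZZ h hz h2, mul_one, Q_mul_Qb h hz h2, mul_one]
    _ = (ρ a⁻¹ * (Q ρ a b * Z ρ a b)) * (Z ρ a b * Z ρ a b * Qb ρ a b) := by simp only [mul_assoc]
    _ = Z ρ a b * Z ρ a b * Qb ρ a b := by rw [h1, one_mul]

/-- operators commuting with both quaternion groups -/
structure Good (ρ : P →* Module.End F V) (a b c d : P) (X : Module.End F V) : Prop where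
  i : Commute X (ρ (a * b))
  j : Commute X (ρ (a⁻¹ * b * a⁻¹))
  i' : Commute X (ρ (c * d))
  j' : Commute X (ρ (c⁻¹ * d * c⁻¹))

theorem Good.mul {X Y : Module.End F V} (hX : Good ρ a b c d X) (hY : Good ρ a b c d Y) : Good ρ a b c d (X * Y) :=
  ⟨hX.i.mul_left hY.i, hX.j.mul_left hY.j, hX.i'.mul_left hY.i', hX.j'.mul_left hY.j'⟩

theorem good_Z (h : Cfg z a b c d σ) (hz : ρ z = -1) : Good ρ a b c d (Z ρ a b) :=
  ⟨Z_i h.sl hz, Z_j h.sl hz, Z_i' h, Z_j' h⟩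

theorem good_Z' (h : Cfg z a b c d σ) (hz : ρ z = -1) : Good ρ a b c d (Z ρ c d) :=
  ⟨Z'_i h, Z'_j h, Z_i h.sl' hz, Z_j h.sl' hz⟩

theorem Good.r {X : Module.End F V} (hX : Good ρ a b c d X) : Commute X (ρ (a * b * (c * d))) := by
  rw [map_mul]; exact hX.i.mul_right hX.i'

theorem Good.s {X : Module.End F V} (hX : Good ρ a b c d X) : Commute X (ρ (a⁻¹ * b * a⁻¹ * (c⁻¹ * d * c⁻¹))) := by
  rw [map_mul]; exact hX.j.mul_right hX.j'

theorem Good.mem {X : Module.End F V} (hX : Good ρ a b c d X) : ∀ v ∈ U ρ a b c d, X v ∈ U ρ a b c d := by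
  intro v hv
  obtain ⟨h1, h2⟩ := mem_U.1 hv
  rw [mem_U]
  constructor
  · rw [← Module.End.mul_apply, ← hX.r.eq, Module.End.mul_apply, h1]
  · rw [← Module.End.mul_apply, ← hX.s.eq, Module.End.mul_apply, h2]

theorem tr_U [FiniteDimensional F V] (h : Cfg z a b c d σ) (hz : ρ z = -1) (h2 : (2 : F) ≠ 0) {X : Module.End F V}
    (hX : Good ρ a b c d X) :
    LinearMap.trace F V X = 4 * LinearMap.trace F (U ρ a b c d) (X.restrict hX.mem) := by
  set r := a * b * (c * d) with hr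
  set s := a⁻¹ * b * a⁻¹ * (c⁻¹ * d * c⁻¹) with hs
  let e : Module.End F V := 1 + ρ r + ρ s + ρ (r * s)
  have he : ∀ v, e v = v + ρ r v + ρ s v + ρ (r * s) v := fun v => rfl
  have rr : ∀ v, ρ r (ρ r v) = v := fun v => by rw [← rho_mul, h.r11, map_one]; rfl
  have ss : ∀ v, ρ s (ρ s v) = v := fun v => by rw [← rho_mul, h.r22, map_one]; rfl
  have rs : ∀ v, ρ r (ρ s v) = ρ s (ρ r v) := fun v => by rw [← rho_mul, ← rho_mul, h.uni.comm]
  have heU : ∀ v, e v ∈ U ρ a b c d := by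
    intro v
    rw [mem_U, he, rho_mul r s, map_add, map_add, map_add, map_add, map_add, map_add]
    constructor
    · change ρ r v + ρ r (ρ r v) + ρ r (ρ s v) + ρ r (ρ r (ρ s v)) = v + ρ r v + ρ s v + ρ r (ρ s v)
      rw [rr, rr]
      abel
    · change ρ s v + ρ s (ρ r v) + ρ s (ρ s v) + ρ s (ρ r (ρ s v)) = v + ρ r v + ρ s v + ρ r (ρ s v)
      rw [ss, ← rs, ← rs, ss]
      abel
  have he1 : ∀ v ∈ U ρ a b c d, e v = (4 : F) • v := by
    intro v hv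
    obtain ⟨h3, h4⟩ := mem_U.1 hv
    rw [he, rho_mul r s, h4, h3]
    have : (4 : F) = 1 + 1 + 1 + 1 := by norm_num
    rw [this, add_smul, add_smul, add_smul, one_smul]
  have t1 : LinearMap.trace F V (X * e) = LinearMap.trace F V X := by
    have hexp : X * e = X + X * ρ r + X * ρ s + X * ρ (r * s) := by
      change X * (1 + ρ r + ρ s + ρ (r * s)) = _
      rw [mul_add, mul_add, mul_add, mul_one]
    have hir : a * b * r * (a * b)⁻¹ = r := by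
      have h1 : Commute (a * b) (a * b * (c * d)) := (Commute.refl _).mul_right h.II'
      rw [hr, h1.eq, mul_inv_cancel_right]
    have his : a * b * s * (a * b)⁻¹ = z * s := by
      have h1 : a * b * (a⁻¹ * b * a⁻¹ * (c⁻¹ * d * c⁻¹)) * (a * b)⁻¹ =
          (a * b * (a⁻¹ * b * a⁻¹) * (a * b)⁻¹) * ((a * b) * (c⁻¹ * d * c⁻¹) * (a * b)⁻¹) := by group
      rw [hs, h1, h.iji, h.IJ'.eq, mul_inv_cancel_right, mul_assoc z]
    have hjr : a⁻¹ * b * a⁻¹ * r * (a⁻¹ * b * a⁻¹)⁻¹ = z * r := by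
      have h1 : a⁻¹ * b * a⁻¹ * (a * b * (c * d)) * (a⁻¹ * b * a⁻¹)⁻¹ =
          (a⁻¹ * b * a⁻¹ * (a * b) * (a⁻¹ * b * a⁻¹)⁻¹) *
            ((a⁻¹ * b * a⁻¹) * (c * d) * (a⁻¹ * b * a⁻¹)⁻¹) := by group
      rw [hr, h1, h.jij, h.JI'.eq, mul_inv_cancel_right, mul_assoc z]
    have hirs : a * b * (r * s) * (a * b)⁻¹ = z * (r * s) := by
      have h1 : a * b * (r * s) * (a * b)⁻¹ = (a * b * r * (a * b)⁻¹) * (a * b * s * (a * b)⁻¹) := by group
      rw [h1, hir, his, ← mul_assoc, ← h.sl.zc, mul_assoc]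
    rw [hexp, map_add, map_add, map_add, tr_zero hz h2 hX.j hjr, tr_zero hz h2 hX.i his, tr_zero hz h2 hX.i hirs,
      add_zero, add_zero, add_zero]
  let g : V →ₗ[F] U ρ a b c d := (X * e).codRestrict (U ρ a b c d) (fun v => hX.mem _ (heU v))
  have t2 : LinearMap.trace F V ((U ρ a b c d).subtype ∘ₗ g) = LinearMap.trace F _ (g ∘ₗ (U ρ a b c d).subtype) :=
    LinearMap.trace_comp_comm' _ _
  have t3 : (U ρ a b c d).subtype ∘ₗ g = X * e := rfl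
  have t4 : g ∘ₗ (U ρ a b c d).subtype = (4 : F) • X.restrict hX.mem := by
    ext v
    change X (e v) = (4 : F) • X v
    rw [he1 v v.2, map_smul]
  rw [t3, t1, t4, map_smul, smul_eq_mul] at t2
  exact t2

theorem Z'_k (h : Cfg z a b c d σ) : Commute (Z ρ c d) (ρ (b * a)) := by
  have h1 : Commute (ρ (b * a)) (S ρ c d) := comm_S h.cK.symm h.dK.symm
  exact ((comm_Qb h1).mul_right (h.cK.symm.map ρ)).symm

theorem Z'_S (h : Cfg z a b c d σ) : Commute (Z ρ c d) (S ρ a b) := by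
  rw [S_def]
  exact ((Z'_i h).add_right (Z'_j h)).add_right (Z'_k h)

theorem finalne [FiniteDimensional F V] (h : Cfg z a b c d σ) (hz : ρ z = -1)
    (h2 : (2 : F) ≠ 0) (h3 : (3 : F) ≠ 0) (hn : finrank F V = 8) : ρ a = Q ρ a b := by
  obtain ⟨-, -, d3⟩ := hdim (ρ := ρ) h hz h2
  have hU : finrank F (U ρ a b c d) = 2 := by omega
  have h4 : (4 : F) ≠ 0 := by
    have : (4 : F) = 2 * 2 := by norm_num
    rw [this]; exact mul_ne_zero h2 h2
  have hh : -(2 : F)⁻¹ ≠ 0 := neg_ne_zero.2 (inv_ne_zero h2)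
  have gZ := good_Z (ρ := ρ) h hz
  have gZ' := good_Z' (ρ := ρ) h hz
  -- traces on `V`
  have ta : LinearMap.trace F V (ρ a) = -(2 : F)⁻¹ * LinearMap.trace F V (Z ρ a b) := by
    rw [← QZ h.sl hz h2, (QZ_comm h.sl hz).eq, tr_Q h.sl hz h2 gZ.i gZ.j]
  have tc : LinearMap.trace F V (ρ c) = -(2 : F)⁻¹ * LinearMap.trace F V (Z ρ c d) := by
    rw [← QZ h.sl' hz h2, (QZ_comm h.sl' hz).eq, tr_Q h.sl' hz h2 gZ'.i' gZ'.j']
  have ta' : LinearMap.trace F V (ρ a⁻¹) = -(2 : F)⁻¹ * LinearMap.trace F V (Z ρ a b * Z ρ a b) := by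
    rw [a_inv h.sl hz h2, tr_Qb h.sl hz h2 (gZ.mul gZ).i (gZ.mul gZ).j]
  have tc' : LinearMap.trace F V (ρ c⁻¹) = -(2 : F)⁻¹ * LinearMap.trace F V (Z ρ c d * Z ρ c d) := by
    rw [a_inv h.sl' hz h2, tr_Qb h.sl' hz h2 (gZ'.mul gZ').i' (gZ'.mul gZ').j']
  have QI' : Commute (Q ρ a b) (ρ (c * d)) := (comm_Q (comm_S h.aI'.symm h.bI'.symm)).symm
  have QJ' : Commute (Q ρ a b) (ρ (c⁻¹ * d * c⁻¹)) := (comm_Q (comm_S h.aJ'.symm h.bJ'.symm)).symm
  have QbI' : Commute (Qb ρ a b) (ρ (c * d)) := (comm_Qb (comm_S h.aI'.symm h.bI'.symm)).symm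
  have QbJ' : Commute (Qb ρ a b) (ρ (c⁻¹ * d * c⁻¹)) := (comm_Qb (comm_S h.aJ'.symm h.bJ'.symm)).symm
  have ZQ' : Commute (Z ρ c d) (Q ρ a b) := comm_Q (Z'_S h)
  have ZQb' : Commute (Z ρ c d) (Qb ρ a b) := comm_Qb (Z'_S h)
  have hA : ρ a = Z ρ a b * Q ρ a b := by rw [← (QZ_comm h.sl hz).eq, QZ h.sl hz h2]
  have hCC : ρ c = Z ρ c d * Q ρ c d := by rw [← (QZ_comm h.sl' hz).eq, QZ h.sl' hz h2]
  have tac : LinearMap.trace F V (ρ (a * c)) =
      -(2 : F)⁻¹ * (-(2 : F)⁻¹ * LinearMap.trace F V (Z ρ a b * Z ρ c d)) := by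
    have e1 : ρ (a * c) = (Z ρ a b * Z ρ c d * Q ρ a b) * Q ρ c d := by
      rw [map_mul ρ, hA, hCC, mul_assoc (Z ρ a b) (Z ρ c d), ZQ'.eq]
      simp only [mul_assoc]
    have gg := gZ.mul gZ'
    rw [e1, tr_Q h.sl' hz h2 (gg.i'.mul_left QI') (gg.j'.mul_left QJ'), tr_Q h.sl hz h2 gg.i gg.j]
  have tac' : LinearMap.trace F V (ρ (a⁻¹ * c)) =
      -(2 : F)⁻¹ * (-(2 : F)⁻¹ * LinearMap.trace F V (Z ρ a b * Z ρ a b * Z ρ c d)) := by
    have e1 : ρ (a⁻¹ * c) = (Z ρ a b * Z ρ a b * Z ρ c d * Qb ρ a b) * Q ρ c d := by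
      rw [map_mul ρ, a_inv h.sl hz h2, hCC, mul_assoc (Z ρ a b * Z ρ a b) (Z ρ c d), ZQb'.eq]
      simp only [mul_assoc]
    have gg := (gZ.mul gZ).mul gZ'
    rw [e1, tr_Q h.sl' hz h2 (gg.i'.mul_left QbI') (gg.j'.mul_left QbJ'), tr_Qb h.sl hz h2 gg.i gg.j]
  obtain ⟨u1, hu1⟩ := h.e1
  obtain ⟨u2, hu2, hu2'⟩ := h.e2
  obtain ⟨u3, hu3⟩ := h.e3
  have q1 : LinearMap.trace F V (Z ρ a b) = LinearMap.trace F V (Z ρ a b * Z ρ a b) := by
    apply mul_left_cancel₀ hh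
    rw [← ta, ← ta', ← hu1, tr_conj]
  have q2 : LinearMap.trace F V (Z ρ c d) = LinearMap.trace F V (Z ρ c d * Z ρ c d) := by
    apply mul_left_cancel₀ hh
    rw [← tc, ← tc', ← hu3, tr_conj]
  have q3 : LinearMap.trace F V (Z ρ a b) = LinearMap.trace F V (Z ρ c d) := by
    apply mul_left_cancel₀ hh
    rw [← ta, ← tc, ← h.sa, tr_conj]
  have q4 : LinearMap.trace F V (Z ρ a b * Z ρ c d) = LinearMap.trace F V (Z ρ a b * Z ρ a b * Z ρ c d) := by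
    apply mul_left_cancel₀ hh
    apply mul_left_cancel₀ hh
    rw [← tac, ← tac']
    have h5 : u2 * (a * c) * u2⁻¹ = a⁻¹ * c := by
      have : u2 * (a * c) * u2⁻¹ = (u2 * a * u2⁻¹) * (u2 * c * u2⁻¹) := by group
      rw [this, hu2, hu2']
    rw [← h5, tr_conj]
  -- on `U`
  have hM := end_two (F := F) (U := U ρ a b c d) hU h2 h3 (M := (Z ρ a b).restrict gZ.mem)
    (N := (Z ρ c d).restrict gZ'.mem) ?_ ?_ ?_ ?_ ?_ ?_ ?_
  · have hZ1 : Z ρ a b = 1 := by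
      apply ext_U h hz h2 gZ.i.eq gZ.j.eq
      intro v hv
      have := LinearMap.congr_fun hM ⟨v, hv⟩
      exact congrArg Subtype.val this
    have := QZ h.sl hz h2
    rw [hZ1, mul_one] at this
    exact this.symm
  · ext v
    change (Z ρ a b * Z ρ a b * Z ρ a b) v = v
    rw [ZZZ h.sl hz h2]; rfl
  · ext v
    change (Z ρ c d * Z ρ c d * Z ρ c d) v = v
    rw [ZZZ h.sl' hz h2]; rfl
  · ext v
    change (Z ρ a b * Z ρ c d) v = (Z ρ c d * Z ρ a b) v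
    rw [(ZZ_comm h).eq]
  · apply mul_left_cancel₀ h4
    rw [← tr_U h hz h2 gZ, q1, tr_U h hz h2 (gZ.mul gZ)]; rfl
  · apply mul_left_cancel₀ h4
    rw [← tr_U h hz h2 gZ', q2, tr_U h hz h2 (gZ'.mul gZ')]; rfl
  · apply mul_left_cancel₀ h4
    rw [← tr_U h hz h2 gZ, q3, tr_U h hz h2 gZ']
  · apply mul_left_cancel₀ h4
    have e1 := tr_U h hz h2 (gZ.mul gZ')
    have e2 := tr_U h hz h2 ((gZ.mul gZ).mul gZ')
    have e3 : (Z ρ a b * Z ρ c d).restrict (gZ.mul gZ').mem =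
        (Z ρ a b).restrict gZ.mem * (Z ρ c d).restrict gZ'.mem := rfl
    have e4 : (Z ρ a b * Z ρ a b * Z ρ c d).restrict ((gZ.mul gZ).mul gZ').mem =
        (Z ρ a b).restrict gZ.mem * (Z ρ a b).restrict gZ.mem * (Z ρ c d).restrict gZ'.mem := rfl
    rw [← e3, ← e4, ← e1, ← e2, q4]

/-- **the lift of a 3-cycle is `-(1 + i + j + k)/2`** -/
theorem final [FiniteDimensional F V] (h : Cfg z a b c d σ) (h' : Cfg z a b c⁻¹ d⁻¹ σ') (hz : ρ z = -1)
    (h2 : (2 : F) ≠ 0) (hn : finrank F V = 8) : ρ a * ρ a + ρ a + 1 = 0 := by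
  have h1 : ρ a = Q ρ a b := by
    by_cases h3 : (3 : F) = 0
    · exact final3 h h' hz h2 h3 hn
    · exact finalne h hz h2 h3 hn
  rw [h1]
  exact QQ h.sl hz h2

end Cfsg.Agent.H825.Spin
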